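import Cfsg.Agent.Lib.Linear.OrthSpinor
import Cfsg.Agent.Lib.Linear.OrthSum

/-!
# The affine group over an orthogonal commutator subgroup: element orders and transport
-/

set_option autoImplicit false

namespace Cfsg.Lib.Spec.NineEight

open Module Cfsg.Lib.Linear.Orth
open scoped Matrix

variable {ι : Type} [Fintype ι] [DecidableEq ι] {F : Type*} [Field F]
  {Q : (ι → F) → F} {B : LinearMap.BilinForm F (ι → F)}

/-- A matrix group element as an endomorphism. -/
def lin : GL ι F →* Module.End F (ι → F) where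
  toFun g := Matrix.toLin' g.val
  map_one' := by rw [Units.val_one, Matrix.toLin'_one]; rfl
  map_mul' a b := by rw [Units.val_mul, Matrix.toLin'_mul]; rfl

theorem lin_apply (g : GL ι F) (v : ι → F) : lin g v = g.val *ᵥ v := Matrix.toLin'_apply _ _

theorem lin_injective : Function.Injective (lin (ι := ι) (F := F)) :=
  fun _ _ h => Units.ext (Matrix.toLin'.injective h)

theorem lin_Q {g : GL ι F} (hg : g ∈ isometryGroup F Q) (v : ι → F) : Q (lin g v) = Q v := by
  rw [lin_apply]; exact mem_iso.1 hg v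

theorem lin_B (C : Space Q B) {g : GL ι F} (hg : g ∈ isometryGroup F Q) (u v : ι → F) :
    B (lin g u) (lin g v) = B u v := by
  rw [lin_apply, lin_apply]; exact C.B_act hg u v

theorem lin_B_left (C : Space Q B) {g : GL ι F} (hg : g ∈ isometryGroup F Q) (u v : ι → F) :
    B (lin g u) v = B u (lin g⁻¹ v) := by
  conv_lhs => rw [show v = lin g (lin g⁻¹ v) by
    rw [← Module.End.mul_apply, ← map_mul, mul_inv_cancel, map_one, Module.End.one_apply]]
  exact lin_B C hg u _

theorem lin_mul_inv (g : GL ι F) (v : ι → F) : lin g (lin g⁻¹ v) = v := by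
  rw [← Module.End.mul_apply, ← map_mul, mul_inv_cancel, map_one, Module.End.one_apply]

theorem lin_inv_mul (g : GL ι F) (v : ι → F) : lin g⁻¹ (lin g v) = v := by
  rw [← Module.End.mul_apply, ← map_mul, inv_mul_cancel, map_one, Module.End.one_apply]

/-- An invertible endomorphism preserving the form is an isometry. -/
theorem exists_iso_of_end (T T' : Module.End F (ι → F)) (h1 : T * T' = 1) (h2 : T' * T = 1)
    (hQ : ∀ v, Q (T v) = Q v) : ∃ g : ↥(isometryGroup F Q), lin (g : GL ι F) = T := by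
  let g : GL ι F := ⟨LinearMap.toMatrix' T, LinearMap.toMatrix' T',
    by rw [← LinearMap.toMatrix'_mul, h1, LinearMap.toMatrix'_one],
    by rw [← LinearMap.toMatrix'_mul, h2, LinearMap.toMatrix'_one]⟩
  have hg : lin g = T := Matrix.toLin'_toMatrix' T
  exact ⟨⟨g, mem_iso.2 fun v => by rw [← lin_apply, hg]; exact hQ v⟩, hg⟩

/-! ## The action on the natural module -/

/-- The action of `Ω` on the natural module, written multiplicatively. -/
def actHom (Q : (ι → F) → F) : ↥(Cfsg.Omega F Q) →* MulAut (Multiplicative (ι → F)) :=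
  (MulAutMultiplicative (ι → F)).symm.toMonoidHom.comp
    ((DistribMulAction.toAddAut (LinearMap.GeneralLinearGroup F (ι → F)) (ι → F)).comp
      (Matrix.GeneralLinearGroup.toLin.toMonoidHom.comp
        ((Cfsg.isometryGroup F Q).subtype.comp (Cfsg.Omega F Q).subtype)))

theorem actHom_apply (g : ↥(Cfsg.Omega F Q)) (v : Multiplicative (ι → F)) :
    Multiplicative.toAdd (actHom Q g v) = lin ((g : ↥(isometryGroup F Q)) : GL ι F) v.toAdd := rfl

/-- The affine group. -/
abbrev Aff (Q : (ι → F) → F) : Type _ := Multiplicative (ι → F) ⋊[actHom Q] ↥(Cfsg.Omega F Q)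

/-- `n` is an element order of the affine group. -/
def AffOrd (Q : (ι → F) → F) (n : ℕ) : Prop := ∃ x : Aff Q, orderOf x = n

theorem pow_right (x : Aff Q) (k : ℕ) : (x ^ k).right = x.right ^ k :=
  map_pow (SemidirectProduct.rightHom : Aff Q →* _) x k

theorem pow_left (x : Aff Q) : ∀ k : ℕ, Multiplicative.toAdd (x ^ k).left =
    (∑ i ∈ Finset.range k, lin ((x.right : ↥(isometryGroup F Q)) : GL ι F) ^ i) x.left.toAdd
  | 0 => by rw [pow_zero, Finset.range_zero, Finset.sum_empty, LinearMap.zero_apply]; rfl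
  | k + 1 => by
    rw [pow_succ', SemidirectProduct.mul_left, toAdd_mul, actHom_apply, pow_left x k,
      Finset.sum_range_succ', LinearMap.add_apply, pow_zero, Module.End.one_apply, add_comm,
      ← Module.End.mul_apply, Finset.mul_sum]
    simp only [← pow_succ']

variable [Finite F]

theorem finite_omega : Finite ↥(Cfsg.Omega F Q) := inferInstance

theorem orderOf_pos_omega (g : ↥(Cfsg.Omega F Q)) : 0 < orderOf g := by
  haveI := finite_omega (Q := Q)
  exact orderOf_pos g

open Classical in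
/-- The order of an element of the affine group. -/
theorem orderOf_aff (p : ℕ) [hp : Fact p.Prime] [CharP F p] (x : Aff Q) :
    orderOf x = if (∑ i ∈ Finset.range (orderOf x.right),
      lin ((x.right : ↥(isometryGroup F Q)) : GL ι F) ^ i) x.left.toAdd = 0
      then orderOf x.right else orderOf x.right * p := by
  set n := orderOf x.right with hn
  have hn0 : 0 < n := orderOf_pos_omega x.right
  have hdvd : n ∣ orderOf x := by
    rw [hn]; exact orderOf_map_dvd (SemidirectProduct.rightHom : Aff Q →* _) x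
  have hxn : (x ^ n).right = 1 := by rw [pow_right, hn, pow_orderOf_eq_one]
  have hord : orderOf (x ^ n) = orderOf x / n := orderOf_pow_of_dvd hn0.ne' hdvd
  have hy : x ^ n = SemidirectProduct.inl (x ^ n).left := by
    ext
    · simp
    · simp [hxn]
  have ho : orderOf (x ^ n) = orderOf (x ^ n).left := by
    conv_lhs => rw [hy]
    exact orderOf_injective _ SemidirectProduct.inl_injective _
  have hl : Multiplicative.toAdd (x ^ n).left =
      (∑ i ∈ Finset.range n, lin ((x.right : ↥(isometryGroup F Q)) : GL ι F) ^ i) x.left.toAdd :=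
    pow_left x n
  have hmul : orderOf x = n * orderOf (x ^ n) := by rw [hord, Nat.mul_div_cancel' hdvd]
  split_ifs with h
  · rw [hmul, ho, orderOf_eq_one_iff.2 (Multiplicative.toAdd.injective (by rw [hl, h]; rfl)), mul_one]
  · rw [hmul, ho]
    congr 1
    refine orderOf_eq_prime ?_ fun h1 => h ?_
    · refine Multiplicative.toAdd.injective ?_
      rw [toAdd_pow, toAdd_one, ← Nat.cast_smul_eq_nsmul F, CharP.cast_eq_zero, zero_smul]
    · rw [← hl, h1]; rfl

theorem affOrd_of_mem (p : ℕ) [Fact p.Prime] [CharP F p] {g : ↥(isometryGroup F Q)} (hg : g ∈ Omega F Q) :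
    AffOrd Q (orderOf g) := by
  refine ⟨⟨1, ⟨g, hg⟩⟩, ?_⟩
  rw [orderOf_aff p, if_pos (by simp), Subgroup.orderOf_mk]

theorem affOrd_mul (p : ℕ) [Fact p.Prime] [CharP F p] {g : ↥(isometryGroup F Q)} (hg : g ∈ Omega F Q)
    (v : ι → F) (hv : (∑ i ∈ Finset.range (orderOf g), lin (g : GL ι F) ^ i) v ≠ 0) :
    AffOrd Q (orderOf g * p) := by
  refine ⟨⟨Multiplicative.ofAdd v, ⟨g, hg⟩⟩, ?_⟩
  rw [orderOf_aff p, Subgroup.orderOf_mk, if_neg (by simpa using hv)]

theorem AffOrd.dvd {m n : ℕ} (h : AffOrd Q n) (hmn : m ∣ n) : AffOrd Q m := by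
  obtain ⟨x, rfl⟩ := h
  have h0 : orderOf x ≠ 0 := by
    haveI : Finite (Aff Q) := Finite.of_equiv _ SemidirectProduct.equivProd.symm
    exact (orderOf_pos x).ne'
  exact ⟨x ^ (orderOf x / m), orderOf_pow_orderOf_div h0 hmn⟩

/-! ## Transport along similarities -/

variable {κ : Type} [Fintype κ] [DecidableEq κ] {R : (κ → F) → F}

omit [Finite F] in
/-- A similarity of the spaces carries the isometry group along. -/
theorem exists_transport (e : (ι → F) ≃ₗ[F] (κ → F)) {c : F} (hc : c ≠ 0)
    (he : ∀ v, R (e v) = c * Q v) :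
    ∃ Φ : ↥(isometryGroup F Q) ≃* ↥(isometryGroup F R),
      ∀ g v, lin ((Φ g : ↥(isometryGroup F R)) : GL κ F) (e v) = e (lin (g : GL ι F) v) := by
  classical
  have hfwd : ∀ g : ↥(isometryGroup F Q), ∃ h : ↥(isometryGroup F R),
      lin (h : GL κ F) = e.toLinearMap ∘ₗ lin (g : GL ι F) ∘ₗ e.symm.toLinearMap := fun g => by
    refine exists_iso_of_end _ (e.toLinearMap ∘ₗ lin (g⁻¹ : GL ι F) ∘ₗ e.symm.toLinearMap) ?_ ?_ fun v => ?_
    · refine LinearMap.ext fun v => ?_
      simp [lin_mul_inv, lin_inv_mul, Module.End.mul_apply]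
    · refine LinearMap.ext fun v => ?_
      simp [lin_mul_inv, lin_inv_mul, Module.End.mul_apply]
    · obtain ⟨v, rfl⟩ := e.surjective v
      simp [he, lin_Q g.2]
  choose Φ hΦ using hfwd
  have hact : ∀ g v, lin ((Φ g : ↥(isometryGroup F R)) : GL κ F) (e v) = e (lin (g : GL ι F) v) := fun g v => by
    rw [hΦ]; simp
  let f : ↥(isometryGroup F Q) →* ↥(isometryGroup F R) :=
    { toFun := Φ
      map_one' := Subtype.ext (lin_injective (LinearMap.ext fun v => by
        obtain ⟨v, rfl⟩ := e.surjective v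
        rw [hact]; simp))
      map_mul' := fun a b => Subtype.ext (lin_injective (LinearMap.ext fun v => by
        obtain ⟨v, rfl⟩ := e.surjective v
        simp [hact, Module.End.mul_apply])) }
  have hbij : Function.Bijective f := by
    refine ⟨fun a b hab => Subtype.ext (lin_injective (LinearMap.ext fun v => e.injective ?_)), fun h => ?_⟩
    · have hab' : Φ a = Φ b := hab
      rw [← hact, ← hact, hab']
    · obtain ⟨g, hg⟩ := exists_iso_of_end (Q := Q)
        (e.symm.toLinearMap ∘ₗ lin (h : GL κ F) ∘ₗ e.toLinearMap)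
        (e.symm.toLinearMap ∘ₗ lin (h⁻¹ : GL κ F) ∘ₗ e.toLinearMap)
        (LinearMap.ext fun v => by simp [lin_mul_inv, lin_inv_mul, Module.End.mul_apply])
        (LinearMap.ext fun v => by simp [lin_mul_inv, lin_inv_mul, Module.End.mul_apply])
        (fun v => mul_left_cancel₀ hc (by rw [← he, ← he]; simp [lin_Q h.2]))
      refine ⟨g, Subtype.ext (lin_injective (LinearMap.ext fun v => ?_))⟩
      obtain ⟨v, rfl⟩ := e.surjective v
      show lin ((Φ g : ↥(isometryGroup F R)) : GL κ F) (e v) = _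
      rw [hact, hg]; simp
  exact ⟨MulEquiv.ofBijective f hbij, hact⟩

omit [Finite F] in
theorem map_omega {G H : Type*} [Group G] [Group H] (Φ : G ≃* H) (g : G) :
    Φ g ∈ commutator H ↔ g ∈ commutator G := by
  refine ⟨fun h => ?_, fun h => map_mem_commutator Φ.toMonoidHom h⟩
  have := map_mem_commutator Φ.symm.toMonoidHom h
  simpa using this

/-- Element orders of the affine group are preserved by similarities. -/
theorem AffOrd.transport (p : ℕ) [Fact p.Prime] [CharP F p] (e : (ι → F) ≃ₗ[F] (κ → F)) {c : F} (hc : c ≠ 0)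
    (he : ∀ v, R (e v) = c * Q v) {n : ℕ} (h : AffOrd Q n) : AffOrd R n := by
  classical
  obtain ⟨x, rfl⟩ := h
  obtain ⟨Φ, hΦ⟩ := exists_transport e hc he
  set g : ↥(isometryGroup F Q) := (x.right : ↥(isometryGroup F Q))
  have hmem : Φ g ∈ Omega F R := (map_omega Φ g).2 x.right.2
  refine ⟨⟨Multiplicative.ofAdd (e x.left.toAdd), ⟨Φ g, hmem⟩⟩, ?_⟩
  rw [orderOf_aff p, orderOf_aff p, Subgroup.orderOf_mk, MulEquiv.orderOf_eq,
    show orderOf g = orderOf x.right from Subgroup.orderOf_coe _]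
  refine if_congr ?_ rfl rfl
  have hpow : ∀ (i : ℕ) v, (lin ((Φ g : ↥(isometryGroup F R)) : GL κ F) ^ i) (e v) = e ((lin (g : GL ι F) ^ i) v) := by
    intro i
    induction i with
    | zero => intro v; rfl
    | succ i ih => intro v; rw [pow_succ', pow_succ', Module.End.mul_apply, Module.End.mul_apply, ih, hΦ]
  simp only [toAdd_ofAdd, LinearMap.sum_apply, hpow, ← map_sum]
  exact e.map_eq_zero_iff

/-! ## `p`-elements and decompositions -/

omit [Finite F] in
/-- An element of finite order splits into a `p'`-part and a `p`-part. -/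
theorem exists_parts {G : Type*} [Group G] (p : ℕ) [hp : Fact p.Prime] (g : G) (hg : orderOf g ≠ 0) :
    ∃ (s u : G) (M a : ℕ), g = s * u ∧ Commute s u ∧ orderOf s = M ∧ orderOf u = p ^ a ∧
      Nat.Coprime p M ∧ 0 < M ∧ orderOf g = M * p ^ a ∧ s ∈ Subgroup.zpowers g ∧ u ∈ Subgroup.zpowers g := by
  obtain ⟨a, M, hM, hn⟩ := Nat.exists_eq_pow_mul_and_not_dvd hg p hp.out.ne_one
  have hco : Nat.Coprime (p ^ a) M := Nat.Coprime.pow_left _ (hp.out.coprime_iff_not_dvd.2 hM)
  obtain ⟨k, hk1, hk2⟩ := Nat.chineseRemainder hco 0 1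
  obtain ⟨l, hl1, hl2⟩ := Nat.chineseRemainder hco 1 0
  have hM0 : 0 < M := Nat.pos_of_ne_zero fun h => hg (by rw [hn, h, mul_zero])
  have hs : orderOf (g ^ k) ∣ M := orderOf_dvd_of_pow_eq_one (by
    rw [← pow_mul]
    refine orderOf_dvd_iff_pow_eq_one.1 ?_
    rw [hn]; exact mul_dvd_mul_right (Nat.modEq_zero_iff_dvd.1 hk1) M)
  have hu : orderOf (g ^ l) ∣ p ^ a := orderOf_dvd_of_pow_eq_one (by
    rw [← pow_mul]
    refine orderOf_dvd_iff_pow_eq_one.1 ?_
    rw [hn, mul_comm]; exact mul_dvd_mul (Nat.modEq_zero_iff_dvd.1 hl2) dvd_rfl)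
  have hg' : g = g ^ k * g ^ l := by
    rw [← pow_add]
    conv_lhs => rw [← pow_one g]
    rw [pow_eq_pow_iff_modEq, hn]
    refine (Nat.modEq_and_modEq_iff_modEq_mul hco).1 ⟨?_, ?_⟩
    · simpa using (hk1.add hl1).symm
    · simpa using (hk2.add hl2).symm
  have hc : Commute (g ^ k) (g ^ l) := (Commute.refl g).pow_pow k l
  have hco' : Nat.Coprime (orderOf (g ^ k)) (orderOf (g ^ l)) :=
    (hco.symm.coprime_dvd_left hs).coprime_dvd_right hu
  have hmul := hc.orderOf_mul_eq_mul_orderOf_of_coprime hco'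
  rw [← hg', hn] at hmul
  have hpa : 0 < p ^ a := pow_pos hp.out.pos a
  have h1 : orderOf (g ^ k) = M := by
    refine Nat.dvd_antisymm hs ((hco.symm.dvd_of_dvd_mul_right ?_))
    exact (dvd_mul_left M (p ^ a)).trans (hmul ▸ mul_dvd_mul_left _ hu)
  have h2 : orderOf (g ^ l) = p ^ a := by
    refine Nat.dvd_antisymm hu ((hco.dvd_of_dvd_mul_left ?_))
    exact (dvd_mul_right (p ^ a) M).trans (hmul ▸ mul_dvd_mul_right hs _)
  refine ⟨g ^ k, g ^ l, M, a, hg', hc, h1, h2, (hp.out.coprime_iff_not_dvd.2 hM), hM0, ?_,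
    Subgroup.npow_mem_zpowers g k, Subgroup.npow_mem_zpowers g l⟩
  rw [hn, mul_comm]

end Cfsg.Lib.Spec.NineEight
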