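import Cfsg.Agent.Lib.Spec.NineEight.Transfer

/-!
# Orders of elements of `Ω` in dimension nine with a one dimensional fixed space
-/

set_option autoImplicit false

namespace Cfsg.Lib.Spec.NineEight

open Module Polynomial Cfsg.Lib.Linear.Orth
open scoped Matrix

/-- The maximal orders to be realised. -/
def Target (q p n : ℕ) : Prop :=
  n ∣ (q ^ 4 + 1) / 2 ∨ n ∣ (q ^ 4 - 1) / 2 ∨ n ∣ (q ^ 3 + 1) * ((q - 1) / 2) ∨ n ∣ (q ^ 3 - 1) * ((q + 1) / 2) ∨
    n ∣ p * ((q ^ 2 + 1) * ((q - 1) / 2)) ∨ n ∣ p * ((q ^ 2 + 1) * ((q + 1) / 2)) ∨ n ∣ p * (q ^ 2 - 1) ∨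
    (p = 3 ∧ n ∣ p ^ 2 * ((q ^ 2 - 1) / 2)) ∨ (p = 5 ∧ n ∣ p ^ 2 * 2)

theorem arith {q : ℕ} (hq : Odd q) :
    (q - 1 ∣ q ^ 2 - 1) ∧ (q + 1 ∣ q ^ 2 - 1) ∧ (2 ∣ q ^ 2 - 1) ∧
    (q - 1 ∣ (q ^ 2 - 1) / 2) ∧ (q + 1 ∣ (q ^ 2 - 1) / 2) ∧ (2 ∣ (q ^ 2 - 1) / 2) ∧
    (q ^ 2 + 1 ∣ (q ^ 4 - 1) / 2) ∧ (q ^ 2 - 1 ∣ (q ^ 4 - 1) / 2) ∧
    (q - 1 ∣ (q ^ 2 + 1) * ((q - 1) / 2)) ∧ (q + 1 ∣ (q ^ 2 + 1) * ((q + 1) / 2)) ∧
    (2 ∣ (q ^ 2 + 1) * ((q - 1) / 2)) ∧
    (q - 1 ∣ (q ^ 3 + 1) * ((q - 1) / 2)) ∧ (2 ∣ (q ^ 3 + 1) * ((q - 1) / 2)) ∧ (q + 1 ∣ q ^ 3 + 1) ∧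
    (q + 1 ∣ (q ^ 3 - 1) * ((q + 1) / 2)) ∧ (2 ∣ (q ^ 3 - 1) * ((q + 1) / 2)) ∧ (q - 1 ∣ q ^ 3 - 1) := by
  obtain ⟨c, rfl⟩ := hq
  have e1 : (2 * c + 1) ^ 2 - 1 = 2 * (2 * (c * (c + 1))) := by
    rw [show (2 * c + 1) ^ 2 = 2 * (2 * (c * (c + 1))) + 1 by ring, Nat.add_sub_cancel]
  have e4 : (2 * c + 1) ^ 4 - 1 = 2 * ((2 * (c * (c + 1))) * ((2 * c + 1) ^ 2 + 1)) := by
    rw [show (2 * c + 1) ^ 4 = 2 * ((2 * (c * (c + 1))) * ((2 * c + 1) ^ 2 + 1)) + 1 by ring, Nat.add_sub_cancel]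
  have h2 : ((2 * c + 1) ^ 2 + 1) = 2 * (2 * (c * (c + 1)) + 1) := by ring
  have h3p : (2 * c + 1) ^ 3 + 1 = 2 * ((c + 1) * (4 * c * c + 2 * c + 1)) := by ring
  have h3m : (2 * c + 1) ^ 3 - 1 = 2 * (c * (4 * c * c + 6 * c + 3)) := by
    rw [show (2 * c + 1) ^ 3 = 2 * (c * (4 * c * c + 6 * c + 3)) + 1 by ring, Nat.add_sub_cancel]
  rw [e1, e4, Nat.add_sub_cancel, Nat.mul_div_cancel_left _ (by norm_num : 0 < 2),
    Nat.mul_div_cancel_left _ (by norm_num : 0 < 2), Nat.mul_div_cancel_left _ (by norm_num : 0 < 2),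
    show 2 * c + 1 + 1 = 2 * (c + 1) by ring, Nat.mul_div_cancel_left _ (by norm_num : 0 < 2), h2, h3p, h3m]
  refine ⟨⟨2 * (c + 1), ?_⟩, ⟨2 * c, ?_⟩, ⟨2 * (c * (c + 1)), ?_⟩, ⟨c + 1, ?_⟩, ⟨c, ?_⟩, ⟨c * (c + 1), ?_⟩,
    ⟨2 * (c * (c + 1)), ?_⟩, ⟨2 * (c * (c + 1)) + 1, ?_⟩, ⟨2 * (c * (c + 1)) + 1, ?_⟩, ⟨2 * (c * (c + 1)) + 1, ?_⟩,
    ⟨(2 * (c * (c + 1)) + 1) * c, ?_⟩, ⟨(c + 1) * (4 * c * c + 2 * c + 1), ?_⟩,
    ⟨(c + 1) * (4 * c * c + 2 * c + 1) * c, ?_⟩, ⟨4 * c * c + 2 * c + 1, ?_⟩,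
    ⟨c * (4 * c * c + 6 * c + 3), ?_⟩, ⟨c * (4 * c * c + 6 * c + 3) * (c + 1), ?_⟩,
    ⟨4 * c * c + 6 * c + 3, ?_⟩⟩ <;> ring

variable {ι : Type} [Fintype ι] [DecidableEq ι] {F : Type*} [Field F]
  {Q : (ι → F) → F} {B : LinearMap.BilinForm F (ι → F)} {S S' : Module.End F (ι → F)} {M : ℕ}

theorem fix_dvd {V : Type*} [AddCommGroup V] [Module F V] {T : Module.End F V} {v : V} {a b : ℕ} (hab : a ∣ b)
    (h : (T ^ a) v = v) : (T ^ b) v = v := by
  obtain ⟨c, rfl⟩ := hab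
  rw [pow_mul]
  exact pow_fix h c

theorem fix_sup {V : Type*} [AddCommGroup V] [Module F V] {T : Module.End F V} {Z R Y : Submodule F V} {n : ℕ}
    (hsup : Z ⊔ R = Y) (hZ : ∀ v ∈ Z, (T ^ n) v = v) (hR : ∀ v ∈ R, (T ^ n) v = v) : ∀ v ∈ Y, (T ^ n) v = v := by
  intro v hv
  rw [← hsup] at hv
  obtain ⟨a, ha, b, hb, rfl⟩ := Submodule.mem_sup.1 hv
  rw [map_add, hZ a ha, hR b hb]

variable (H : SemiIso Q B S S' M)
include H

/-- The data of an irreducible factor. -/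
structure Piece (S : Module.End F (ι → F)) (M : ℕ) (Y : Submodule F (ι → F)) (f : F[X]) : Prop where
  irr : Irreducible f
  dvd : f ∣ X ^ M - 1
  ne : ∃ v ∈ Y, v ≠ 0 ∧ aeval S f v = 0

theorem SemiIso.ker_sup {Y : Submodule F (ι → F)} (hY : ∀ v ∈ Y, S v ∈ Y) (g : F[X]) :
    (Y ⊓ LinearMap.ker (aeval S g)) ⊔ Y.map (aeval S g) = Y := by
  set T := aeval S g
  have hle : Y.map T ≤ Y := by rintro _ ⟨v, hv, rfl⟩; exact aeval_mem hY g v hv
  have hdisj : (Y ⊓ LinearMap.ker T) ⊓ Y.map T = ⊥ := by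
    rw [Submodule.eq_bot_iff]
    rintro _ ⟨⟨-, h⟩, c, -, rfl⟩
    exact semisimple H.powM H.ne g (LinearMap.mem_ker.1 h)
  refine Submodule.eq_of_le_of_finrank_eq (sup_le inf_le_left hle) ?_
  have h := LinearMap.finrank_range_add_finrank_ker (T.domRestrict Y)
  rw [LinearMap.range_domRestrict, LinearMap.ker_domRestrict] at h
  have h' : finrank F ↥(Y ⊓ LinearMap.ker T) = finrank F ↥((LinearMap.ker T).comap Y.subtype) := by
    rw [← Submodule.map_comap_subtype]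
    exact ((Submodule.equivMapOfInjective _ Y.injective_subtype _).finrank_eq).symm
  have := Submodule.finrank_sup_add_finrank_inf_eq (Y ⊓ LinearMap.ker T) (Y.map T)
  rw [hdisj, finrank_bot, add_zero] at this
  rw [this, h']
  omega

/-- Dual kernels have equal dimension. -/
theorem SemiIso.ker_dual_le {Y : Submodule F (ι → F)} (hY : ∀ v ∈ Y, S v ∈ Y) (hYn : NDeg B Y) (g g' : F[X])
    (hadj : ∀ a b, B (aeval S g' a) b = B a (aeval S g b)) :
    finrank F ↥(Y ⊓ LinearMap.ker (aeval S g')) ≤ finrank F ↥(Y ⊓ LinearMap.ker (aeval S g)) := by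
  let Φ : ↥(Y ⊓ LinearMap.ker (aeval S g')) →ₗ[F] Module.Dual F ↥(Y ⊓ LinearMap.ker (aeval S g)) :=
    B.compl₁₂ (Submodule.subtype _) (Submodule.subtype _)
  refine (LinearMap.finrank_le_finrank_of_injective (f := Φ) ?_).trans Subspace.dual_finrank_eq.le
  rw [injective_iff_map_eq_zero]
  intro v hv
  refine Subtype.ext (hYn v.1 v.2.1 fun y hy => ?_)
  rw [← H.ker_sup hY g] at hy
  obtain ⟨a, ha, _, ⟨b, -, rfl⟩, rfl⟩ := Submodule.mem_sup.1 hy
  rw [map_add, show B v.1 a = 0 from LinearMap.congr_fun hv ⟨a, ha⟩, ← hadj, LinearMap.mem_ker.1 v.2.2,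
    map_zero, LinearMap.zero_apply, add_zero]

/-- The exponent passes to the kernel of the symmetrised polynomial. -/
theorem SemiIso.exp_sym {f : F[X]} {n : ℕ} (hn : f ∣ X ^ n - 1) {v : ι → F}
    (hv : aeval S (symPoly f M) v = 0) : (S ^ n) v = v := by
  obtain ⟨c, hc⟩ := hn
  have hc' : (X ^ n - 1 : F[X]).comp (X ^ (M - 1)) = f.comp (X ^ (M - 1)) * c.comp (X ^ (M - 1)) := by
    rw [hc, mul_comp]
  have h0 : aeval S ((X ^ n - 1) * (X ^ n - 1 : F[X]).comp (X ^ (M - 1))) v = 0 :=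
    aeval_kills (f := symPoly f M) ⟨c * c.comp (X ^ (M - 1)), by rw [symPoly, hc', hc]; ring⟩ hv
  have hinvn : (S ^ (M - 1)) ^ n * S ^ n = 1 := by
    rw [← pow_mul, ← pow_add, show (M - 1) * n + n = M * n by
      have := H.pos; rw [← Nat.succ_mul, Nat.succ_eq_add_one, Nat.sub_add_cancel this],
      pow_mul, H.powM, one_pow]
  have hsq : aeval S (X ^ n - 1 : F[X]) (aeval S (X ^ n - 1 : F[X]) v) = 0 := by
    have h1 := congrArg (S ^ n) h0
    rw [map_zero, map_mul, Module.End.mul_apply, aeval_comp, map_sub, map_sub, aeval_X_pow, map_one,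
      aeval_X_pow, aeval_X_pow, map_one] at h1
    simp only [map_sub, aeval_X_pow, map_one, LinearMap.sub_apply, Module.End.one_apply] at h1 ⊢
    have h2 : ∀ w, (S ^ n) (((S ^ (M - 1)) ^ n) w) = w := fun w => by
      rw [← Module.End.mul_apply, ← pow_mul, ← pow_add, show n + (M - 1) * n = M * n by
        have := H.pos; rw [add_comm, ← Nat.succ_mul, Nat.succ_eq_add_one, Nat.sub_add_cancel this],
        pow_mul, H.powM, one_pow, Module.End.one_apply]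
    simp only [h2] at h1
    linear_combination (norm := module) -h1
  have := semisimple H.powM H.ne (X ^ n - 1 : F[X]) hsq
  simpa [sub_eq_zero] using this

/-- The kinds of an irreducible factor. -/
theorem SemiIso.classify [Fintype F] {Y : Submodule F (ι → F)} (hY : ∀ v ∈ Y, S v ∈ Y) (hYn : NDeg B Y)
    (hfix : ∀ v ∈ Y, S v = v → v = 0) {f : F[X]} (P : Piece S M Y f) :
    ((∀ v, aeval S (symPoly f M) v = 0 → (S ^ (Fintype.card F ^ f.natDegree - 1)) v = v) ∧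
      2 * finrank F ↥(Y ⊓ LinearMap.ker (aeval S f)) ≤ finrank F ↥(Y ⊓ LinearMap.ker (aeval S (symPoly f M))) ∧
      ¬ f ∣ f.comp (X ^ (M - 1))) ∨
    (∃ a, 0 < a ∧ f.natDegree = 2 * a ∧
      ∀ v, aeval S (symPoly f M) v = 0 → (S ^ (Fintype.card F ^ a + 1)) v = v) ∨
    (f.natDegree = 1 ∧ (∀ v, aeval S (symPoly f M) v = 0 → (S ^ 2) v = v) ∧
      ∀ v ∈ Y, S v = -v → aeval S f v = 0) := by
  obtain ⟨hexp, hself⟩ := exponent_of_irreducible P.irr H.pos P.dvd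
  rw [Nat.card_eq_fintype_card] at hexp hself
  by_cases hs : f ∣ f.comp (X ^ (M - 1))
  · rcases hself hs with ⟨h1, h2⟩ | ⟨a, ha, hdeg, hdvd⟩
    · refine Or.inr (Or.inr ⟨h1, fun v hv => H.exp_sym h2 hv, fun v hv hSv => ?_⟩)
      obtain ⟨w, hw, hw0, hfw⟩ := P.ne
      have hS2 := pow_fix_of_dvd h2 hfw
      -- `w` is a `-1` eigenvector
      have hSw : S w = -w := by
        have hq : S (S w + w) = S w + w := by
          rw [map_add, show S (S w) = w by rw [← Module.End.mul_apply, ← sq]; exact hS2, add_comm]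
        exact eq_neg_of_add_eq_zero_left (hfix _ (Y.add_mem (hY w hw) hw) hq)
      have hf1 : f ∣ X - C (-1 : F) := dvd_of_kills P.irr hw0 hfw (by
        simp [hSw, Module.algebraMap_end_apply])
      have hf2 : X - C (-1 : F) ∣ f := (P.irr.associated_of_dvd (irreducible_X_sub_C _) hf1).symm.dvd
      exact aeval_kills hf2 (by simp [hSv, Module.algebraMap_end_apply])
    · exact Or.inr (Or.inl ⟨a, ha, hdeg, fun v hv => H.exp_sym hdvd hv⟩)
  · refine Or.inl ⟨fun v hv => H.exp_sym hexp hv, ?_, hs⟩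
    set f' := f.comp (X ^ (M - 1))
    set E := Y ⊓ LinearMap.ker (aeval S f)
    set E' := Y ⊓ LinearMap.ker (aeval S f')
    have hEE : finrank F E = finrank F E' := by
      refine le_antisymm (H.ker_dual_le hY hYn f' f fun a b => ?_) (H.ker_dual_le hY hYn f f' fun a b => ?_)
      · rw [H.adjoint, ← H.aeval_inv]
      · rw [← H.aeval_inv, ← H.adjoint' f]
    have hdisj : E ⊓ E' = ⊥ := by
      rw [Submodule.eq_bot_iff]
      rintro v ⟨⟨-, h1⟩, -, h2⟩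
      by_contra hv0
      exact hs (dvd_of_kills P.irr hv0 (LinearMap.mem_ker.1 h1) (LinearMap.mem_ker.1 h2))
    have hle : E ⊔ E' ≤ Y ⊓ LinearMap.ker (aeval S (symPoly f M)) := by
      refine sup_le (fun v hv => ⟨hv.1, ?_⟩) (fun v hv => ⟨hv.1, ?_⟩) <;>
      · rw [SetLike.mem_coe, LinearMap.mem_ker]
        refine aeval_kills ?_ (LinearMap.mem_ker.1 hv.2)
        first
          | exact dvd_mul_right _ _
          | exact dvd_mul_left _ _
    have := Submodule.finrank_sup_add_finrank_inf_eq E E'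
    rw [hdisj, finrank_bot, add_zero, ← hEE] at this
    have := Submodule.finrank_mono hle
    omega

theorem Piece.le_kerF {Y : Submodule F (ι → F)} (hY : ∀ v ∈ Y, S v ∈ Y) {f : F[X]} (P : Piece S M Y f) :
    f.natDegree ≤ finrank F ↥(Y ⊓ LinearMap.ker (aeval S f)) := by
  obtain ⟨v, hv, hv0, hfv⟩ := P.ne
  refine natDegree_le_finrank P.irr (fun w hw => ⟨hY w hw.1, ?_⟩) ⟨hv, hfv⟩ hv0 hfv
  rw [SetLike.mem_coe, LinearMap.mem_ker] at *
  have := aeval_comm (S := S) f X w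
  simp only [aeval_X] at this
  rw [this, LinearMap.mem_ker.1 hw.2, map_zero]

theorem kerF_le_kerSym {Y : Submodule F (ι → F)} (f : F[X]) :
    finrank F ↥(Y ⊓ LinearMap.ker (aeval S f)) ≤ finrank F ↥(Y ⊓ LinearMap.ker (aeval S (symPoly f M))) :=
  Submodule.finrank_mono fun _ hv =>
    ⟨hv.1, LinearMap.mem_ker.2 (aeval_kills (dvd_mul_right _ _) (LinearMap.mem_ker.1 hv.2))⟩

/-- Splitting off a piece. -/
theorem SemiIso.split_piece {Y : Submodule F (ι → F)} (hY : ∀ v ∈ Y, S v ∈ Y) (hYn : NDeg B Y) (f : F[X]) :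
    ∃ R : Submodule F (ι → F), R ≤ Y ∧ (∀ v ∈ R, S v ∈ R) ∧ NDeg B R ∧
      (Y ⊓ LinearMap.ker (aeval S (symPoly f M))) ⊔ R = Y ∧
      finrank F ↥(Y ⊓ LinearMap.ker (aeval S (symPoly f M))) + finrank F R = finrank F Y ∧
      ∀ v ∈ R, aeval S f v = 0 → v = 0 := by
  obtain ⟨-, hn, hsup, hdim, -⟩ := H.split hY hYn _ (H.symPoly_adjoint f)
  refine ⟨_, fun v hv => hsup ▸ Submodule.mem_sup_right hv, ?_, hn, hsup, hdim, ?_⟩
  · rintro _ ⟨v, hv, rfl⟩
    refine ⟨S v, hY v hv, ?_⟩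
    have := aeval_comm (S := S) (symPoly f M) X v
    simpa using this
  · rintro _ ⟨v, -, rfl⟩ hf
    exact semisimple H.powM H.ne _ (aeval_kills (dvd_mul_right f _) hf)

variable [Fintype F]

theorem SemiIso.exists_piece {Y : Submodule F (ι → F)} (hY : ∀ v ∈ Y, S v ∈ Y) (hY0 : Y ≠ ⊥) :
    ∃ f, Piece S M Y f := by
  obtain ⟨f, h1, -, h2, h3⟩ := exists_factor H.powM H.pos hY hY0
  exact ⟨f, h1, h2, h3⟩

/-- Either all eigenvalues lie in the quadratic extension, or there is a factor of degree at least three. -/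
theorem SemiIso.small_or_big (hq : Odd (Fintype.card F)) : ∀ (d : ℕ) {Y : Submodule F (ι → F)},
    (∀ v ∈ Y, S v ∈ Y) → NDeg B Y → (∀ v ∈ Y, S v = v → v = 0) → finrank F Y ≤ d →
    (∀ v ∈ Y, (S ^ (Fintype.card F ^ 2 - 1)) v = v) ∨ ∃ f, Piece S M Y f ∧ 3 ≤ f.natDegree := by
  intro d
  induction d with
  | zero =>
    intro Y _ _ _ hd
    refine Or.inl fun v hv => ?_
    rw [Submodule.finrank_eq_zero.1 (Nat.le_zero.1 hd), Submodule.mem_bot] at hv
    rw [hv, map_zero]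
  | succ d ih =>
    intro Y hY hYn hfix hd
    rcases eq_or_ne Y ⊥ with rfl | hY0
    · exact Or.inl fun v hv => by rw [(Submodule.mem_bot F).1 hv, map_zero]
    obtain ⟨f, P⟩ := H.exists_piece hY hY0
    obtain ⟨R, hRY, hR, hRn, hsup, hdim, -⟩ := H.split_piece hY hYn f
    have h1 := (P.le_kerF H hY).trans (kerF_le_kerSym H f)
    have h2 := P.irr.natDegree_pos
    rcases ih hR hRn (fun v hv => hfix v (hRY hv)) (by omega) with hsmall | ⟨g, Pg, hg⟩
    swap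
    · exact Or.inr ⟨g, ⟨Pg.irr, Pg.dvd, Pg.ne.imp fun v hv => ⟨hRY hv.1, hv.2⟩⟩, hg⟩
    obtain ⟨a1, a2, a3, -⟩ := arith hq
    by_cases hbig : 3 ≤ f.natDegree
    · exact Or.inr ⟨f, P, hbig⟩
    refine Or.inl (fix_sup hsup (fun v hv => ?_) hsmall)
    rcases H.classify hY hYn hfix P with ⟨he, -, -⟩ | ⟨a, ha, hdeg, he⟩ | ⟨-, he, -⟩
    · obtain hm | hm : f.natDegree = 1 ∨ f.natDegree = 2 := by omega
      · refine fix_dvd a1 ?_
        have := he v (LinearMap.mem_ker.1 hv.2)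
        rwa [hm, pow_one] at this
      · rw [← hm]; exact he v (LinearMap.mem_ker.1 hv.2)
    · obtain rfl : a = 1 := by omega
      refine fix_dvd a2 ?_
      simpa using he v (LinearMap.mem_ker.1 hv.2)
    · exact fix_dvd a3 (he v (LinearMap.mem_ker.1 hv.2))

/-- Dimension at most four. -/
theorem SemiIso.four (hq : Odd (Fintype.card F)) {Y : Submodule F (ι → F)} (hY : ∀ v ∈ Y, S v ∈ Y) (hYn : NDeg B Y)
    (hfix : ∀ v ∈ Y, S v = v → v = 0) (hd : finrank F Y ≤ 4) :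
    (∀ v ∈ Y, (S ^ (Fintype.card F ^ 2 - 1)) v = v) ∨ ∀ v ∈ Y, (S ^ (Fintype.card F ^ 2 + 1)) v = v := by
  rcases H.small_or_big hq _ hY hYn hfix le_rfl with h | ⟨f, P, hf⟩
  · exact Or.inl h
  have h1 := P.le_kerF H hY
  have h2 : finrank F ↥(Y ⊓ LinearMap.ker (aeval S (symPoly f M))) ≤ finrank F Y := Submodule.finrank_mono inf_le_left
  have h3 := kerF_le_kerSym H (Y := Y) f
  rcases H.classify hY hYn hfix P with ⟨-, hz, -⟩ | ⟨a, -, hdeg, he⟩ | ⟨h, -, -⟩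
  · omega
  · obtain rfl : a = 2 := by omega
    have htop : Y ⊓ LinearMap.ker (aeval S (symPoly f M)) = Y :=
      Submodule.eq_of_le_of_finrank_le inf_le_left (by omega)
    refine Or.inr fun v hv => he v ?_
    rw [← htop] at hv
    exact LinearMap.mem_ker.1 hv.2
  · omega

/-- Dimension at most two. -/
theorem SemiIso.two' {Y : Submodule F (ι → F)} (hY : ∀ v ∈ Y, S v ∈ Y) (hYn : NDeg B Y)
    (hfix : ∀ v ∈ Y, S v = v → v = 0) (hd : finrank F Y ≤ 2) :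
    ∃ n, (n = Fintype.card F - 1 ∨ n = Fintype.card F + 1 ∨ n = 2) ∧ ∀ v ∈ Y, (S ^ n) v = v := by
  rcases eq_or_ne Y ⊥ with rfl | hY0
  · exact ⟨2, by simp, fun v hv => by rw [(Submodule.mem_bot F).1 hv, map_zero]⟩
  obtain ⟨f, P⟩ := H.exists_piece hY hY0
  obtain ⟨R, hRY, hR, hRn, hsup, hdim, hRf⟩ := H.split_piece hY hYn f
  have h1 := P.le_kerF H hY
  have h1' := kerF_le_kerSym H (Y := Y) f
  have hR0 : ∀ n : ℕ, (∀ v ∈ Y ⊓ LinearMap.ker (aeval S (symPoly f M)), (S ^ n) v = v) → R = ⊥ →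
      ∀ v ∈ Y, (S ^ n) v = v := fun n hn h0 => fix_sup hsup hn (fun v hv => by
    rw [h0, Submodule.mem_bot] at hv; rw [hv, map_zero])
  have h0 := P.irr.natDegree_pos
  rcases H.classify hY hYn hfix P with ⟨he, hz, -⟩ | ⟨a, ha, hdeg, he⟩ | ⟨hdeg, he, hneg⟩
  · refine ⟨Fintype.card F - 1, Or.inl rfl, hR0 _ (fun v hv => ?_) (Submodule.finrank_eq_zero.1 (by omega))⟩
    have := he v (LinearMap.mem_ker.1 hv.2)
    rwa [show f.natDegree = 1 by omega, pow_one] at this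
  · refine ⟨Fintype.card F + 1, Or.inr (Or.inl rfl), hR0 _ (fun v hv => ?_) (Submodule.finrank_eq_zero.1 (by omega))⟩
    have := he v (LinearMap.mem_ker.1 hv.2)
    rwa [show a = 1 by omega, pow_one] at this
  · refine ⟨2, by simp, fix_sup hsup (fun v hv => he v (LinearMap.mem_ker.1 hv.2)) fun v hv => ?_⟩
    have hev := H.even_finrank hR hRn fun w hw h2 => by
      have hq : S (S w + w) = S w + w := by rw [map_add, h2, add_comm]
      have h3 := eq_neg_of_add_eq_zero_left (hfix _ (Y.add_mem (hY w (hRY hw)) (hRY hw)) hq)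
      exact hRf w hw (hneg w (hRY hw) h3)
    have hR1 : finrank F R ≤ 1 := by omega
    obtain ⟨c, hc⟩ := hev
    rw [Submodule.finrank_eq_zero.1 (show finrank F R = 0 by omega), Submodule.mem_bot] at hv
    rw [hv, map_zero]

omit [Fintype F] in
/-- A unipotent chain multiplies the kernel of an irreducible factor. -/
theorem SemiIso.chain {f : F[X]} (hirr : Irreducible f) {X' : Module.End F (ι → F)} (hcomm : Commute S X') {N : ℕ}
    (hnil : X' ^ N = 0) {E : Submodule F (ι → F)} (hES : ∀ v ∈ E, S v ∈ E) (hEX : ∀ v ∈ E, X' v ∈ E)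
    (hEf : ∀ v ∈ E, aeval S f v = 0) : ∀ k, E.map (X' ^ k) ≠ ⊥ → (k + 1) * f.natDegree ≤ finrank F E := by
  intro k
  induction k generalizing E with
  | zero =>
    intro hne
    rw [pow_zero, Module.End.one_eq_id, Submodule.map_id] at hne
    obtain ⟨v, hv, hv0⟩ := Submodule.exists_mem_ne_zero_of_ne_bot hne
    rw [zero_add, one_mul]
    exact natDegree_le_finrank hirr hES hv hv0 (hEf v hv)
  | succ k ih =>
    intro hne
    have hle : E.map X' ≤ E := by rintro _ ⟨v, hv, rfl⟩; exact hEX v hv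
    have h1 := ih (E := E.map X')
      (by rintro _ ⟨v, hv, rfl⟩; exact ⟨S v, hES v hv, by rw [← Module.End.mul_apply, ← hcomm.eq, Module.End.mul_apply]⟩)
      (by rintro _ ⟨v, hv, rfl⟩; exact ⟨X' v, hEX v hv, rfl⟩) (fun v hv => hEf v (hle hv))
      (by rwa [← Submodule.map_comp, ← Module.End.mul_eq_comp, ← pow_succ])
    have hker : f.natDegree ≤ finrank F ↥((LinearMap.ker X').comap E.subtype) := by
      by_contra hlt
      have hK : ∀ v ∈ E ⊓ LinearMap.ker X', v = 0 := by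
        intro v hv
        by_contra hv0
        refine hlt ?_
        rw [(Submodule.equivMapOfInjective _ E.injective_subtype _).finrank_eq, Submodule.map_comap_subtype]
        refine natDegree_le_finrank hirr (fun w hw => ⟨hES w hw.1, ?_⟩) hv hv0 (hEf v hv.1)
        rw [SetLike.mem_coe, LinearMap.mem_ker, ← Module.End.mul_apply, ← hcomm.eq, Module.End.mul_apply,
          LinearMap.mem_ker.1 hw.2, map_zero]
      have hpow : ∀ j, ∀ v ∈ E, (X' ^ j) v = 0 → v = 0 := by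
        intro j
        induction j with
        | zero => exact fun v _ h => h
        | succ j ihj =>
          intro v hv h
          refine hK v ⟨hv, LinearMap.mem_ker.2 (ihj _ (hEX v hv) ?_)⟩
          rwa [← Module.End.mul_apply, ← pow_succ]
      refine hne ((Submodule.eq_bot_iff _).2 ?_)
      rintro _ ⟨v, hv, rfl⟩
      rw [hpow N v hv (by rw [hnil]; rfl), map_zero]
    have h := LinearMap.finrank_range_add_finrank_ker (X'.domRestrict E)
    rw [LinearMap.range_domRestrict, LinearMap.ker_domRestrict] at h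
    rw [Nat.succ_mul]
    omega

end Cfsg.Lib.Spec.NineEight
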