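import Mathlib

/-!
# Counting the moved vectors of value one for two paired isotropic subspaces
-/

set_option autoImplicit false

namespace Cfsg.Lib.Spec.NineEight

open Module

universe w

/-- The vectors of value one outside a line, for a space with two paired isotropic halves. -/
theorem paired_count {F : Type*} [Field F] [Fintype F] {V : Type*} [AddCommGroup V] [Module F V] [Finite V]
    (h2 : (2 : F) ≠ 0) (B : LinearMap.BilinForm F V) (hsymm : ∀ a b, B a b = B b a)
    (hnd : ∀ a, (∀ b, B a b = 0) → a = 0) {P D : Submodule F V} (hPD : IsCompl P D)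
    (hPiso : ∀ a ∈ P, ∀ b ∈ P, B a b = 0) (hDiso : ∀ a ∈ D, ∀ b ∈ D, B a b = 0) (hP0 : P ≠ ⊥)
    (W : Type w) [AddCommGroup W] [Finite W] (g : W → F) (hg0 : g 0 = 0) (hg : ∀ w, g (-w) = g w)
    (hW2 : ∀ w : W, w + w = 0 → w = 0) (hWodd : Odd (Nat.card W)) :
    ∃ K, Odd K ∧ Nat.card {x : V × W // x.1 ≠ 0 ∧ (2 : F)⁻¹ * B x.1 x.1 + g x.2 = 1} =
      (Fintype.card F ^ finrank F P - 1) * K := by
  classical
  haveI := Fintype.ofFinite V
  haveI := Fintype.ofFinite W
  haveI : Nontrivial P := Submodule.nontrivial_iff_ne_bot.2 hP0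
  set q := Fintype.card F
  set d := finrank F P with hd
  have hd0 : 0 < d := Module.finrank_pos
  set N := q ^ d - 1 with hN
  have hqodd : Odd q := by
    rw [← Nat.not_even_iff_odd, Nat.even_iff]
    intro h
    exact h2 (by
      have := FiniteField.even_card_iff_char_two.2 h
      have hc := ringChar.charP F
      have h := CharP.cast_eq_zero F (ringChar F)
      rwa [this, Nat.cast_ofNat] at h)
  let e := Submodule.prodEquivOfIsCompl P D hPD
  have he : ∀ x : P × D, e x = (x.1 : V) + x.2 := fun x => rfl
  have hperpD : ∀ x : D, (∀ a : P, B (a : V) x = 0) → x = 0 := fun x h => Subtype.ext (hnd _ fun b => by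
    obtain ⟨b1, hb1, b2, hb2, rfl⟩ := Submodule.mem_sup.1 (hPD.sup_eq_top ▸ Submodule.mem_top : b ∈ P ⊔ D)
    rw [map_add, hsymm _ b1, h ⟨b1, hb1⟩, hDiso _ x.2 _ hb2, add_zero])
  have hperpP : ∀ a : P, (∀ x : D, B (a : V) x = 0) → a = 0 := fun a h => Subtype.ext (hnd _ fun b => by
    obtain ⟨b1, hb1, b2, hb2, rfl⟩ := Submodule.mem_sup.1 (hPD.sup_eq_top ▸ Submodule.mem_top : b ∈ P ⊔ D)
    rw [map_add, hPiso _ a.2 _ hb1, h ⟨b2, hb2⟩, add_zero])
  have hform : ∀ x x' : P × D, B (e x) (e x') = B (x.1 : V) x'.2 + B (x'.1 : V) x.2 := fun x x' => by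
    simp only [he, map_add, LinearMap.add_apply, hPiso _ x.1.2 _ x'.1.2, hDiso _ x.2.2 _ x'.2.2,
      hsymm (x.2 : V) x'.1, zero_add, add_zero]
    ring
  haveI := Fintype.ofFinite W
  -- the affine fibres
  have hfib : ∀ (a : P), a ≠ 0 → ∀ c : F, Nat.card {x : D // B (a : V) x = c} = q ^ (d - 1) := by
    intro a ha c
    let φ : D →ₗ[F] F := (B (a : V)).comp D.subtype
    have hφ : φ ≠ 0 := fun h => ha (hperpP a fun x => LinearMap.congr_fun h x)
    have hr : LinearMap.range φ = ⊤ := by
      rw [LinearMap.range_eq_top]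
      exact LinearMap.surjective hφ
    obtain ⟨x₀, hx₀⟩ := (LinearMap.range_eq_top.1 hr) c
    have hker : finrank F (LinearMap.ker φ) = d - 1 := by
      have h := LinearMap.finrank_range_add_finrank_ker φ
      rw [hr, finrank_top, Module.finrank_self] at h
      have hPD' : d = finrank F D := by
        refine le_antisymm ?_ ?_
        · have hinj : Function.Injective ((B.compl₁₂ P.subtype D.subtype) : P → D →ₗ[F] F) :=
            (injective_iff_map_eq_zero _).2 fun b hb => hperpP b fun x => LinearMap.congr_fun hb x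
          exact (LinearMap.finrank_le_finrank_of_injective hinj).trans (Subspace.dual_finrank_eq).le
        · have hinj : Function.Injective ((B.compl₁₂ P.subtype D.subtype).flip : D → P →ₗ[F] F) :=
            (injective_iff_map_eq_zero _).2 fun b hb => hperpD b fun x => LinearMap.congr_fun hb x
          exact (LinearMap.finrank_le_finrank_of_injective hinj).trans (Subspace.dual_finrank_eq).le
      omega
    rw [← hker, ← Module.card_eq_pow_finrank (K := F) (V := LinearMap.ker φ), ← Nat.card_eq_fintype_card]
    refine Nat.card_congr ((Equiv.subRight x₀).subtypeEquiv fun x => ?_)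
    show B (a : V) x = c ↔ φ (x - x₀) = 0
    rw [map_sub, hx₀, sub_eq_zero]
    rfl
  set K₀ := Nat.card {w : W // g w = 1} with hK₀
  refine ⟨Nat.card W * q ^ (d - 1) + K₀, ?_, ?_⟩
  · have hK : Even K₀ := by
      let τ : Function.End {w : W // g w = 1} := fun w => ⟨-w.1, (hg _).trans w.2⟩
      have hτ : τ ^ 2 ^ 1 = 1 := funext fun w => Subtype.ext (neg_neg w.1)
      have h := Equiv.Perm.card_fixedPoints_modEq (p := 2) (n := 1) (f := τ) hτ
      have h0 : IsEmpty (Function.fixedPoints τ) := ⟨fun w => by
        have hw : w.1.1 = 0 := hW2 _ (eq_neg_iff_add_eq_zero.1 (congrArg Subtype.val w.2).symm)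
        have := w.1.2
        rw [hw, hg0] at this
        exact zero_ne_one this⟩
      rw [Fintype.card_eq_zero (α := Function.fixedPoints τ), ← Nat.card_eq_fintype_card] at h
      rw [Nat.even_iff]
      exact h
    exact (hWodd.mul hqodd.pow).add_even hK
  · have key : Nat.card {x : V × W // x.1 ≠ 0 ∧ (2 : F)⁻¹ * B x.1 x.1 + g x.2 = 1} =
        Nat.card (Σ pw : P × W, {x : D // (pw.1, x) ≠ (0, 0) ∧ B (pw.1 : V) x + g pw.2 = 1}) := by
      have hq : ∀ x : P × D, (2 : F)⁻¹ * B (e x) (e x) = B (x.1 : V) x.2 := fun x => by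
        rw [hform, ← two_mul, inv_mul_cancel_left₀ h2]
      refine Nat.card_congr
        { toFun := fun x => ⟨((e.symm x.1.1).1, x.1.2), (e.symm x.1.1).2, ?_, ?_⟩
          invFun := fun s => ⟨(e (s.1.1, s.2.1), s.1.2), ?_, ?_⟩
          left_inv := fun x => Subtype.ext (Prod.ext (e.apply_symm_apply x.1.1) rfl)
          right_inv := fun s => ?_ }
      · exact fun h => x.2.1 ((e.symm.map_eq_zero_iff).1 h)
      · rw [← hq, e.apply_symm_apply]; exact x.2.2
      · exact fun h => s.2.2.1 ((e.map_eq_zero_iff).1 h)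
      · show (2 : F)⁻¹ * B (e _) (e _) + _ = 1
        rw [hq]; exact s.2.2.2
      · obtain ⟨⟨a, w⟩, x, hx⟩ := s
        exact Sigma.subtype_ext (by simp only [LinearEquiv.symm_apply_apply]) (by simp only [LinearEquiv.symm_apply_apply])
    rw [key, Nat.card_sigma, Fintype.sum_prod_type, ← Finset.add_sum_erase _ _ (Finset.mem_univ (0 : P))]
    have hzero : ∑ w : W, Nat.card {x : D // ((0 : P), x) ≠ (0, 0) ∧ B ((0 : P) : V) x + g w = 1} = K₀ * N := by
      have h1 : ∀ w : W, Nat.card {x : D // ((0 : P), x) ≠ (0, 0) ∧ B ((0 : P) : V) x + g w = 1} =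
          if g w = 1 then N else 0 := fun w => by
        split_ifs with hw
        · have hc : Nat.card {x : D // x ≠ 0} = N := by
            rw [Nat.card_eq_fintype_card, Fintype.card_subtype_compl, Fintype.card_subtype_eq,
              Module.card_eq_pow_finrank (K := F)]
            have hPD' : d = finrank F D := by
              obtain ⟨a, ha⟩ := exists_ne (0 : P)
              refine le_antisymm ?_ ?_
              · have hinj : Function.Injective ((B.compl₁₂ P.subtype D.subtype) : P → D →ₗ[F] F) :=
                  (injective_iff_map_eq_zero _).2 fun b hb => hperpP b fun x => LinearMap.congr_fun hb x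
                exact (LinearMap.finrank_le_finrank_of_injective hinj).trans (Subspace.dual_finrank_eq).le
              · have hinj : Function.Injective ((B.compl₁₂ P.subtype D.subtype).flip : D → P →ₗ[F] F) :=
                  (injective_iff_map_eq_zero _).2 fun b hb => hperpD b fun x => LinearMap.congr_fun hb x
                exact (LinearMap.finrank_le_finrank_of_injective hinj).trans (Subspace.dual_finrank_eq).le
            rw [← hPD']
          rw [← hc]
          exact Nat.card_congr (Equiv.subtypeEquivRight fun x => by simp [hw])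
        · refine Nat.card_eq_zero.2 (Or.inl ⟨fun x => hw ?_⟩)
          simpa using x.2.2
      rw [Finset.sum_congr rfl fun w _ => h1 w, Finset.sum_ite, Finset.sum_const_zero, add_zero, Finset.sum_const,
        smul_eq_mul, hK₀, Nat.card_eq_fintype_card, Fintype.card_subtype]
    rw [hzero]
    have h1 : ∀ a ∈ Finset.univ.erase (0 : P),
        ∑ w : W, Nat.card {x : D // (a, x) ≠ (0, 0) ∧ B (a : V) x + g w = 1} = Nat.card W * q ^ (d - 1) := by
      intro a ha
      have ha0 := (Finset.mem_erase.1 ha).1
      rw [Finset.sum_congr rfl fun w _ => (show _ = q ^ (d - 1) from ?_), Finset.sum_const, Finset.card_univ,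
        smul_eq_mul, Nat.card_eq_fintype_card]
      rw [← hfib a ha0 (1 - g w)]
      exact Nat.card_congr (Equiv.subtypeEquivRight fun x => by simp [ha0, eq_sub_iff_add_eq])
    rw [Finset.sum_congr rfl h1, Finset.sum_const, Finset.card_erase_of_mem (Finset.mem_univ _), Finset.card_univ,
      Module.card_eq_pow_finrank (K := F), smul_eq_mul, ← hd, ← hN]
    ring

end Cfsg.Lib.Spec.NineEight
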