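import Cfsg.Agent.Lib.Spec.NineEight.Bound
import Cfsg.Agent.Lib.Spec.NineEight.PairCount

/-!
# The bound on element orders with a one dimensional fixed space
-/

set_option autoImplicit false

namespace Cfsg.Lib.Spec.NineEight

open Module Polynomial Cfsg.Lib.Linear.Orth
open scoped Matrix

/-- Polynomials in an endomorphism commute with whatever commutes with it. -/
theorem commute_aeval {K V : Type*} [Field K] [AddCommGroup V] [Module K V] {S X' : Module.End K V}
    (h : Commute S X') (f : K[X]) : Commute (aeval S f) X' := by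
  refine Commute.symm ?_
  induction f using Polynomial.induction_on' with
  | add f g hf hg => rw [map_add]; exact hf.add_right hg
  | monomial i c =>
    rw [aeval_monomial]
    exact (show Commute X' (algebraMap K _ c) from (Algebra.commutes c X').symm).mul_right (h.symm.pow_right i)

variable {ι : Type} [Fintype ι] [DecidableEq ι] {F : Type*} [Field F] [Fintype F]
  {Q : (ι → F) → F} {B : LinearMap.BilinForm F (ι → F)}

/-- A freely acting part of even order with an odd number of cycles lies outside `Ω`, so it is absent. -/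
theorem halving (C : Space Q B) (h2 : (2 : F) ≠ 0) {s : ↥(isometryGroup F Q)} (hs : s ∈ Omega F Q)
    {U W : Submodule F (ι → F)} (hUW : IsCompl U W) (horth : ∀ a ∈ U, ∀ w ∈ W, B a w = 0)
    (hUinv : ∀ a ∈ U, lin (s : GL ι F) a ∈ U) (hW : ∀ w ∈ W, lin (s : GL ι F) w = w) {N K : ℕ} (hN : Even N) (hN0 : 0 < N)
    (hSN : ∀ a ∈ U, (lin (s : GL ι F) ^ N) a = a)
    (hfree : ∀ (j : ℕ) (a : U), a ≠ 0 → (lin (s : GL ι F) ^ j) (a : ι → F) = a → ∀ b ∈ U, (lin (s : GL ι F) ^ j) b = b)
    (hK : Odd K) (hcount : Nat.card {y : U × W // y.1 ≠ 0 ∧ Q y.1 + Q y.2 = 1} = N * K) :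
    ∀ a ∈ U, (lin (s : GL ι F) ^ (N / 2)) a = a := by
  classical
  by_contra hne
  set S := lin (s : GL ι F)
  obtain ⟨c, o, ho, hNo⟩ := Nat.exists_eq_pow_mul_and_not_dvd hN0.ne' 2 (by norm_num)
  have hc : 1 ≤ c := by
    by_contra hc0
    rw [show c = 0 by omega, pow_zero, one_mul] at hNo
    exact ho (hNo ▸ hN.two_dvd)
  have hoodd : Odd o := Nat.odd_iff.2 (Nat.two_dvd_ne_zero.1 ho)
  set t : ↥(isometryGroup F Q) := s ^ o
  have ht : t ∈ Omega F Q := Subgroup.pow_mem _ hs o
  set T := lin (t : GL ι F)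
  have hT : T = S ^ o := lin_pow s o
  have hTU : ∀ a ∈ U, T a ∈ U := by
    intro a ha
    rw [hT]
    have : ∀ i, (S ^ i) a ∈ U := fun i => by
      induction i with
      | zero => simpa using ha
      | succ i ih => rw [pow_succ', Module.End.mul_apply]; exact hUinv _ ih
    exact this o
  have hTj : ∀ (j : ℕ) (a : U), ((T.restrict hTU ^ j) a : ι → F) = (S ^ (o * j)) a := fun j a => by
    rw [Module.End.pow_restrict, LinearMap.coe_restrict_apply, hT, ← pow_mul]
  have hsp := Cfsg.Lib.Linear.CentralizerSpin.spin_eq_neg_one C hUW horth t (T.restrict hTU)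
    (fun a => by rw [← lin_apply]; rfl) (fun w hw => by rw [← lin_apply]; show T w = w; rw [hT]; exact pow_fix (hW w hw) o)
    (N := 2 ^ c) (P := o * K) ((Nat.even_pow' (by omega)).2 even_two) (pow_pos two_pos c)
    (LinearMap.ext fun a => Subtype.ext (by
      rw [hTj, Module.End.one_apply, mul_comm o, ← hNo]; exact hSN a.1 a.2))
    (fun j a ha hj => ?_) (hoodd.mul hK) (by rw [hcount, hNo, mul_assoc])
  · have h1 : detSpin Q t = 1 := Abelianization.commutator_subset_ker (detSpin Q) ht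
    have h3 : spin Q t = 1 := congrArg Prod.snd h1
    rw [h3] at hsp
    exact absurd hsp (by decide)
  · have h1 : ∀ b ∈ U, (S ^ (o * j)) b = b := hfree (o * j) a ha (by
      rw [← hTj, hj])
    -- the exponents fixing all of `U`
    set d := Nat.gcd (2 ^ c) j with hd
    have hgd : ∀ b ∈ U, (S ^ (o * d)) b = b := by
      intro b hb
      have e1 : Function.IsPeriodicPt S (o * j) b := by
        show (⇑S)^[o * j] b = b
        rw [← Module.End.coe_pow]; exact h1 b hb
      have e2 : Function.IsPeriodicPt S (o * 2 ^ c) b := by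
        show (⇑S)^[o * 2 ^ c] b = b
        rw [← Module.End.coe_pow, mul_comm, ← hNo]; exact hSN b hb
      have := e2.gcd e1
      rw [Nat.gcd_mul_left] at this
      rw [Module.End.coe_pow]; exact this
    obtain ⟨i, hi, hid⟩ := (Nat.dvd_prime_pow Nat.prime_two).1 (Nat.gcd_dvd_left (2 ^ c) j)
    rcases Nat.lt_or_ge i c with hlt | hge
    · refine absurd (fun b hb => fix_dvd (a := o * d) ?_ (hgd b hb)) hne
      obtain ⟨c', rfl⟩ : ∃ c', c = c' + 1 := ⟨c - 1, by omega⟩
      rw [hd, hid, hNo, pow_succ', mul_assoc, Nat.mul_div_cancel_left _ two_pos, mul_comm o]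
      exact mul_dvd_mul_right (pow_dvd_pow 2 (by omega)) o
    · have : 2 ^ c ∣ Nat.gcd (2 ^ c) j := hid ▸ pow_dvd_pow 2 hge
      exact this.trans (Nat.gcd_dvd_right _ _)

variable (p : ℕ) [hp : Fact p.Prime] [hcp : CharP F p]
include hp hcp

/-- The whole orthogonal complement of the fixed line is one irreducible or one paired piece. -/
theorem half_exponent (C : Space Q B) (h2 : (2 : F) ≠ 0) {s : ↥(isometryGroup F Q)} (hs : s ∈ Omega F Q) {M : ℕ}
    (hsM : s ^ M = 1) (hM : 0 < M) (hpM : Nat.Coprime p M)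
    (hd : finrank F (LinearMap.range (lin (s : GL ι F) - 1)) = 8)
    (hW : finrank F (LinearMap.ker (lin (s : GL ι F) - 1)) = 1)
    {f : F[X]} (P : Piece (lin (s : GL ι F)) M (LinearMap.range (lin (s : GL ι F) - 1)) f)
    (hcase : (f.natDegree = 8 ∧ ∀ v, aeval (lin (s : GL ι F)) (symPoly f M) v = 0 →
        (lin (s : GL ι F) ^ (Fintype.card F ^ 4 + 1)) v = v) ∨
      (f.natDegree = 4 ∧ ¬ f ∣ f.comp (X ^ (M - 1)))) :
    ∃ n, (n = (Fintype.card F ^ 4 + 1) / 2 ∨ n = (Fintype.card F ^ 4 - 1) / 2) ∧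
      ∀ v ∈ LinearMap.range (lin (s : GL ι F) - 1), (lin (s : GL ι F) ^ n) v = v := by
  classical
  set S := lin (s : GL ι F)
  have H : SemiIso Q B S (S ^ (M - 1)) M := semiIso_of p C h2 s hsM hM hpM
  obtain ⟨hsplit, hfix⟩ := H.fix_split
  set U := LinearMap.range (S - 1)
  set W := LinearMap.ker (S - 1)
  have hUW : IsCompl U W := IsCompl.of_eq
    ((Submodule.eq_bot_iff _).2 fun x hx => hsplit.disj C hx.1 hx.2) hsplit.sup
  have hSU : ∀ a ∈ U, S a ∈ U := by rintro _ ⟨c, rfl⟩; exact ⟨S c, by simp⟩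
  have hSW : ∀ w ∈ W, S w = w := fun w hw => sub_eq_zero.1 (LinearMap.mem_ker.1 hw)
  have hpow : ∀ j, ∀ a ∈ U, (S ^ j) a ∈ U := fun j a ha => by
    have := aeval_mem hSU (X ^ j) a ha
    rwa [aeval_X_pow] at this
  have hker : ∀ j, ∀ v, (S ^ j) v = v ↔ aeval S (X ^ j - 1 : F[X]) v = 0 := fun j v => by simp [sub_eq_zero]
  have hwlem : ∀ w : W, w + w = 0 → w = 0 := fun w hw => by
    rw [← two_smul F] at hw
    exact (smul_eq_zero.1 hw).resolve_left h2
  let BU : LinearMap.BilinForm F U := LinearMap.compl₁₂ B U.subtype U.subtype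
  have hndU : ∀ a : U, (∀ b, BU a b = 0) → a = 0 := fun a ha =>
    Subtype.ext (hsplit.ndU a.1 a.2 fun y hy => ha ⟨y, hy⟩)
  have hQU : ∀ a : U, Q (a : ι → F) = (2 : F)⁻¹ * BU a a := fun a => by
    rw [show BU a a = B a.1 a.1 from rfl, C.self, inv_mul_cancel_left₀ h2]
  have hcardeq : ∀ {N K : ℕ}, Nat.card {x : U × W // x.1 ≠ 0 ∧ (2 : F)⁻¹ * BU x.1 x.1 + Q x.2 = 1} = N * K →
      Nat.card {y : U × W // y.1 ≠ 0 ∧ Q y.1 + Q y.2 = 1} = N * K := fun h => by simpa only [hQU] using h
  -- a subspace killed by `f` is invariant-simple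
  have hkf : ∀ (Y : Submodule F (ι → F)), (∀ v ∈ Y, aeval S f v = 0) → (∀ v ∈ Y, S v ∈ Y) →
      finrank F Y ≤ f.natDegree → ∀ (R : Submodule F (ι → F)), R ≤ Y → (∀ v ∈ R, S v ∈ R) → R ≠ ⊥ → R = Y := by
    intro Y hYf hYS hYd R hRY hR hR0
    obtain ⟨v, hv, hv0⟩ := Submodule.exists_mem_ne_zero_of_ne_bot hR0
    exact Submodule.eq_of_le_of_finrank_le hRY
      (hYd.trans (natDegree_le_finrank P.irr hR hv hv0 (hYf v (hRY hv))))
  have hodd : Odd (Fintype.card F) := by
    obtain ⟨k, hk⟩ := FiniteField.card F p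
    rw [hk.2]
    refine (hp.out.odd_of_ne_two fun h => h2 ?_).pow
    have := CharP.cast_eq_zero F p
    rwa [h, Nat.cast_ofNat] at this
  set E := U ⊓ LinearMap.ker (aeval S f)
  have hE := P.le_kerF H hSU
  have hEe : finrank F ↥(U ⊓ LinearMap.ker (aeval S f)) = finrank F E := rfl
  rcases hcase with ⟨hdeg, hexp⟩ | ⟨hdeg, hns⟩
  · refine ⟨_, Or.inl rfl, ?_⟩
    have hEU : E = U := Submodule.eq_of_le_of_finrank_le inf_le_left (by omega)
    have hUf : ∀ v ∈ U, aeval S f v = 0 := fun v hv => LinearMap.mem_ker.1 (hEU.symm ▸ hv : v ∈ E).2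
    have hU8 : ∀ v ∈ U, (S ^ (Fintype.card F ^ 4 + 1)) v = v := fun v hv =>
      hexp v (aeval_kills (dvd_mul_right _ _) (hUf v hv))
    let y : Module.End F U := S.restrict hSU
    have hypow : ∀ (j : ℕ) (a : U), ((y ^ j) a : ι → F) = (S ^ j) a := fun j a => by
      rw [Module.End.pow_restrict, LinearMap.coe_restrict_apply]
    have hsimple : ∀ R : Submodule F U, (∀ a ∈ R, y a ∈ R) → R = ⊥ ∨ R = ⊤ := by
      intro R hR
      rcases eq_or_ne R ⊥ with h | h
      · exact Or.inl h
      refine Or.inr ?_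
      have := hkf U hUf hSU (by omega) (R.map U.subtype) (Submodule.map_subtype_le U R)
        (by rintro _ ⟨a, ha, rfl⟩; exact ⟨y a, hR a ha, rfl⟩)
        (fun h0 => h (Submodule.map_injective_of_injective U.injective_subtype (h0.trans (Submodule.map_bot _).symm)))
      exact Submodule.map_injective_of_injective U.injective_subtype (this.trans (Submodule.map_subtype_top U).symm)
    obtain ⟨-, hcount⟩ := Cfsg.Lib.Linear.TorusSign.torus BU y p h2 (m := 4) (Q := Fintype.card F ^ 4) (by omega) rfl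
      (by omega) (fun a b => C.symm a.1 b.1) hndU
      (LinearMap.ext fun a => Subtype.ext (by rw [hypow]; exact hU8 a.1 a.2))
      (fun a b => lin_B C s.2 a.1 b.1) hsimple
    obtain ⟨K, hK, hKc⟩ := hcount W (fun w => Q w.1) C.zero (fun w => C.neg w.1) hwlem
    refine halving C h2 hs hUW hsplit.orth hSU hSW (by
      obtain ⟨c, hc⟩ := hodd.pow (n := 4); exact ⟨c + 1, by omega⟩) (by positivity) hU8 ?_ hK (hcardeq hKc)
    intro j a ha hj b hb
    rw [hker] at hj ⊢
    obtain hc := dvd_of_kills P.irr (fun h => ha (Subtype.ext h)) (hUf a.1 a.2) hj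
    exact aeval_kills hc (hUf b hb)
  · refine ⟨_, Or.inr rfl, ?_⟩
    set f' := f.comp (X ^ (M - 1)) with hf'
    set E' := U ⊓ LinearMap.ker (aeval S f')
    have hexp : ∀ v, aeval S (symPoly f M) v = 0 → (S ^ (Fintype.card F ^ 4 - 1)) v = v := fun v hv => by
      have h := (exponent_of_irreducible P.irr hM P.dvd).1
      rw [Nat.card_eq_fintype_card, hdeg] at h
      exact H.exp_sym h hv
    have hEE : finrank F E = finrank F E' := by
      refine le_antisymm (H.ker_dual_le hSU hsplit.ndU f' f fun a b => ?_)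
        (H.ker_dual_le hSU hsplit.ndU f f' fun a b => ?_)
      · rw [H.adjoint, ← H.aeval_inv]
      · rw [← H.aeval_inv, ← H.adjoint' f]
    have hdisj : ∀ v ∈ E, v ∈ E' → v = 0 := fun v h1 h2' => by
      by_contra hv0
      exact hns (dvd_of_kills P.irr hv0 (LinearMap.mem_ker.1 h1.2) (LinearMap.mem_ker.1 h2'.2))
    have hsum := Submodule.finrank_sup_add_finrank_inf_eq E E'
    rw [(Submodule.eq_bot_iff (E ⊓ E')).2 fun v hv => hdisj v hv.1 hv.2, finrank_bot, add_zero, ← hEE] at hsum
    have hle : E ⊔ E' ≤ U ⊓ LinearMap.ker (aeval S (symPoly f M)) :=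
      sup_le (fun v hv => ⟨hv.1, LinearMap.mem_ker.2 (aeval_kills (dvd_mul_right _ _) (LinearMap.mem_ker.1 hv.2))⟩)
        fun v hv => ⟨hv.1, LinearMap.mem_ker.2 (aeval_kills (dvd_mul_left _ _) (LinearMap.mem_ker.1 hv.2))⟩
    have hz := Submodule.finrank_mono hle
    have hzU : finrank F ↥(U ⊓ LinearMap.ker (aeval S (symPoly f M))) ≤ finrank F U := Submodule.finrank_mono inf_le_left
    have hE4 : finrank F E = 4 := by omega
    have hES : ∀ v ∈ E, S v ∈ E := fun v hv => ⟨hSU v hv.1, LinearMap.mem_ker.2 (by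
      have := aeval_comm (S := S) f X v
      simp only [aeval_X] at this
      rw [this, LinearMap.mem_ker.1 hv.2, map_zero])⟩
    have hE'S : ∀ v ∈ E', S v ∈ E' := fun v hv => ⟨hSU v hv.1, LinearMap.mem_ker.2 (by
      have := aeval_comm (S := S) f' X v
      simp only [aeval_X] at this
      rw [this, LinearMap.mem_ker.1 hv.2, map_zero])⟩
    -- isotropy
    have hiso : ∀ (g g' : F[X]) (G G' : Submodule F (ι → F)), (∀ a b, B (aeval S g a) b = B a (aeval S g' b)) →
        (∀ v ∈ G, aeval S g v ∈ G) → (∀ v ∈ G, aeval S g v = 0 → v = 0) → (∀ v ∈ G', aeval S g' v = 0) → G' = G →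
        ∀ a ∈ G, ∀ b ∈ G, B a b = 0 := by
      intro g g' G G' hadj hinv hinj hkill hGG a ha b hb
      have hsurj : Function.Surjective ((aeval S g).restrict hinv) := LinearMap.surjective_of_injective
        ((injective_iff_map_eq_zero _).2 fun v hv => Subtype.ext (hinj v.1 v.2 (congrArg Subtype.val hv)))
      obtain ⟨⟨c, hc⟩, hca⟩ := hsurj ⟨a, ha⟩
      have hca' : aeval S g c = a := congrArg Subtype.val hca
      rw [← hca', hadj, hkill b (hGG ▸ hb), map_zero]
    have hEiso : ∀ a ∈ E, ∀ b ∈ E, B a b = 0 := hiso f' f E E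
      (fun a b => by rw [← H.aeval_inv, H.adjoint' f])
      (fun v hv => ⟨aeval_mem hSU f' v hv.1, LinearMap.mem_ker.2 (by
        rw [aeval_comm, LinearMap.mem_ker.1 hv.2, map_zero])⟩)
      (fun v hv h => hdisj v hv ⟨hv.1, LinearMap.mem_ker.2 h⟩) (fun v hv => LinearMap.mem_ker.1 hv.2) rfl
    have hE'iso : ∀ a ∈ E', ∀ b ∈ E', B a b = 0 := hiso f f' E' E'
      (fun a b => by rw [H.adjoint, H.aeval_inv])
      (fun v hv => ⟨aeval_mem hSU f v hv.1, LinearMap.mem_ker.2 (by
        rw [aeval_comm, LinearMap.mem_ker.1 hv.2, map_zero])⟩)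
      (fun v hv h => hdisj v ⟨hv.1, LinearMap.mem_ker.2 h⟩ hv) (fun v hv => LinearMap.mem_ker.1 hv.2) rfl
    let P0 : Submodule F U := E.comap U.subtype
    let D0 : Submodule F U := E'.comap U.subtype
    have hP0d : finrank F P0 = 4 := by
      rw [← hE4]; exact (Submodule.comapSubtypeEquivOfLe inf_le_left).finrank_eq
    have hD0d : finrank F D0 = 4 := by
      rw [← hE4, hEE]; exact (Submodule.comapSubtypeEquivOfLe inf_le_left).finrank_eq
    have hPD : IsCompl P0 D0 := by
      have h0 : P0 ⊓ D0 = ⊥ := (Submodule.eq_bot_iff _).2 fun v hv => Subtype.ext (hdisj v.1 hv.1 hv.2)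
      refine IsCompl.of_eq h0 (Submodule.eq_top_of_finrank_eq ?_)
      have := Submodule.finrank_sup_add_finrank_inf_eq P0 D0
      rw [h0, finrank_bot, add_zero, hP0d, hD0d] at this
      rw [this, hd]
    have hWodd : Odd (Nat.card W) := by
      rw [Nat.card_eq_fintype_card, Module.card_eq_pow_finrank (K := F), hW, pow_one]
      exact hodd
    obtain ⟨K, hK, hKc⟩ := paired_count h2 BU (fun a b => C.symm a.1 b.1) hndU hPD
      (fun a ha b hb => hEiso a.1 ha b.1 hb) (fun a ha b hb => hE'iso a.1 ha b.1 hb)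
      (fun h => by rw [h, finrank_bot] at hP0d; omega) W (fun w => Q w.1) C.zero (fun w => C.neg w.1) hwlem hWodd
    rw [hP0d] at hKc
    have htop : U ⊓ LinearMap.ker (aeval S (symPoly f M)) = U :=
      Submodule.eq_of_le_of_finrank_le inf_le_left (by omega)
    have hU8 : ∀ v ∈ U, (S ^ (Fintype.card F ^ 4 - 1)) v = v := fun v hv =>
      hexp v (LinearMap.mem_ker.1 (htop.symm ▸ hv : v ∈ U ⊓ LinearMap.ker (aeval S (symPoly f M))).2)
    refine halving C h2 hs hUW hsplit.orth hSU hSW (by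
      obtain ⟨c, hc⟩ := hodd.pow (n := 4); exact ⟨c, by omega⟩) (by
      have := Nat.one_lt_pow (n := 4) (by omega) (Fintype.one_lt_card (α := F)); omega) hU8 ?_ hK (hcardeq hKc)
    intro j a ha hj b hb
    rw [hker] at hj ⊢
    -- `a` has a component in one of the two kernels
    obtain ⟨a1, ha1, a2, ha2, rfl⟩ := Submodule.mem_sup.1
      (hPD.sup_eq_top ▸ Submodule.mem_top : a ∈ P0 ⊔ D0)
    set g : F[X] := X ^ j - 1
    have hga : aeval S g a1.1 = 0 ∧ aeval S g a2.1 = 0 := by
      have h1 : aeval S g a1.1 ∈ E := ⟨aeval_mem hSU g _ a1.2, LinearMap.mem_ker.2 (by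
        rw [aeval_comm, show aeval S f a1.1 = 0 from LinearMap.mem_ker.1 ha1.2, map_zero])⟩
      have h2' : aeval S g a2.1 ∈ E' := ⟨aeval_mem hSU g _ a2.2, LinearMap.mem_ker.2 (by
        rw [aeval_comm, show aeval S f' a2.1 = 0 from LinearMap.mem_ker.1 ha2.2, map_zero])⟩
      rw [Submodule.coe_add, map_add, add_eq_zero_iff_eq_neg] at hj
      have h3 := hdisj _ h1 (hj ▸ E'.neg_mem h2')
      refine ⟨h3, ?_⟩
      rw [h3] at hj
      exact neg_eq_zero.1 hj.symm
    have hfg : f ∣ g := by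
      by_cases h0 : a1 = 0
      · have h20 : a2.1 ≠ 0 := fun h => ha (by rw [h0, zero_add]; exact Subtype.ext h)
        -- pass to the kernel of `f` by adjointness
        by_contra hnd
        refine h20 (hsplit.ndU _ a2.2 fun v hv => ?_)
        have hv' : v ∈ E ⊔ E' := by
          have : (⟨v, hv⟩ : U) ∈ P0 ⊔ D0 := hPD.sup_eq_top ▸ Submodule.mem_top
          obtain ⟨b1, hb1, b2, hb2, hb12⟩ := Submodule.mem_sup.1 this
          rw [← show (b1 : ι → F) + b2 = v from congrArg Subtype.val hb12]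
          exact Submodule.add_mem_sup hb1 hb2
        obtain ⟨v1, hv1, v2, hv2, rfl⟩ := Submodule.mem_sup.1 hv'
        rw [map_add, show B a2.1 v2 = 0 from hE'iso _ ha2 _ hv2, add_zero]
        have hgi : ∀ v ∈ E, aeval S (g.comp (X ^ (M - 1))) v ∈ E := fun v hv =>
          ⟨aeval_mem hSU _ v hv.1, LinearMap.mem_ker.2 (by rw [aeval_comm, LinearMap.mem_ker.1 hv.2, map_zero])⟩
        have hinj : ∀ v ∈ E, aeval S (g.comp (X ^ (M - 1))) v = 0 → v = 0 := by
          intro v hv h
          by_contra hv0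
          refine hnd (dvd_of_kills P.irr hv0 (LinearMap.mem_ker.1 hv.2) ?_)
          have h4 := congrArg (S ^ j) h
          simp only [g, map_sub, aeval_comp, sub_comp, X_pow_comp, one_comp, aeval_X_pow, map_one, LinearMap.sub_apply,
            Module.End.one_apply, map_zero, ← pow_mul] at h4 ⊢
          rw [← Module.End.mul_apply, ← pow_add, show j + (M - 1) * j = M * j by
            rw [add_comm, ← Nat.succ_mul, Nat.succ_eq_add_one, Nat.sub_add_cancel hM], pow_mul, H.powM, one_pow,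
            Module.End.one_apply] at h4
          linear_combination (norm := module) -h4
        obtain ⟨⟨w, hw⟩, hwv⟩ := LinearMap.surjective_of_injective (f := (aeval S (g.comp (X ^ (M - 1)))).restrict hgi)
          ((injective_iff_map_eq_zero _).2 fun v hv => Subtype.ext (hinj v.1 v.2 (congrArg Subtype.val hv))) ⟨v1, hv1⟩
        rw [← show aeval S (g.comp (X ^ (M - 1))) w = v1 from congrArg Subtype.val hwv, ← H.aeval_inv,
          ← H.adjoint g, hga.2, map_zero, LinearMap.zero_apply]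
      · exact dvd_of_kills P.irr (fun h => h0 (Subtype.ext h)) (LinearMap.mem_ker.1 ha1.2) hga.1
    refine (hker j b).1 (H.exp_sym hfg ?_)
    exact LinearMap.mem_ker.1 (htop.symm ▸ hb : b ∈ U ⊓ LinearMap.ker (aeval S (symPoly f M))).2

/-- Element orders with a one dimensional fixed space are bounded by the targets. -/
theorem bound (C : Space Q B) (h2 : (2 : F) ≠ 0) (hι : Fintype.card ι = 9) {g s u : ↥(isometryGroup F Q)}
    (hg : g ∈ Omega F Q) {M b : ℕ} (hgsu : g = s * u) (hcomm : Commute s u) (hso : orderOf s = M)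
    (huo : orderOf u = p ^ b) (hpM : Nat.Coprime p M)
    (hd : finrank F (LinearMap.ker (lin (s : GL ι F) - 1)) = 1) :
    Target (Fintype.card F) p (orderOf g) := by
  classical
  have hn : 2 ≤ Fintype.card ι := by omega
  have hM0 : 0 < M := hso ▸ orderOf_pos s
  have hsM : s ^ M = 1 := hso ▸ pow_orderOf_eq_one s
  have hu1 : u ^ p ^ b = 1 := huo ▸ pow_orderOf_eq_one u
  have hsΩ : s ∈ Omega F Q := by
    have := mul_mem hg (inv_mem (omega_of_pElement p C h2 hn u hu1))
    rwa [hgsu, mul_inv_cancel_right] at this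
  have hord : orderOf g = M * p ^ b := hgsu ▸ orderOf_su p hcomm hso huo hpM
  rw [hord]
  have hp2 : p ≠ 2 := fun h => h2 (by
    have := CharP.cast_eq_zero F p
    rwa [h, Nat.cast_ofNat] at this)
  have hodd : Odd (Fintype.card F) := by
    obtain ⟨k, hk⟩ := FiniteField.card F p
    rw [hk.2]; exact (hp.out.odd_of_ne_two hp2).pow
  set q := Fintype.card F
  set S := lin (s : GL ι F) with hS
  have H : SemiIso Q B S (S ^ (M - 1)) M := semiIso_of p C h2 s hsM hM0 hpM
  obtain ⟨hsplit, hfix⟩ := H.fix_split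
  set U := LinearMap.range (S - 1) with hUdef
  set W := LinearMap.ker (S - 1)
  have hU : finrank F U = 8 := by
    have h := LinearMap.finrank_range_add_finrank_ker (S - 1)
    rw [hd, finrank_fintype_fun_eq_card, hι, ← hUdef] at h
    omega
  have hSU : ∀ a ∈ U, S a ∈ U := by rintro _ ⟨c, rfl⟩; exact ⟨S c, by simp⟩
  -- exponents give divisibility
  have hdvd : ∀ n, (∀ v ∈ U, (S ^ n) v = v) → M ∣ n := fun n hn' => by
    rw [← hso]
    refine orderOf_dvd_of_pow_eq_one (iso_ext fun v => ?_)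
    rw [lin_pow, OneMemClass.coe_one, map_one, Module.End.one_apply]
    obtain ⟨a, ha, w, hw, rfl⟩ := hsplit.parts C v
    rw [map_add, hn' a ha, pow_fix (sub_eq_zero.1 (LinearMap.mem_ker.1 hw)) n]
  obtain ⟨a1, a2, a3, a4, a5, a6, a7, a8, a9, a10, a11, a12, a13, a14, a15, a16, a17⟩ := arith hodd
  have hfix' : ∀ v ∈ U, S v = v → v = 0 := fun v hv => hfix v hv
  rcases Nat.eq_zero_or_pos b with rfl | hb
  · rw [pow_zero, mul_one]
    rcases H.small_or_big hodd _ hSU hsplit.ndU hfix' le_rfl with h | ⟨f, P, hf⟩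
    · exact Or.inr (Or.inl ((hdvd _ h).trans a8))
    obtain ⟨R, hRU, hR, hRn, hsup, hdim, -⟩ := H.split_piece hSU hsplit.ndU f
    have h1 := P.le_kerF H hSU
    have h1' := kerF_le_kerSym H (Y := U) f
    have hRfix : ∀ v ∈ R, S v = v → v = 0 := fun v hv => hfix' v (hRU hv)
    rw [hU] at hdim
    rcases H.classify hSU hsplit.ndU hfix' P with ⟨he, hz, hns⟩ | ⟨a, ha, hdeg, he⟩ | ⟨h, -, -⟩
    · obtain h3 | h4 : f.natDegree = 3 ∨ f.natDegree = 4 := by omega
      · obtain ⟨n, hn', hnR⟩ := H.two' hR hRn hRfix (by omega)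
        rcases hn' with rfl | rfl | rfl
        · exact Or.inr (Or.inr (Or.inr (Or.inl (hdvd _ (fix_sup hsup
            (fun v hv => fix_dvd (dvd_mul_right _ _) (by have := he v (LinearMap.mem_ker.1 hv.2); rwa [h3] at this))
            (fun v hv => fix_dvd (a17.trans (dvd_mul_right _ _)) (hnR v hv)))))))
        · exact Or.inr (Or.inr (Or.inr (Or.inl (hdvd _ (fix_sup hsup
            (fun v hv => fix_dvd (dvd_mul_right _ _) (by have := he v (LinearMap.mem_ker.1 hv.2); rwa [h3] at this))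
            (fun v hv => fix_dvd a15 (hnR v hv)))))))
        · exact Or.inr (Or.inr (Or.inr (Or.inl (hdvd _ (fix_sup hsup
            (fun v hv => fix_dvd (dvd_mul_right _ _) (by have := he v (LinearMap.mem_ker.1 hv.2); rwa [h3] at this))
            (fun v hv => fix_dvd a16 (hnR v hv)))))))
      · obtain ⟨n, hn', hnU⟩ := half_exponent p C h2 hsΩ hsM hM0 hpM hU hd P (Or.inr ⟨h4, hns⟩)
        rcases hn' with rfl | rfl
        · exact Or.inl (hdvd _ hnU)
        · exact Or.inr (Or.inl (hdvd _ hnU))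
    · obtain rfl | rfl | rfl : a = 2 ∨ a = 3 ∨ a = 4 := by omega
      · rcases H.four hodd hR hRn hRfix (by omega) with h' | h'
        · exact Or.inr (Or.inl (hdvd _ (fix_sup hsup (fun v hv => fix_dvd a7 (he v (LinearMap.mem_ker.1 hv.2)))
            (fun v hv => fix_dvd a8 (h' v hv)))))
        · exact Or.inr (Or.inl (hdvd _ (fix_sup hsup (fun v hv => fix_dvd a7 (he v (LinearMap.mem_ker.1 hv.2)))
            (fun v hv => fix_dvd a7 (h' v hv)))))
      · obtain ⟨n, hn', hnR⟩ := H.two' hR hRn hRfix (by omega)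
        rcases hn' with rfl | rfl | rfl
        · exact Or.inr (Or.inr (Or.inl (hdvd _ (fix_sup hsup
            (fun v hv => fix_dvd (dvd_mul_right _ _) (he v (LinearMap.mem_ker.1 hv.2)))
            (fun v hv => fix_dvd a12 (hnR v hv))))))
        · exact Or.inr (Or.inr (Or.inl (hdvd _ (fix_sup hsup
            (fun v hv => fix_dvd (dvd_mul_right _ _) (he v (LinearMap.mem_ker.1 hv.2)))
            (fun v hv => fix_dvd (a14.trans (dvd_mul_right _ _)) (hnR v hv))))))
        · exact Or.inr (Or.inr (Or.inl (hdvd _ (fix_sup hsup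
            (fun v hv => fix_dvd (dvd_mul_right _ _) (he v (LinearMap.mem_ker.1 hv.2)))
            (fun v hv => fix_dvd a13 (hnR v hv))))))
      · obtain ⟨n, hn', hnU⟩ := half_exponent p C h2 hsΩ hsM hM0 hpM hU hd P (Or.inl ⟨by omega, he⟩)
        rcases hn' with rfl | rfl
        · exact Or.inl (hdvd _ hnU)
        · exact Or.inr (Or.inl (hdvd _ hnU))
    · omega
  -- a non-trivial unipotent part
  set k := p ^ (b - 1) with hk
  set X' := lin (u : GL ι F) - 1 with hX'
  have hnil : X' ^ p ^ b = 0 := (pow_eq_one_iff_sub (u := u) p).1 hu1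
  have hcX : Commute S X' := (show Commute S (lin (u : GL ι F)) by
    show lin _ * lin _ = lin _ * lin _
    rw [← lin_mul, ← lin_mul, hcomm.eq]).sub_right (Commute.one_right _)
  have hWX : ∀ w ∈ W, X' w = 0 := fun w hw => by
    have := pow_finrank_apply hnil 1 (Y := W) (fun v hv => by
      rw [LinearMap.mem_ker] at hv ⊢
      rw [← Module.End.mul_apply, (hcX.sub_left (Commute.one_left _)).eq, Module.End.mul_apply, hv, map_zero])
      hd.le w hw
    rwa [pow_one] at this
  have hUX : ∀ a ∈ U, X' a ∈ U := by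
    rintro _ ⟨c, rfl⟩
    exact ⟨X' c, by rw [← Module.End.mul_apply, ← Module.End.mul_apply, (hcX.sub_left (Commute.one_left _)).eq]⟩
  have hne : U.map (X' ^ k) ≠ ⊥ := fun h0 => by
    have hu0 : u ^ k = 1 := (pow_eq_one_iff_sub (u := u) p).2 (LinearMap.ext fun v => by
      obtain ⟨a, ha, w, hw, rfl⟩ := hsplit.parts C v
      have h1 : (X' ^ k) a = 0 := (Submodule.eq_bot_iff _).1 h0 _ ⟨a, ha, rfl⟩
      have h2' : (X' ^ k) w = 0 := by
        rw [← Nat.sub_add_cancel (show 1 ≤ k from Nat.one_le_pow _ _ hp.out.pos), pow_succ, Module.End.mul_apply,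
          hWX w hw, map_zero]
      rw [LinearMap.zero_apply, map_add, ← hk, ← hX', h1, h2', add_zero])
    have h5 := Nat.le_of_dvd (pow_pos hp.out.pos _) (orderOf_dvd_of_pow_eq_one hu0)
    rw [huo] at h5
    exact absurd ((Nat.pow_le_pow_iff_right hp.out.one_lt).1 h5) (by omega)
  obtain ⟨f, PR⟩ := H.exists_piece (Y := U.map (X' ^ k)) (by
    rintro _ ⟨a, ha, rfl⟩
    exact ⟨S a, hSU a ha, by rw [← Module.End.mul_apply, ← Module.End.mul_apply, (hcX.pow_right k).eq]⟩) hne
  have hpowU : ∀ i, ∀ a ∈ U, (X' ^ i) a ∈ U := fun i => by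
    induction i with
    | zero => exact fun a ha => by simpa using ha
    | succ i ih => exact fun a ha => by rw [pow_succ', Module.End.mul_apply]; exact hUX _ (ih a ha)
  have P : Piece S M U f := ⟨PR.irr, PR.dvd, PR.ne.imp fun v hv => ⟨by
    obtain ⟨a, ha, rfl⟩ := hv.1; exact hpowU k a ha, hv.2⟩⟩
  set E := U ⊓ LinearMap.ker (aeval S f)
  have hEe : finrank F ↥(U ⊓ LinearMap.ker (aeval S f)) = finrank F E := rfl
  have hcf : Commute (aeval S f) X' := commute_aeval hcX f
  have hEX : ∀ v ∈ E, X' v ∈ E := fun v hv => ⟨hUX v hv.1, LinearMap.mem_ker.2 (by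
    rw [← Module.End.mul_apply, hcf.eq, Module.End.mul_apply, LinearMap.mem_ker.1 hv.2, map_zero])⟩
  have hES : ∀ v ∈ E, S v ∈ E := fun v hv => ⟨hSU v hv.1, LinearMap.mem_ker.2 (by
    have := aeval_comm (S := S) f X v
    simp only [aeval_X] at this
    rw [this, LinearMap.mem_ker.1 hv.2, map_zero])⟩
  have hEne : E.map (X' ^ k) ≠ ⊥ := fun h0 => by
    obtain ⟨_, ⟨y, hy, rfl⟩, hy0, hfy⟩ := PR.ne
    rw [← H.ker_sup hSU f] at hy
    obtain ⟨y1, hy1, _, ⟨y2, -, rfl⟩, rfl⟩ := Submodule.mem_sup.1 hy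
    have h1 : (X' ^ k) y1 = 0 := (Submodule.eq_bot_iff _).1 h0 _ ⟨y1, hy1, rfl⟩
    rw [map_add, h1, zero_add, ← Module.End.mul_apply (X' ^ k), ← (hcf.pow_right k).eq, Module.End.mul_apply] at hy0 hfy
    exact hy0 (semisimple H.powM H.ne f hfy)
  have hchain := H.chain P.irr hcX hnil hES hEX (fun v hv => LinearMap.mem_ker.1 hv.2) k hEne
  obtain ⟨R, hRU, hR, hRn, hsup, hdim, hRf⟩ := H.split_piece hSU hsplit.ndU f
  rw [hU] at hdim
  have hRfix : ∀ v ∈ R, S v = v → v = 0 := fun v hv => hfix' v (hRU hv)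
  have hzle := kerF_le_kerSym H (Y := U) f
  have hm := P.irr.natDegree_pos
  have hk1 : 1 ≤ k := Nat.one_le_pow _ _ hp.out.pos
  have hp3 : 3 ≤ p := lt_of_le_of_ne hp.out.two_le (fun h => hp2 h.symm)
  have hmulmono := fun (n : ℕ) (h : n ≤ k) => Nat.mul_le_mul_right f.natDegree (Nat.add_le_add_right h 1)
  -- the `-1` eigenspace is not regular
  have hneg : (f.natDegree = 1 ∧ (∀ v, aeval S (symPoly f M) v = 0 → (S ^ 2) v = v) ∧
      ∀ v ∈ U, S v = -v → aeval S f v = 0) →
      k + 2 ≤ finrank F ↥(U ⊓ LinearMap.ker (aeval S (symPoly f M))) ∧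
        Even (finrank F ↥(U ⊓ LinearMap.ker (aeval S (symPoly f M)))) := by
    rintro ⟨hdeg, he, hm1⟩
    have hZE : U ⊓ LinearMap.ker (aeval S (symPoly f M)) = E := by
      refine le_antisymm (fun v hv => ⟨hv.1, LinearMap.mem_ker.2 (hm1 v hv.1 ?_)⟩) fun v hv =>
        ⟨hv.1, LinearMap.mem_ker.2 (aeval_kills (dvd_mul_right _ _) (LinearMap.mem_ker.1 hv.2))⟩
      have h2' : S (S v) = v := by rw [← Module.End.mul_apply, ← sq]; exact he v (LinearMap.mem_ker.1 hv.2)
      exact eq_neg_of_add_eq_zero_left (hfix' _ (U.add_mem (hSU v hv.1) hv.1) (by rw [map_add, h2', add_comm]))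
    have hRev := H.even_finrank hR hRn fun v hv h2' => hRf v hv (hm1 v (hRU hv) (eq_neg_of_add_eq_zero_left
      (hfix' _ (U.add_mem (hSU v (hRU hv)) (hRU hv)) (by rw [map_add, h2', add_comm]))))
    have hev : Even (finrank F E) := by
      rw [hZE] at hdim
      obtain ⟨c, hc⟩ := hRev; exact ⟨4 - c, by omega⟩
    rw [hZE]
    refine ⟨?_, hev⟩
    rw [hdeg, mul_one] at hchain
    by_contra hlt
    have hdimE : finrank F E - 1 = k := by omega
    obtain ⟨hEn, -⟩ := H.split hSU hsplit.ndU _ (H.symPoly_adjoint f)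
    rw [hZE] at hEn
    have h0 := not_regular C h2 hEn (T := lin (u : GL ι F)) (fun a b => lin_B C u.2 a b) (fun v hv => by
      have := E.add_mem (hEX v hv) hv
      simpa [hX'] using this) hnil hev (by omega)
    rw [hdimE, ← hX'] at h0
    refine hEne ((Submodule.eq_bot_iff _).2 ?_)
    rintro _ ⟨v, hv, rfl⟩
    exact h0 v hv
  rcases H.classify hSU hsplit.ndU hfix' P with ⟨he, hz, -⟩ | ⟨a, ha, hdeg, he⟩ | hB
  · -- paired
    have hb2 : b ≤ 2 := by
      by_contra h
      have : p ^ 2 ≤ k := Nat.pow_le_pow_right hp.out.pos (by omega)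
      have : 9 ≤ k := le_trans (Nat.pow_le_pow_left hp3 2) this
      have := hmulmono 9 ‹_›
      omega
    obtain rfl | rfl : b = 1 ∨ b = 2 := by omega
    · rw [pow_one, mul_comm]
      simp only [hk, Nat.sub_self, pow_zero] at hchain
      obtain h1 | h2' : f.natDegree = 1 ∨ f.natDegree = 2 := by omega
      · rcases H.four hodd hR hRn hRfix (by omega) with h' | h'
        · exact Or.inr (Or.inr (Or.inr (Or.inr (Or.inr (Or.inr (Or.inl (mul_dvd_mul_left p (hdvd _
            (fix_sup hsup (fun v hv => fix_dvd a1 (by have := he v (LinearMap.mem_ker.1 hv.2); rwa [h1, pow_one] at this))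
              h')))))))))
        · exact Or.inr (Or.inr (Or.inr (Or.inr (Or.inl (mul_dvd_mul_left p (hdvd _
            (fix_sup hsup (fun v hv => fix_dvd a9 (by have := he v (LinearMap.mem_ker.1 hv.2); rwa [h1, pow_one] at this))
              (fun v hv => fix_dvd (dvd_mul_right _ _) (h' v hv)))))))))
      · have hR0 : R = ⊥ := Submodule.finrank_eq_zero.1 (by omega)
        exact Or.inr (Or.inr (Or.inr (Or.inr (Or.inr (Or.inr (Or.inl (mul_dvd_mul_left p (hdvd _
          (fix_sup hsup (fun v hv => by have := he v (LinearMap.mem_ker.1 hv.2); rwa [h2'] at this)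
            (fun v hv => by rw [hR0, Submodule.mem_bot] at hv; rw [hv, map_zero])))))))))) 
    · simp only [hk, show 2 - 1 = 1 from rfl, pow_one] at hchain hmulmono
      have := hmulmono 3 hp3
      have h1 : f.natDegree = 1 := by omega
      rw [h1, mul_one] at hchain
      obtain rfl : p = 3 := by omega
      have hR0 : R = ⊥ := Submodule.finrank_eq_zero.1 (by omega)
      refine Or.inr (Or.inr (Or.inr (Or.inr (Or.inr (Or.inr (Or.inr (Or.inl ⟨rfl, ?_⟩)))))))
      rw [mul_comm]
      exact mul_dvd_mul_left _ (hdvd _ (fix_sup hsup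
        (fun v hv => fix_dvd a4 (by have := he v (LinearMap.mem_ker.1 hv.2); rwa [h1, pow_one] at this))
        (fun v hv => by rw [hR0, Submodule.mem_bot] at hv; rw [hv, map_zero])))
  · -- self dual
    have hb2 : b ≤ 2 := by
      by_contra h
      have : p ^ 2 ≤ k := Nat.pow_le_pow_right hp.out.pos (by omega)
      have : 9 ≤ k := le_trans (Nat.pow_le_pow_left hp3 2) this
      have := hmulmono 9 ‹_›
      omega
    obtain rfl | rfl : b = 1 ∨ b = 2 := by omega
    · rw [pow_one, mul_comm]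
      simp only [hk, Nat.sub_self, pow_zero] at hchain
      obtain rfl | rfl : a = 1 ∨ a = 2 := by omega
      · rcases H.four hodd hR hRn hRfix (by omega) with h' | h'
        · exact Or.inr (Or.inr (Or.inr (Or.inr (Or.inr (Or.inr (Or.inl (mul_dvd_mul_left p (hdvd _
            (fix_sup hsup (fun v hv => fix_dvd a2 (by simpa using he v (LinearMap.mem_ker.1 hv.2))) h')))))))))
        · exact Or.inr (Or.inr (Or.inr (Or.inr (Or.inr (Or.inl (mul_dvd_mul_left p (hdvd _
            (fix_sup hsup (fun v hv => fix_dvd a10 (by simpa using he v (LinearMap.mem_ker.1 hv.2)))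
              (fun v hv => fix_dvd (dvd_mul_right _ _) (h' v hv))))))))))
      · have hR0 : R = ⊥ := Submodule.finrank_eq_zero.1 (by omega)
        exact Or.inr (Or.inr (Or.inr (Or.inr (Or.inl (mul_dvd_mul_left p (hdvd _
          (fix_sup hsup (fun v hv => fix_dvd (dvd_mul_right _ _) (he v (LinearMap.mem_ker.1 hv.2)))
            (fun v hv => by rw [hR0, Submodule.mem_bot] at hv; rw [hv, map_zero]))))))))
    · simp only [hk, show 2 - 1 = 1 from rfl, pow_one] at hchain hmulmono
      have := hmulmono 3 hp3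
      obtain rfl : a = 1 := by omega
      rw [hdeg] at hchain
      obtain rfl : p = 3 := by omega
      have hR0 : R = ⊥ := Submodule.finrank_eq_zero.1 (by omega)
      refine Or.inr (Or.inr (Or.inr (Or.inr (Or.inr (Or.inr (Or.inr (Or.inl ⟨rfl, ?_⟩)))))))
      rw [mul_comm]
      exact mul_dvd_mul_left _ (hdvd _ (fix_sup hsup
        (fun v hv => fix_dvd a5 (by simpa using he v (LinearMap.mem_ker.1 hv.2)))
        (fun v hv => by rw [hR0, Submodule.mem_bot] at hv; rw [hv, map_zero])))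
  · -- the eigenvalue `-1`
    obtain ⟨hk2, hev⟩ := hneg hB
    obtain ⟨-, he, -⟩ := hB
    have hb2 : b ≤ 2 := by
      by_contra h
      have : p ^ 2 ≤ k := Nat.pow_le_pow_right hp.out.pos (by omega)
      have : 9 ≤ k := le_trans (Nat.pow_le_pow_left hp3 2) this
      omega
    obtain rfl | rfl : b = 1 ∨ b = 2 := by omega
    · rw [pow_one, mul_comm]
      simp only [hk, Nat.sub_self, pow_zero] at hk2
      obtain ⟨c, hc⟩ := hev
      rcases H.four hodd hR hRn hRfix (by omega) with h' | h'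
      · exact Or.inr (Or.inr (Or.inr (Or.inr (Or.inr (Or.inr (Or.inl (mul_dvd_mul_left p (hdvd _
          (fix_sup hsup (fun v hv => fix_dvd a3 (he v (LinearMap.mem_ker.1 hv.2))) h')))))))))
      · exact Or.inr (Or.inr (Or.inr (Or.inr (Or.inl (mul_dvd_mul_left p (hdvd _
          (fix_sup hsup (fun v hv => fix_dvd a11 (he v (LinearMap.mem_ker.1 hv.2)))
            (fun v hv => fix_dvd (dvd_mul_right _ _) (h' v hv)))))))))
    · simp only [hk, show 2 - 1 = 1 from rfl, pow_one] at hk2
      obtain ⟨c, hc⟩ := hev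
      obtain rfl | rfl : p = 3 ∨ p = 5 := by
        have : p ≤ 6 := by omega
        interval_cases p <;> first | omega | (exfalso; exact absurd hp.out (by norm_num))
      · obtain ⟨n, hn', hnR⟩ := H.two' hR hRn hRfix (by omega)
        refine Or.inr (Or.inr (Or.inr (Or.inr (Or.inr (Or.inr (Or.inr (Or.inl ⟨rfl, ?_⟩)))))))
        rw [mul_comm]
        refine mul_dvd_mul_left _ (hdvd _ (fix_sup hsup (fun v hv => fix_dvd a6 (he v (LinearMap.mem_ker.1 hv.2)))
          fun v hv => fix_dvd ?_ (hnR v hv)))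
        rcases hn' with rfl | rfl | rfl
        exacts [a4, a5, a6]
      · have hR0 : R = ⊥ := Submodule.finrank_eq_zero.1 (by omega)
        refine Or.inr (Or.inr (Or.inr (Or.inr (Or.inr (Or.inr (Or.inr (Or.inr ⟨rfl, ?_⟩)))))))
        rw [mul_comm]
        exact mul_dvd_mul_left _ (hdvd _ (fix_sup hsup (fun v hv => he v (LinearMap.mem_ker.1 hv.2))
          (fun v hv => by rw [hR0, Submodule.mem_bot] at hv; rw [hv, map_zero])))

end Cfsg.Lib.Spec.NineEight
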