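import Cfsg.Agent.Lib.Spec.NineEight.Basic
import Cfsg.Agent.Lib.Linear.OrthSplit
import Cfsg.Agent.Lib.Linear.OrthCentralizerSpin

/-!
# Semisimple isometries: polynomial kernels, their exponents, parities
-/

set_option autoImplicit false

namespace Cfsg.Lib.Spec.NineEight

open Module Polynomial Cfsg.Lib.Linear.Orth
open scoped Matrix

/-- An irreducible factor and the Galois conjugacy of a root with its inverse. -/
theorem exponent_of_irreducible {F : Type*} [Field F] [Finite F] {f : F[X]} (hirr : Irreducible f) {M : ℕ} (hM : 0 < M)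
    (hfM : f ∣ X ^ M - 1) :
    f ∣ X ^ (Nat.card F ^ f.natDegree - 1) - 1 ∧
      (f ∣ f.comp (X ^ (M - 1)) →
        (f.natDegree = 1 ∧ f ∣ X ^ 2 - 1) ∨ ∃ a, 0 < a ∧ f.natDegree = 2 * a ∧ f ∣ X ^ (Nat.card F ^ a + 1) - 1) := by
  classical
  haveI : Fact (Irreducible f) := ⟨hirr⟩
  have hf0 : f ≠ 0 := hirr.ne_zero
  set K := AdjoinRoot f
  set r : K := AdjoinRoot.root f
  haveI : FiniteDimensional F K := (AdjoinRoot.powerBasis hf0).finite
  haveI : Finite K := Module.finite_of_finite F
  haveI := Fintype.ofFinite F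
  haveI := Fintype.ofFinite K
  have hm : finrank F K = f.natDegree := (AdjoinRoot.powerBasis hf0).finrank.trans (AdjoinRoot.powerBasis_dim hf0)
  have hm0 : 0 < f.natDegree := hirr.natDegree_pos
  have hdvd : ∀ g : F[X], f ∣ g ↔ aeval r g = 0 := fun g => by
    rw [AdjoinRoot.aeval_eq, AdjoinRoot.mk_eq_zero]
  have hrM : r ^ M = 1 := by
    have := (hdvd _).1 hfM
    simpa [sub_eq_zero] using this
  have hr0 : r ≠ 0 := fun h => by rw [h, zero_pow hM.ne'] at hrM; exact zero_ne_one hrM
  have hq : Nat.card F = Fintype.card F := Nat.card_eq_fintype_card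
  have hK : Fintype.card K = Fintype.card F ^ f.natDegree := by
    rw [Module.card_eq_pow_finrank (K := F), hm]
  have hgen : ∀ n : ℕ, f ∣ X ^ n - 1 ↔ r ^ n = 1 := fun n => by
    rw [hdvd]; simp [sub_eq_zero]
  refine ⟨(hgen _).2 ?_, fun hcomp => ?_⟩
  · rw [hq, ← hK]; exact FiniteField.pow_card_sub_one_eq_one r hr0
  have hri : aeval (r ^ (M - 1)) f = 0 := by
    have := (hdvd _).1 hcomp
    rwa [aeval_comp, aeval_X_pow] at this
  obtain ⟨⟨i, hi⟩, hiσ⟩ := (FiniteField.bijective_frobeniusAlgHom_pow F K).2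
    (AdjoinRoot.liftAlgHom f (Algebra.ofId F K) (r ^ (M - 1)) hri)
  have hfrob : ∀ (j : ℕ) (x : K), (FiniteField.frobeniusAlgHom F K ^ j) x = x ^ Fintype.card F ^ j := by
    intro j
    induction j with
    | zero => intro x; simp
    | succ j ih =>
      intro x
      rw [pow_succ', AlgHom.mul_apply, ih, FiniteField.coe_frobeniusAlgHom, pow_succ, pow_mul]
  have hinv : r ^ Fintype.card F ^ i = r ^ (M - 1) := by
    have h1 := DFunLike.congr_fun hiσ r
    simp only [hfrob] at h1
    rw [h1]
    exact AdjoinRoot.liftAlgHom_root _ _ _ _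
  have hnorm : r ^ (Fintype.card F ^ i + 1) = 1 := by
    rw [pow_succ, hinv, ← pow_succ, Nat.sub_add_cancel hM, hrM]
  rw [hm] at hi
  rcases Nat.eq_zero_or_pos i with rfl | hi0
  · left
    rw [pow_zero] at hnorm
    refine ⟨?_, (hgen 2).2 hnorm⟩
    have hf2 : f ∣ (X - C (1 : F)) * (X - C (-1 : F)) := by
      rw [hdvd, map_mul, map_sub, map_sub, aeval_X, aeval_C, aeval_C, map_one, map_neg, map_one, sub_neg_eq_add]
      linear_combination hnorm
    rcases hirr.prime.dvd_or_dvd hf2 with h | h <;>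
    · have := Polynomial.natDegree_le_of_dvd h (X_sub_C_ne_zero _)
      rw [natDegree_X_sub_C] at this
      omega
  · right
    have h2i : f.natDegree ∣ 2 * i := by
      refine (hirr.natDegree_dvd_iff_dvd_X_pow_card_pow_sub_X).2 ?_
      rw [hdvd, map_sub, aeval_X_pow, aeval_X, sub_eq_zero, hq]
      have h1 : (r ^ Fintype.card F ^ i) * r = 1 := by rw [← pow_succ, hnorm]
      have h2 : (r ^ Fintype.card F ^ i) ^ Fintype.card F ^ i * r ^ Fintype.card F ^ i = 1 := by
        rw [← mul_pow, h1, one_pow]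
      rw [two_mul, pow_add, pow_mul]
      calc (r ^ Fintype.card F ^ i) ^ Fintype.card F ^ i
          = (r ^ Fintype.card F ^ i) ^ Fintype.card F ^ i * ((r ^ Fintype.card F ^ i) * r) := by rw [h1, mul_one]
        _ = r := by rw [← mul_assoc, h2, one_mul]
    obtain ⟨c, hc⟩ := h2i
    have hc1 : c = 1 := by
      rcases c with _ | _ | c
      · omega
      · rfl
      · have := Nat.mul_le_mul_left f.natDegree (show 2 ≤ c + 1 + 1 by omega)
        omega
    exact ⟨i, hi0, by rw [hc, hc1, mul_one], by rw [hgen, hq]; exact hnorm⟩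

/-! ## Linear algebra of an endomorphism of finite order prime to the characteristic -/

section End

variable {F V : Type*} [Field F] [AddCommGroup V] [Module F V] {S : Module.End F V}

theorem aeval_pow_eq {M : ℕ} (hSM : S ^ M = 1) : aeval S (X ^ M - 1 : F[X]) = 0 := by simp [hSM]

/-- Polynomial kernels of `S` are complements of their images. -/
theorem semisimple {M : ℕ} (hSM : S ^ M = 1) (hM : (M : F) ≠ 0) (f : F[X]) {v : V}
    (hv : aeval S f (aeval S f v) = 0) : aeval S f v = 0 := by
  have hsep : (X ^ M - 1 : F[X]).Separable := X_pow_sub_one_separable_iff.2 hM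
  obtain ⟨g, hg, hgf, hgd⟩ : ∃ g : F[X], g ∣ X ^ M - 1 ∧ g ∣ f * f ∧ aeval S g v = 0 := by
    classical
    refine ⟨EuclideanDomain.gcd (X ^ M - 1) (f * f), EuclideanDomain.gcd_dvd_left _ _,
      EuclideanDomain.gcd_dvd_right _ _, ?_⟩
    rw [EuclideanDomain.gcd_eq_gcd_ab, map_add, map_mul, map_mul, LinearMap.add_apply, Module.End.mul_apply,
      Module.End.mul_apply, aeval_pow_eq hSM, LinearMap.zero_apply, zero_add, ← Module.End.mul_apply, ← map_mul,
      mul_comm, map_mul, Module.End.mul_apply, map_mul, Module.End.mul_apply, hv, map_zero]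
  have hgdvd : g ∣ f := ((hsep.squarefree.squarefree_of_dvd hg).dvd_pow_iff_dvd two_ne_zero).1 (by rwa [sq])
  obtain ⟨c, hc⟩ := hgdvd
  rw [hc, mul_comm, map_mul, Module.End.mul_apply, hgd, map_zero]

theorem aeval_mem {Y : Submodule F V} (hY : ∀ v ∈ Y, S v ∈ Y) (f : F[X]) : ∀ v ∈ Y, aeval S f v ∈ Y := by
  induction f using Polynomial.induction_on' with
  | add f g hf hg => exact fun v hv => by rw [map_add, LinearMap.add_apply]; exact Y.add_mem (hf v hv) (hg v hv)
  | monomial k c =>
    intro v hv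
    rw [aeval_monomial, Module.End.mul_apply, Module.algebraMap_end_apply]
    refine Y.smul_mem _ ?_
    induction k with
    | zero => simpa using hv
    | succ k ih => rw [pow_succ', Module.End.mul_apply]; exact hY _ ih

theorem aeval_comm (f g : F[X]) (v : V) : aeval S f (aeval S g v) = aeval S g (aeval S f v) := by
  rw [← Module.End.mul_apply, ← map_mul, mul_comm, map_mul, Module.End.mul_apply]

theorem aeval_kills {f g : F[X]} (hfg : f ∣ g) {v : V} (hv : aeval S f v = 0) : aeval S g v = 0 := by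
  obtain ⟨c, rfl⟩ := hfg
  rw [mul_comm, map_mul, Module.End.mul_apply, hv, map_zero]

theorem pow_fix_of_dvd {f : F[X]} {n : ℕ} (h : f ∣ X ^ n - 1) {v : V} (hv : aeval S f v = 0) : (S ^ n) v = v := by
  have := aeval_kills h hv
  simpa [sub_eq_zero] using this

theorem dvd_of_kills {f g : F[X]} (hirr : Irreducible f) {v : V} (hv0 : v ≠ 0) (hv : aeval S f v = 0)
    (hg : aeval S g v = 0) : f ∣ g := by
  rcases dvd_or_isCoprime f g hirr with h | ⟨a, b, hab⟩
  · exact h
  · refine absurd ?_ hv0
    have := LinearMap.congr_fun (congrArg (aeval S) hab) v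
    simp [hv, hg] at this
    exact this.symm

/-- An invariant subspace has an irreducible annihilator of one of its vectors. -/
theorem exists_factor {M : ℕ} (hSM : S ^ M = 1) (hM0 : 0 < M) {Y : Submodule F V} (hY : ∀ v ∈ Y, S v ∈ Y)
    (hY0 : Y ≠ ⊥) :
    ∃ f : F[X], Irreducible f ∧ f.Monic ∧ f ∣ X ^ M - 1 ∧ ∃ v ∈ Y, v ≠ 0 ∧ aeval S f v = 0 := by
  classical
  have hne : (X ^ M - 1 : F[X]) ≠ 0 := by
    rw [← map_one C]; exact X_pow_sub_C_ne_zero hM0 1
  have key : ∀ n : ℕ, ∀ g : F[X], g.natDegree ≤ n → g ∣ X ^ M - 1 → ∀ v ∈ Y, v ≠ 0 → aeval S g v = 0 →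
      ∃ f : F[X], Irreducible f ∧ f ∣ X ^ M - 1 ∧ ∃ v ∈ Y, v ≠ 0 ∧ aeval S f v = 0 := by
    intro n
    induction n using Nat.strong_induction_on with
    | _ n ih =>
      intro g hgn hg v hv hv0 hgv
      have hg0 : g ≠ 0 := ne_zero_of_dvd_ne_zero hne hg
      have hgu : ¬ IsUnit g := fun hu => hv0 (by
        obtain ⟨c, hc, rfl⟩ := Polynomial.isUnit_iff.1 hu
        rw [aeval_C, Module.algebraMap_end_apply, smul_eq_zero] at hgv
        exact hgv.resolve_left hc.ne_zero)
      obtain ⟨f, hf, c, rfl⟩ := WfDvdMonoid.exists_irreducible_factor hgu hg0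
      by_cases h : aeval S c v = 0
      · have hc0 : c ≠ 0 := right_ne_zero_of_mul hg0
        have hlt : c.natDegree < n := by
          rw [natDegree_mul hf.ne_zero hc0] at hgn
          have := hf.natDegree_pos
          omega
        exact ih _ hlt c le_rfl ((dvd_mul_left c f).trans hg) v hv hv0 h
      · exact ⟨f, hf, (dvd_mul_right f c).trans hg, _, aeval_mem hY c v hv, h,
          by rw [← Module.End.mul_apply, ← map_mul]; exact hgv⟩
  obtain ⟨v, hv, hv0⟩ := Submodule.exists_mem_ne_zero_of_ne_bot hY0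
  obtain ⟨f, hf, hfd, w, hw, hw0, hfw⟩ := key _ _ le_rfl dvd_rfl v hv hv0
    (by rw [aeval_pow_eq hSM, LinearMap.zero_apply])
  refine ⟨normalize f, (associated_normalize f).irreducible hf, monic_normalize hf.ne_zero,
    normalize_dvd_iff.2 hfd, w, hw, hw0, aeval_kills (dvd_normalize_iff.2 dvd_rfl) hfw⟩

/-- A non-zero vector of an irreducible kernel spans as much as the degree. -/
theorem natDegree_le_finrank {f : F[X]} (hirr : Irreducible f) {Y : Submodule F V} [FiniteDimensional F Y]
    (hY : ∀ v ∈ Y, S v ∈ Y) {v : V} (hv : v ∈ Y) (hv0 : v ≠ 0) (hfv : aeval S f v = 0) :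
    f.natDegree ≤ finrank F Y := by
  let Φ : (degreeLT F f.natDegree) →ₗ[F] Y :=
    { toFun := fun h => ⟨aeval S (h : F[X]) v, aeval_mem hY _ v hv⟩
      map_add' := fun a b => by ext; simp
      map_smul' := fun c a => by ext; simp }
  have hinj : Function.Injective Φ := by
    rw [injective_iff_map_eq_zero]
    rintro ⟨h, hh⟩ h0
    refine Subtype.ext ?_
    by_contra hne
    have hdvd := dvd_of_kills hirr hv0 hfv (g := h) (congrArg Subtype.val h0)
    have h1 := Polynomial.natDegree_le_of_dvd hdvd hne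
    have h2 := mem_degreeLT.1 hh
    rw [degree_eq_natDegree hne] at h2
    have h2' : h.natDegree < f.natDegree := Nat.cast_lt.1 h2
    exact absurd (show f.natDegree ≤ h.natDegree from h1) (not_le.2 h2')
  have := LinearMap.finrank_le_finrank_of_injective hinj
  rwa [(degreeLTEquiv F f.natDegree).finrank_eq, finrank_fintype_fun_eq_card, Fintype.card_fin] at this

end End

/-! ## Parity -/

variable {ι : Type} [Fintype ι] [DecidableEq ι] {F : Type*} [Field F]
  {Q : (ι → F) → F} {B : LinearMap.BilinForm F (ι → F)}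

/-- The determinants of adjoint maps of a non-degenerate subspace agree. -/
theorem det_adjoint (C : Space Q B) {Y : Submodule F (ι → F)} (hY : NDeg B Y) (A A' : Module.End F Y)
    (h : ∀ a b : Y, B (A a : ι → F) b = B a (A' b : ι → F)) : LinearMap.det A = LinearMap.det A' := by
  classical
  set b := Module.finBasis F Y
  let G : Matrix (Fin (finrank F Y)) (Fin (finrank F Y)) F := LinearMap.toMatrix₂ b b (B.compl₁₂ Y.subtype Y.subtype)
  have hG : G.det ≠ 0 := by
    rw [← Matrix.nondegenerate_iff_det_ne_zero, LinearMap.nondegenerate_toMatrix₂_iff]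
    refine (LinearMap.IsRefl.nondegenerate_iff_separatingLeft ?_).2 ?_
    · intro x y hxy
      exact (C.symm y x).trans hxy
    · intro x hx
      exact Subtype.ext (hY x.1 x.2 fun y hy => hx ⟨y, hy⟩)
  have e : (LinearMap.toMatrix b b A).transpose * G = G * LinearMap.toMatrix b b A' := by
    have h' : (B.compl₁₂ Y.subtype Y.subtype).compl₁₂ A LinearMap.id =
        (B.compl₁₂ Y.subtype Y.subtype).compl₁₂ LinearMap.id A' := LinearMap.ext fun a => LinearMap.ext fun c => h a c
    have := congrArg (LinearMap.toMatrix₂ b b) h'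
    rwa [LinearMap.toMatrix₂_compl₁₂ b b, LinearMap.toMatrix₂_compl₁₂ b b, LinearMap.toMatrix_id,
      Matrix.transpose_one, Matrix.one_mul, Matrix.mul_one] at this
  have hd := congrArg Matrix.det e
  rw [Matrix.det_mul, Matrix.det_mul, Matrix.det_transpose, LinearMap.det_toMatrix, LinearMap.det_toMatrix,
    mul_comm G.det] at hd
  exact mul_right_cancel₀ hG hd

/-- An injective skew map forces even dimension. -/
theorem even_of_skew (C : Space Q B) (h2 : (2 : F) ≠ 0) {Y : Submodule F (ι → F)} (hY : NDeg B Y) (A : Module.End F Y)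
    (hinj : Function.Injective A) (h : ∀ a b : Y, B (A a : ι → F) b = -B a (A b : ι → F)) :
    Even (finrank F Y) := by
  have h1 := det_adjoint C hY A (-A) fun a b => by rw [h]; simp
  rw [← neg_one_smul F A, LinearMap.det_smul] at h1
  have hd : LinearMap.det A ≠ 0 := fun h0 => by
    obtain ⟨v, hv, hv0⟩ := (Submodule.ne_bot_iff _).1 (LinearMap.bot_lt_ker_of_det_eq_zero h0).ne'
    exact hv0 (hinj (by rw [LinearMap.mem_ker.1 hv, map_zero]))
  by_contra hodd
  rw [Nat.not_even_iff_odd] at hodd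
  rw [hodd.neg_one_pow] at h1
  exact hd ((mul_eq_zero.1 (show (2 : F) * LinearMap.det A = 0 by linear_combination h1)).resolve_left h2)

/-- The determinant of an isometry without fixed vectors. -/
theorem det_no_fix (C : Space Q B) {Y : Submodule F (ι → F)} (hY : NDeg B Y) (A A' : Module.End F Y) (h1 : A * A' = 1)
    (hB : ∀ a b : Y, B (A a : ι → F) (A b : ι → F) = B a b) (hfix : ∀ a, A a = a → a = 0) :
    LinearMap.det A = (-1) ^ finrank F Y := by
  have hadj : ∀ a b : Y, B (A a : ι → F) b = B a (A' b : ι → F) := fun a b => by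
    conv_lhs => rw [show b = A (A' b) by rw [← Module.End.mul_apply, h1, Module.End.one_apply]]
    exact hB _ _
  have e1 := det_adjoint C hY A A' hadj
  have e2 := det_adjoint C hY (A - 1) (A' - 1) fun a b => by simp [hadj]
  have e3 : A - 1 = A * (-(A' - 1)) := by
    refine LinearMap.ext fun v => ?_
    have h1v : A (A' v) = v := LinearMap.congr_fun h1 v
    simp [h1v]
  have hd : LinearMap.det (A - 1) ≠ 0 := fun h0 => by
    obtain ⟨v, hv, hv0⟩ := (Submodule.ne_bot_iff _).1 (LinearMap.bot_lt_ker_of_det_eq_zero h0).ne'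
    rw [LinearMap.mem_ker, LinearMap.sub_apply, Module.End.one_apply, sub_eq_zero] at hv
    exact hv0 (hfix v hv)
  have h := congrArg LinearMap.det e3
  rw [map_mul, ← neg_one_smul F (A' - 1), LinearMap.det_smul, ← e2] at h
  have h' : LinearMap.det A * (-1) ^ finrank F Y = 1 := mul_right_cancel₀ hd (by linear_combination -h)
  rcases neg_one_pow_eq_or F (finrank F Y) with hp | hp
  · rw [hp] at h' ⊢; linear_combination h'
  · rw [hp] at h' ⊢; linear_combination -h'

/-! ## The context of a semisimple isometry -/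

/-- An isometry of finite order prime to the characteristic. -/
structure SemiIso (Q : (ι → F) → F) (B : LinearMap.BilinForm F (ι → F)) (S S' : Module.End F (ι → F)) (M : ℕ) :
    Prop where
  space : Space Q B
  two : (2 : F) ≠ 0
  pos : 0 < M
  ne : (M : F) ≠ 0
  powM : S ^ M = 1
  inv_eq : S' = S ^ (M - 1)
  isom : ∀ a b, B (S a) (S b) = B a b

variable {S S' : Module.End F (ι → F)} {M : ℕ} (H : SemiIso Q B S S' M)
include H

theorem SemiIso.mul_inv : S * S' = 1 := by
  rw [H.inv_eq, ← pow_succ', Nat.sub_add_cancel H.pos, H.powM]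

theorem SemiIso.adjoint (f : F[X]) (a b : ι → F) : B (aeval S f a) b = B a (aeval S' f b) :=
  Cfsg.Lib.Linear.CentralizerSpin.aeval_adjoint B (fun a b => by
    conv_lhs => rw [show b = S (S' b) by rw [← Module.End.mul_apply, H.mul_inv, Module.End.one_apply]]
    exact H.isom _ _) f a b

theorem SemiIso.aeval_inv (f : F[X]) : aeval S' f = aeval S (f.comp (X ^ (M - 1))) := by
  rw [aeval_comp, aeval_X_pow, H.inv_eq]

theorem SemiIso.adjoint' (f : F[X]) (a b : ι → F) : B a (aeval S f b) = B (aeval S' f a) b := by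
  rw [H.space.symm a, H.adjoint, H.space.symm b]

/-- The self-adjoint polynomial of an irreducible factor. -/
noncomputable def symPoly (f : F[X]) (M : ℕ) : F[X] := f * f.comp (X ^ (M - 1))

theorem SemiIso.symPoly_adjoint (f : F[X]) (a b : ι → F) :
    B (aeval S (symPoly f M) a) b = B a (aeval S (symPoly f M) b) := by
  rw [symPoly, map_mul, Module.End.mul_apply, Module.End.mul_apply, H.adjoint, ← H.aeval_inv, H.adjoint' f]

/-- The kernel of a self-adjoint polynomial splits an invariant non-degenerate subspace. -/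
theorem SemiIso.split {Y : Submodule F (ι → F)} (hY : ∀ v ∈ Y, S v ∈ Y) (hYn : NDeg B Y) (f : F[X])
    (hsa : ∀ a b, B (aeval S f a) b = B a (aeval S f b)) :
    NDeg B (Y ⊓ LinearMap.ker (aeval S f)) ∧ NDeg B (Y.map (aeval S f)) ∧
      (Y ⊓ LinearMap.ker (aeval S f)) ⊔ Y.map (aeval S f) = Y ∧
      finrank F ↥(Y ⊓ LinearMap.ker (aeval S f)) + finrank F ↥(Y.map (aeval S f)) = finrank F Y ∧
      ∀ a ∈ Y ⊓ LinearMap.ker (aeval S f), ∀ b ∈ Y.map (aeval S f), B a b = 0 := by
  set T := aeval S f
  have hle : Y.map T ≤ Y := by rintro _ ⟨v, hv, rfl⟩; exact aeval_mem hY f v hv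
  have horth : ∀ a ∈ Y ⊓ LinearMap.ker T, ∀ b ∈ Y.map T, B a b = 0 := by
    rintro a ha _ ⟨c, -, rfl⟩
    rw [← hsa, LinearMap.mem_ker.1 ha.2, map_zero, LinearMap.zero_apply]
  have hdisj : (Y ⊓ LinearMap.ker T) ⊓ Y.map T = ⊥ := by
    rw [Submodule.eq_bot_iff]
    rintro _ ⟨⟨-, h⟩, c, -, rfl⟩
    exact semisimple H.powM H.ne f (LinearMap.mem_ker.1 h)
  have hdim : finrank F ↥(Y ⊓ LinearMap.ker T) + finrank F ↥(Y.map T) = finrank F Y := by
    have h := LinearMap.finrank_range_add_finrank_ker (T.domRestrict Y)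
    rw [LinearMap.range_domRestrict, LinearMap.ker_domRestrict] at h
    rw [← h, add_comm]
    congr 1
    exact (Submodule.equivMapOfInjective _ Y.injective_subtype _).finrank_eq.trans (by
      rw [Submodule.map_comap_subtype]) |>.symm
  have hsup : (Y ⊓ LinearMap.ker T) ⊔ Y.map T = Y := by
    refine Submodule.eq_of_le_of_finrank_eq (sup_le inf_le_left hle) ?_
    have := Submodule.finrank_sup_add_finrank_inf_eq (Y ⊓ LinearMap.ker T) (Y.map T)
    rw [hdisj, finrank_bot, add_zero] at this
    rw [this, hdim]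
  refine ⟨fun a ha hab => hYn a ha.1 fun y hy => ?_, fun b hb hbb => hYn b (hle hb) fun y hy => ?_,
    hsup, hdim, horth⟩
  · rw [← hsup] at hy
    obtain ⟨y1, hy1, y2, hy2, rfl⟩ := Submodule.mem_sup.1 hy
    rw [map_add, hab y1 hy1, horth a ha y2 hy2, add_zero]
  · rw [← hsup] at hy
    obtain ⟨y1, hy1, y2, hy2, rfl⟩ := Submodule.mem_sup.1 hy
    rw [map_add, hbb y2 hy2, H.space.symm, horth y1 hy1 b hb, add_zero]

/-- Without the eigenvalues `±1` the dimension is even. -/
theorem SemiIso.even_finrank {Y : Submodule F (ι → F)} (hY : ∀ v ∈ Y, S v ∈ Y) (hYn : NDeg B Y)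
    (hno : ∀ v ∈ Y, S (S v) = v → v = 0) : Even (finrank F Y) := by
  have hY' : ∀ v ∈ Y, S' v ∈ Y := fun v hv => by
    have := aeval_mem hY (X ^ (M - 1)) v hv
    rwa [aeval_X_pow, ← H.inv_eq] at this
  refine even_of_skew H.space H.two hYn (S.restrict hY - S'.restrict hY') ?_ fun a b => ?_
  · rw [injective_iff_map_eq_zero]
    intro a ha
    refine Subtype.ext (hno a.1 a.2 ?_)
    have h1 : S (a : ι → F) = S' a := sub_eq_zero.1 (congrArg Subtype.val ha)
    rw [h1, ← Module.End.mul_apply, H.mul_inv, Module.End.one_apply]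
  · have h := H.adjoint X a.1 b.1
    have h' := H.adjoint' X a.1 b.1
    simp only [aeval_X] at h h'
    simp [LinearMap.sub_apply, map_sub, h, h']

/-- The fixed space splits off. -/
theorem SemiIso.fix_split :
    Split Q B (LinearMap.range (S - 1)) (LinearMap.ker (S - 1)) ∧
      (∀ v ∈ LinearMap.range (S - 1), S v = v → v = 0) := by
  have hSB := H.isom
  have horth : ∀ a ∈ LinearMap.range (S - 1), ∀ w ∈ LinearMap.ker (S - 1), B a w = 0 := by
    rintro _ ⟨a, rfl⟩ w hw
    rw [LinearMap.mem_ker, LinearMap.sub_apply, Module.End.one_apply, sub_eq_zero] at hw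
    rw [LinearMap.sub_apply, map_sub, LinearMap.sub_apply, Module.End.one_apply]
    conv_lhs => arg 1; rw [← hw]
    rw [hSB, sub_self]
  have hdisj : ∀ v ∈ LinearMap.range (S - 1), S v = v → v = 0 := by
    rintro _ ⟨a, rfl⟩ h
    have e : aeval S (X - 1 : F[X]) = S - 1 := by simp
    have := semisimple H.powM H.ne (X - 1 : F[X]) (v := a) (by rw [e, LinearMap.sub_apply, Module.End.one_apply, h, sub_self])
    rwa [e] at this
  have hsup : LinearMap.range (S - 1) ⊔ LinearMap.ker (S - 1) = ⊤ := by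
    refine Submodule.eq_top_of_finrank_eq ?_
    have h0 : LinearMap.range (S - 1) ⊓ LinearMap.ker (S - 1) = ⊥ := by
      rw [Submodule.eq_bot_iff]
      intro v hv
      exact hdisj v hv.1 (sub_eq_zero.1 (LinearMap.mem_ker.1 hv.2))
    have := Submodule.finrank_sup_add_finrank_inf_eq (LinearMap.range (S - 1)) (LinearMap.ker (S - 1))
    rw [h0, finrank_bot, add_zero] at this
    rw [this, LinearMap.finrank_range_add_finrank_ker]
  refine ⟨⟨fun a ha hab => H.space.nondeg' fun y => ?_, fun a ha hab => H.space.nondeg' fun y => ?_, horth, hsup⟩, hdisj⟩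
  all_goals obtain ⟨y1, hy1, y2, hy2, rfl⟩ := Submodule.mem_sup.1 (hsup ▸ Submodule.mem_top : y ∈ _ ⊔ _)
  · rw [map_add, hab y1 hy1, horth a ha y2 hy2, add_zero]
  · rw [map_add, hab y2 hy2, H.space.symm, horth y1 hy1 a ha, add_zero]

end Cfsg.Lib.Spec.NineEight
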