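import Cfsg.Agent.Lib.Spec.NineEight.Basic
import Cfsg.Agent.Lib.Linear.OrthForms
import Cfsg.Agent.Lib.Linear.OrthStdBasis

/-!
# Similarities of forms: recognising the minus type by the spinor character of `-1`
-/

set_option autoImplicit false

namespace Cfsg.Lib.Spec.NineEight

open Module Cfsg.Lib.Linear.Orth
open scoped Matrix

variable {ι κ : Type} [Fintype ι] [DecidableEq ι] [Fintype κ] [DecidableEq κ] {F : Type*} [Field F]
  {Q : (ι → F) → F} {B : LinearMap.BilinForm F (ι → F)} {R : (κ → F) → F} {D : LinearMap.BilinForm F (κ → F)}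

/-- Images of the coordinate vectors with the scaled Gram matrix give a similarity. -/
theorem similar_of_basis (C : Space Q B) (C' : Space R D) (h2 : (2 : F) ≠ 0)
    (hcard : Fintype.card κ = Fintype.card ι) (w : κ → ι → F) {c : F} (hc : c ≠ 0)
    (hw : ∀ k l, B (w k) (w l) = c * D (Pi.single k 1) (Pi.single l 1)) :
    ∃ e : (κ → F) ≃ₗ[F] (ι → F), ∀ v, Q (e v) = c * R v := by
  classical
  set T := (Pi.basisFun F κ).constr F w with hT
  have hTk : ∀ k, T (Pi.single k 1) = w k := fun k => by
    rw [hT, ← Pi.basisFun_apply F κ, Module.Basis.constr_basis]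
  have hB : B.compl₁₂ T T = c • D := LinearMap.ext_basis (Pi.basisFun F κ) (Pi.basisFun F κ) fun k l => by
    simp only [LinearMap.compl₁₂_apply, LinearMap.smul_apply, Pi.basisFun_apply, smul_eq_mul, hTk, hw]
  have hBp : ∀ u v, B (T u) (T v) = c * D u v := fun u v => LinearMap.congr_fun (LinearMap.congr_fun hB u) v
  have hinj : Function.Injective T := by
    rw [injective_iff_map_eq_zero]
    intro v hv
    refine C'.nondeg v fun u => ?_
    have h := hBp u v
    rw [hv, map_zero] at h
    exact (mul_eq_zero.mp h.symm).resolve_left hc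
  refine ⟨LinearMap.linearEquivOfInjective T hinj (by simp [hcard]), fun v => mul_left_cancel₀ h2 ?_⟩
  rw [← C.self, LinearMap.linearEquivOfInjective_apply, hBp, C'.self]
  ring

/-- A quadratic form out of a space. -/
def qform (C : Space Q B) : QuadraticForm F (ι → F) :=
  QuadraticMap.ofPolar Q (fun c v => by rw [C.smul, smul_eq_mul, sq])
    (fun x x' y => by rw [C.polar, C.polar, C.polar, map_add, LinearMap.add_apply])
    (fun c x y => by rw [C.polar, C.polar, map_smul, LinearMap.smul_apply])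

theorem qform_apply (C : Space Q B) (v : ι → F) : qform C v = Q v := rfl

theorem qform_polar (C : Space Q B) (u v : ι → F) : QuadraticMap.polar ⇑(qform C) u v = B u v := C.polar u v

theorem qform_nondeg (C : Space Q B) : (QuadraticMap.polarBilin (qform C)).Nondegenerate :=
  ⟨fun v hv => C.nondeg v fun u => by rw [C.symm, ← qform_polar C]; exact hv u,
    fun v hv => C.nondeg v fun u => by rw [← qform_polar C]; exact hv u⟩

/-- The line. -/
def lineQ (F : Type*) [Field F] (t : Unit → F) : F := t () ^ 2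

theorem exists_space_line (h2 : (2 : F) ≠ 0) : ∃ D : LinearMap.BilinForm F (Unit → F), Space (lineQ F) D := by
  refine ⟨LinearMap.mk₂ F (fun s t => 2 * s () * t ()) (fun a b c => by simp; ring) (fun r a b => by simp; ring)
    (fun a b c => by simp; ring) (fun r a b => by simp; ring), fun c v => by simp [lineQ]; ring,
    fun u v => by simp [QuadraticMap.polar, lineQ]; ring, fun v hv => funext fun _ => ?_⟩
  have := hv 1
  simp [h2] at this
  exact this

variable [Fintype F]

/-- The element `-1` exists with spinor character `ε`. -/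
def NegSpin (Q : (ι → F) → F) (ε : ℤˣ) : Prop :=
  ∃ g : ↥(isometryGroup F Q), (g : GL ι F).val = -1 ∧ spin Q g = ε

/-- Anisotropic binary forms are isometric. -/
theorem binary_equiv (h2 : (2 : F) ≠ 0) {a b ζ : F}
    (hab : ∀ z₁ z₂ : F, z₁ ^ 2 + a * z₁ * z₂ + b * z₂ ^ 2 = 0 → z₁ = 0 ∧ z₂ = 0)
    (hζ : ∀ t : F, t ^ 2 + t + ζ ≠ 0) : ∃ r : F, r ≠ 0 ∧ r ^ 2 * (a ^ 2 - 4 * b) = 1 - 4 * ζ := by
  classical
  have hns : ¬ IsSquare (a ^ 2 - 4 * b) := by
    rintro ⟨x, hx⟩
    exact h2 (hab (-a + x) 2 (by linear_combination -hx)).2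
  have hns' : ¬ IsSquare (1 - 4 * ζ) := by
    rintro ⟨x, hx⟩
    refine hζ ((-1 + x) / 2) ?_
    field_simp
    linear_combination -hx
  have hF : ringChar F ≠ 2 := fun h => h2 (by
    haveI := ringChar.of_eq h
    exact CharTwo.two_eq_zero)
  have hd : a ^ 2 - 4 * b ≠ 0 := fun h => hns (h ▸ IsSquare.zero)
  have hd' : (1 : F) - 4 * ζ ≠ 0 := fun h => hns' (h ▸ IsSquare.zero)
  have hchi : quadraticChar F ((1 - 4 * ζ) * (a ^ 2 - 4 * b)⁻¹) = 1 := by
    rw [map_mul, quadraticChar_neg_one_iff_not_isSquare.2 hns',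
      quadraticChar_neg_one_iff_not_isSquare.2 (fun h => hns (by simpa using h.inv))]
    norm_num
  obtain ⟨r, hr⟩ := (quadraticChar_one_iff_isSquare (mul_ne_zero hd' (inv_ne_zero hd))).1 hchi
  refine ⟨r, fun h => ?_, ?_⟩
  · rw [h, mul_zero] at hr; exact mul_ne_zero hd' (inv_ne_zero hd) hr
  · rw [sq, ← hr]; field_simp

/-- An eight dimensional space in which `-1` has spinor character `-1` is of minus type. -/
theorem minus_of_negSpin (C : Space Q B) (h2 : (2 : F) ≠ 0) (hι : Fintype.card ι = 8) (hneg : NegSpin Q (-1))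
    {a b : F} (hab : ∀ z₁ z₂ : F, z₁ ^ 2 + a * z₁ * z₂ + b * z₂ ^ 2 = 0 → z₁ = 0 ∧ z₂ = 0) :
    ∃ e : ((Fin 3 ⊕ Fin 3) ⊕ Fin 2 → F) ≃ₗ[F] (ι → F), ∀ v, Q (e v) = 1 * quadFormMinus 3 F a b v := by
  classical
  obtain ⟨g, hg, hgs⟩ := hneg
  have hV : finrank F (ι → F) = 2 * 4 := by rw [finrank_fintype_fun_eq_card, hι]
  rcases std_basis_even (m := 4) (by norm_num) hV (qform C) (qform_nondeg C) with
    ⟨w, hq, hef, hee⟩ | ⟨w, ζ, hζ, hq, hef, hee, hpl, hx, hxy, hy⟩
  · simp only [qform_polar, qform_apply] at hq hef hee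
    exfalso
    let v : Fin 4 ⊕ Fin 4 → ι → F :=
      Sum.elim (fun i => w (.inl i) + w (.inr i)) fun i => w (.inl i) - w (.inr i)
    have hQv : ∀ i : Fin 4, Q (v (.inl i)) = 1 ∧ Q (v (.inr i)) = -1 := fun i => by
      constructor
      · show Q (w (.inl i) + w (.inr i)) = 1
        rw [C.add, (hq i).1, (hq i).2, hef, if_pos rfl]; ring
      · show Q (w (.inl i) - w (.inr i)) = -1
        rw [sub_eq_add_neg, C.add, C.neg, (hq i).1, (hq i).2, map_neg, hef, if_pos rfl]; ring
    have hsB : ∀ i j, B (w (.inr i)) (w (.inl j)) = if j = i then 1 else 0 := fun i j => by rw [C.symm, hef]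
    have horth : ∀ i j, i ≠ j → B (v i) (v j) = 0 := by
      rintro (i | i) (j | j) hij <;>
        simp only [v, Sum.elim_inl, Sum.elim_inr, map_add, map_sub, LinearMap.add_apply, LinearMap.sub_apply,
          hee, hef, hsB]
      · simp [show i ≠ j from fun h => hij (h ▸ rfl), show j ≠ i from fun h => hij (h ▸ rfl)]
      · rcases eq_or_ne i j with rfl | h
        · simp
        · simp [h, h.symm]
      · rcases eq_or_ne i j with rfl | h
        · simp
        · simp [h, h.symm]
      · simp [show i ≠ j from fun h => hij (h ▸ rfl), show j ≠ i from fun h => hij (h ▸ rfl)]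
    have hne : ∀ i, Q (v i) ≠ 0 := by
      rintro (i | i)
      · rw [(hQv i).1]; exact one_ne_zero
      · rw [(hQv i).2]; exact neg_ne_zero.2 one_ne_zero
    have h := spin_neg_one C h2 v (by simp [hι]) hne horth hg
    rw [hgs, Fintype.prod_sum_type] at h
    simp only [hQv, IsSquare.one, if_true, Finset.prod_const, Finset.card_univ, Fintype.card_fin] at h
    split_ifs at h <;> exact absurd h (by decide)
  · simp only [qform_polar, qform_apply] at hq hef hee hpl hx hxy hy
    obtain ⟨BM, CM⟩ := exists_space_minus 3 a b hab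
    obtain ⟨r, hr0, hr⟩ := binary_equiv h2 hab hζ
    -- the plane: `x`, and a vector `y'` with the prescribed values
    set x := w (Sum.inr 0)
    set y := w (Sum.inr 1)
    let y' : ι → F := ((a - r⁻¹) / 2) • x + r⁻¹ • y
    have hxx : B x x = 2 := by rw [C.self, hx, mul_one]
    have hyy : B y y = 2 * ζ := by rw [C.self, hy]
    have hyx : B y x = 1 := (C.symm _ _).trans hxy
    let u : (Fin 3 ⊕ Fin 3) ⊕ Fin 2 → ι → F := Sum.elim (fun k => w (Sum.inl k)) ![x, y']
    have hu2 : B x y' = a ∧ B y' y' = 2 * b := by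
      simp only [y', map_add, map_smul, LinearMap.add_apply, LinearMap.smul_apply, smul_eq_mul, hxx, hxy, hyx, hyy]
      refine ⟨by field_simp; ring, ?_⟩
      field_simp
      linear_combination hr
    have hBM : ∀ k l, BM (Pi.single k 1) (Pi.single l 1) =
        quadFormMinus 3 F a b (Pi.single k 1 + Pi.single l 1) - quadFormMinus 3 F a b (Pi.single k 1) -
          quadFormMinus 3 F a b (Pi.single l 1) := fun k l => by rw [CM.add]; ring
    refine similar_of_basis C CM h2 (by simp [hι]) u one_ne_zero fun k l => ?_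
    rw [one_mul, hBM]
    have hpy : ∀ i, B (w (.inl (.inl i))) y' = 0 ∧ B (w (.inl (.inr i))) y' = 0 := fun i => by
      simp [y', x, y, hpl]
    rcases k with (i | i) | i <;> rcases l with (j | j) | j
    · simp [u, quadFormMinus, Pi.single_apply, hee]
    · simp [u, quadFormMinus, Pi.single_apply, hef]
      fin_cases i <;> fin_cases j <;> simp [Fin.sum_univ_three]
    · fin_cases j <;> simp [u, quadFormMinus, Pi.single_apply, hpy, x, hpl]
    · simp [u, quadFormMinus, Pi.single_apply, C.symm (w (.inl (.inr i))) (w (.inl (.inl j))), hef]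
      fin_cases i <;> fin_cases j <;> simp [Fin.sum_univ_three]
    · simp [u, quadFormMinus, Pi.single_apply, hee]
    · fin_cases j <;> simp [u, quadFormMinus, Pi.single_apply, hpy, x, hpl]
    · fin_cases i <;> simp [u, quadFormMinus, Pi.single_apply, C.symm _ (w (.inl (.inl j))), hpy, x, hpl]
    · fin_cases i <;> simp [u, quadFormMinus, Pi.single_apply, C.symm _ (w (.inl (.inr j))), hpy, x, hpl]
    · fin_cases i <;> fin_cases j <;>
        simp [u, quadFormMinus, Pi.single_apply, hxx, hu2, C.symm y' x] <;> ring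

/-- Nine dimensional forms are similar to the split one. -/
theorem odd_similar (C : Space Q B) (h2 : (2 : F) ≠ 0) (hι : Fintype.card ι = 9) :
    ∃ (e : (Unit ⊕ (Fin 4 ⊕ Fin 4) → F) ≃ₗ[F] (ι → F)) (c : F), c ≠ 0 ∧
      ∀ v, Q (e v) = c * quadFormOdd 4 F v := by
  classical
  have hV : finrank F (ι → F) = 2 * 4 + 1 := by rw [finrank_fintype_fun_eq_card, hι]
  obtain ⟨w, h0, hperp, hq, hef, hee⟩ := std_basis_odd hV (qform C) (qform_nondeg C)
  simp only [qform_polar, qform_apply] at h0 hperp hq hef hee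
  obtain ⟨D1, C1⟩ := exists_space_line (F := F) h2
  obtain ⟨D2, C2⟩ := exists_space_plus (F := F) 4
  have CO : Space (quadFormOdd 4 F) (sumB D1 D2) := C1.sum C2
  set z := w (Sum.inl ())
  set c := Q z with hc
  let u : Unit ⊕ (Fin 4 ⊕ Fin 4) → ι → F :=
    Sum.elim (fun _ => z) (Sum.elim (fun i => c • w (.inr (.inl i))) fun i => w (.inr (.inr i)))
  have hBO : ∀ k l, sumB D1 D2 (Pi.single k 1) (Pi.single l 1) =
      quadFormOdd 4 F (Pi.single k 1 + Pi.single l 1) - quadFormOdd 4 F (Pi.single k 1) -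
        quadFormOdd 4 F (Pi.single l 1) := fun k l => by rw [CO.add]; ring
  have hzz : B z z = 2 * c := by rw [C.self]
  obtain ⟨e, he⟩ := similar_of_basis C CO h2 (by simp [hι]) u (c := c) h0 fun k l => by
    rw [hBO]
    rcases k with ⟨⟩ | (i | i) <;> rcases l with ⟨⟩ | (j | j)
    · simp [u, quadFormOdd, Pi.single_apply, hzz]; ring
    · simp [u, quadFormOdd, Pi.single_apply, z, hperp]
    · simp [u, quadFormOdd, Pi.single_apply, z, hperp]
    · simp [u, quadFormOdd, Pi.single_apply, z, C.symm _ (w (.inl ())), hperp]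
    · simp [u, quadFormOdd, Pi.single_apply, hee]
    · simp [u, quadFormOdd, Pi.single_apply, hef]
      fin_cases i <;> fin_cases j <;> simp [Fin.sum_univ_four]
    · simp [u, quadFormOdd, Pi.single_apply, z, C.symm _ (w (.inl ())), hperp]
    · simp [u, quadFormOdd, Pi.single_apply, C.symm (w (.inr (.inr i))) (w (.inr (.inl j))), hef]
      fin_cases i <;> fin_cases j <;> simp [Fin.sum_univ_four]
    · simp [u, quadFormOdd, Pi.single_apply, hee]
  exact ⟨e, c, h0, he⟩

end Cfsg.Lib.Spec.NineEight
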