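import Cfsg.Agent.Lib.Spec.NineEight.Tori
import Cfsg.Agent.Lib.Spec.NineEight.Bound

/-!
# All nine maximal orders occur in the affine group of minus type
-/

set_option autoImplicit false

namespace Cfsg.Lib.Spec.NineEight

open Module Cfsg.Lib.Linear.Orth
open scoped Matrix

/-- Parities of the half orders of the tori. -/
theorem parities {q : ℕ} (hq : Odd q) :
    Odd ((q ^ 4 + 1) / 2) ∧ Odd ((q ^ 2 + 1) / 2 + (q ^ 2 - 1) / 2) ∧
    Odd ((q ^ 3 + 1) / 2 + (q ^ 1 - 1) / 2) ∧ Odd ((q ^ 3 - 1) / 2 + (q ^ 1 + 1) / 2) ∧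
    Odd ((q ^ 2 + 1) / 2) ∧ Even ((q ^ 2 - 1) / 2) ∧ Odd ((q ^ 1 + 1) / 2 + (q ^ 1 - 1) / 2) ∧
    ((Even ((q ^ 1 - 1) / 2) ∧ Odd ((q ^ 3 + 1) / 2)) ∨ (Even ((q ^ 1 + 1) / 2) ∧ Odd ((q ^ 3 - 1) / 2))) := by
  obtain ⟨c, rfl⟩ := hq
  obtain ⟨d, hd⟩ := Nat.even_mul_succ_self c
  have hd' : c * c + c = d + d := by rw [← hd]; ring
  have e4p : ((2 * c + 1) ^ 4 + 1) / 2 = 2 * (4 * c ^ 4 + 8 * c ^ 3 + 6 * c ^ 2 + 2 * c) + 1 := by
    rw [show (2 * c + 1) ^ 4 + 1 = 2 * (2 * (4 * c ^ 4 + 8 * c ^ 3 + 6 * c ^ 2 + 2 * c) + 1) by ring,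
      Nat.mul_div_cancel_left _ (by norm_num : 0 < 2)]
  have e2p : ((2 * c + 1) ^ 2 + 1) / 2 = 2 * (c * c + c) + 1 := by
    rw [show (2 * c + 1) ^ 2 + 1 = 2 * (2 * (c * c + c) + 1) by ring, Nat.mul_div_cancel_left _ (by norm_num : 0 < 2)]
  have e2m : ((2 * c + 1) ^ 2 - 1) / 2 = 2 * (c * c + c) := by
    rw [show (2 * c + 1) ^ 2 = 2 * (2 * (c * c + c)) + 1 by ring, Nat.add_sub_cancel,
      Nat.mul_div_cancel_left _ (by norm_num : 0 < 2)]
  have e3p : ((2 * c + 1) ^ 3 + 1) / 2 = (c + 1) + 2 * ((c * c + c) * (2 * c + 1)) := by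
    rw [show (2 * c + 1) ^ 3 + 1 = 2 * ((c + 1) + 2 * ((c * c + c) * (2 * c + 1))) by ring,
      Nat.mul_div_cancel_left _ (by norm_num : 0 < 2)]
  have e3m : ((2 * c + 1) ^ 3 - 1) / 2 = c + 2 * ((c * c + c) * (2 * c + 1)) := by
    rw [show (2 * c + 1) ^ 3 = 2 * (c + 2 * ((c * c + c) * (2 * c + 1))) + 1 by ring, Nat.add_sub_cancel,
      Nat.mul_div_cancel_left _ (by norm_num : 0 < 2)]
  have e1p : ((2 * c + 1) ^ 1 + 1) / 2 = c + 1 := by rw [pow_one]; omega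
  have e1m : ((2 * c + 1) ^ 1 - 1) / 2 = c := by rw [pow_one]; omega
  rw [e4p, e2p, e2m, e3p, e3m, e1p, e1m]
  simp only [Nat.odd_iff, Nat.even_iff]
  omega

/-- Two numbers whose gap is two have greatest common divisor dividing two. -/
theorem lcm_bound {X Y Z : ℕ} (hYZ : Y ∣ Z) (hgap : Z + 2 = X ∨ X + 2 = Z) (hY : 2 ∣ Y) :
    X * (Y / 2) ∣ Nat.lcm X Y := by
  have hg : Nat.gcd X Y ∣ 2 := by
    have h1 : Nat.gcd X Y ∣ Z := (Nat.gcd_dvd_right X Y).trans hYZ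
    have h2 : Nat.gcd X Y ∣ X := Nat.gcd_dvd_left X Y
    rcases hgap with rfl | rfl
    · exact (Nat.dvd_add_right h1).1 h2
    · exact (Nat.dvd_add_right h2).1 h1
  obtain ⟨k, hk⟩ := hY
  subst hk
  rw [Nat.mul_div_cancel_left _ (by norm_num : 0 < 2)]
  have h : X * (2 * k) ∣ 2 * Nat.lcm X (2 * k) := by
    have := mul_dvd_mul_right hg (Nat.lcm X (2 * k))
    rwa [Nat.gcd_mul_lcm] at this
  rw [mul_left_comm] at h
  exact Nat.dvd_of_mul_dvd_mul_left (by norm_num : 0 < 2) h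

variable {ι κ ξ : Type} [Fintype ι] [DecidableEq ι] [Fintype κ] [DecidableEq κ] [Fintype ξ] [DecidableEq ξ]
  {F : Type*} [Field F] [Fintype F]
  {Q : (ι → F) → F} {B : LinearMap.BilinForm F (ι → F)} {R : (κ → F) → F} {D : LinearMap.BilinForm F (κ → F)}
  {S : (ξ → F) → F} {E : LinearMap.BilinForm F (ξ → F)}
  (p : ℕ) [hp : Fact p.Prime] [hcp : CharP F p]
include hp hcp

/-- Moving to the standard form of minus type. -/
theorem to_minus (C : Space Q B) (h2 : (2 : F) ≠ 0) (hι : Fintype.card ι = 8) (hneg : NegSpin Q (-1)) {a b : F}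
    (hab : ∀ z₁ z₂ : F, z₁ ^ 2 + a * z₁ * z₂ + b * z₂ ^ 2 = 0 → z₁ = 0 ∧ z₂ = 0) {n : ℕ} (h : AffOrd Q n) :
    AffOrd (quadFormMinus 3 F a b) n := by
  obtain ⟨e, he⟩ := minus_of_negSpin C h2 hι hneg hab
  refine h.transport p e.symm one_ne_zero fun v => ?_
  have := he (e.symm v)
  rw [LinearEquiv.apply_symm_apply, one_mul] at this
  rw [one_mul, this]

/-- Two tori in a pair. -/
theorem pair_order (C : Space Q B) (C' : Space R D) (h2 : (2 : F) ≠ 0) [Nonempty ι] [Nonempty κ]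
    {z : ↥(isometryGroup F Q)} {w : ↥(isometryGroup F R)} {N M : ℕ} (T : Tor Q z N) (T' : Tor R w M)
    (hn : 2 ≤ Fintype.card (ι ⊕ κ)) : AffOrd (sumQ Q R) (Nat.lcm N M) := by
  rw [← T.order, ← T'.order, ← orderOf_pairI]
  refine affOrd_of_mem p ((omega_iff (C.sum C') h2 hn _).2 ?_)
  rw [detSpin_pairI C C' h2, T.detSpin, T'.detSpin]
  exact Prod.ext (mul_one _) (show (-1 : ℤˣ) * -1 = 1 from rfl)

/-- Two tori and a fixed part. -/
theorem pair_chain (C : Space Q B) (C' : Space R D) (C'' : Space S E) (h2 : (2 : F) ≠ 0) [Nonempty ι] [Nonempty κ]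
    {z : ↥(isometryGroup F Q)} {w : ↥(isometryGroup F R)} {N M : ℕ} (T : Tor Q z N) (T' : Tor R w M)
    (hN : Nat.Coprime p N) (hM : Nat.Coprime p M) (hn : 2 ≤ Fintype.card (ι ⊕ κ)) {j : ℕ}
    (hj : p ^ j ≤ Fintype.card ξ) : AffOrd (sumQ (sumQ Q R) S) (Nat.lcm N M * p ^ (j + 1)) := by
  have hn' : 2 ≤ Fintype.card ((ι ⊕ κ) ⊕ ξ) := by rw [Fintype.card_sum]; omega
  have C12 := C.sum C'
  refine affOrd_chain p (C12.sum C'') h2 hn' (s := pairI (sumQ Q R) S (pairI Q R (z, w), 1)) ?_ ?_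
    ((Nat.Coprime.mul_right hN hM).coprime_dvd_right (Nat.lcm_dvd_mul N M)) (hj.trans (fix_pairI_one _))
  · refine (omega_iff (C12.sum C'') h2 hn' _).2 ?_
    rw [detSpin_pairI C12 C'' h2, detSpin_pairI C C' h2, T.detSpin, T'.detSpin, map_one, mul_one]
    exact Prod.ext (mul_one _) (show (-1 : ℤˣ) * -1 = 1 from rfl)
  · rw [orderOf_pairI, orderOf_pairI, orderOf_one, Nat.lcm_one_right, T.order, T'.order]

/-- An involution and a fixed part. -/
theorem half_chain (C : Space Q B) (C'' : Space S E) (h2 : (2 : F) ≠ 0) [Nonempty ι]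
    {z : ↥(isometryGroup F Q)} {N : ℕ} (T : Tor Q z N) (hev : Even (N / 2)) (hp2 : Nat.Coprime p 2)
    (hn : 2 ≤ Fintype.card (ι ⊕ ξ)) {j : ℕ} (hj : p ^ j ≤ Fintype.card ξ) :
    AffOrd (sumQ Q S) (2 * p ^ (j + 1)) := by
  refine affOrd_chain p (C.sum C'') h2 hn (s := pairI Q S (z ^ (N / 2), 1)) ?_ ?_ hp2
    (hj.trans (fix_pairI_one _))
  · refine (omega_iff (C.sum C'') h2 hn _).2 ?_
    rw [detSpin_pairI C C'' h2, map_pow, T.detSpin, map_one, mul_one]
    exact Prod.ext (one_pow _) hev.neg_one_pow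
  · rw [orderOf_pairI, orderOf_one, Nat.lcm_one_right, orderOf_pow' _ (by have := T.pos; obtain ⟨c, hc⟩ := T.even; omega),
      T.order]
    obtain ⟨c, hc⟩ := T.even
    have := T.pos
    rw [show N = 2 * c by omega, Nat.mul_div_cancel_left _ (by norm_num : 0 < 2), Nat.gcd_mul_left_left,
      Nat.mul_div_cancel _ (by omega : 0 < c)]

/-- The nine maximal orders. -/
theorem affOrd_of_target (h2 : (2 : F) ≠ 0) {a b : F}
    (hab : ∀ z₁ z₂ : F, z₁ ^ 2 + a * z₁ * z₂ + b * z₂ ^ 2 = 0 → z₁ = 0 ∧ z₂ = 0) {n : ℕ}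
    (h : Target (Fintype.card F) p n) : AffOrd (quadFormMinus 3 F a b) n := by
  set q := Fintype.card F
  have hp2 : p ≠ 2 := fun h => h2 (by
    have := CharP.cast_eq_zero F p
    rwa [h, Nat.cast_ofNat] at this)
  obtain ⟨k, hk⟩ := FiniteField.card F p
  have hq : Odd q := by rw [show q = Fintype.card F from rfl, hk.2]; exact (hp.out.odd_of_ne_two hp2).pow
  have hq1 : 1 < q := Fintype.one_lt_card
  have hco : ∀ m, 0 < m → Nat.Coprime p (q ^ m + 1) ∧ Nat.Coprime p (q ^ m - 1) := fun m hm =>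
    coprime_succ_pred ((show p ∣ q by rw [show q = Fintype.card F from rfl, hk.2]; exact dvd_pow_self p k.pos.ne').trans
      (dvd_pow_self q hm.ne')) (Nat.one_le_pow _ _ (by omega))
  obtain ⟨o4, o22, o31, o31', o2, e2, o11, o7⟩ := parities hq
  obtain ⟨a1, a2, -, -, -, -, -, -, -, -, -, -, -, a14, -, -, a17⟩ := arith hq
  have hneg2 : ∀ {x y : ℕ}, Odd (x + y) → (-1 : ℤˣ) ^ x * (-1) ^ y = -1 := fun h => by
    rw [← pow_add]; exact h.neg_one_pow
  have hev1 : 2 ∣ q - 1 ∧ 2 ∣ q + 1 := by obtain ⟨c, hc⟩ := hq; omega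
  have hevm : ∀ m, 2 ∣ q ^ m - 1 := fun m => by obtain ⟨c, hc⟩ := hq.pow (n := m); exact ⟨c, by omega⟩
  rcases h with h | h | h | h | h | h | h | ⟨hp3, h⟩ | ⟨hp5, h⟩
  · obtain ⟨Q1, B1, z, C, T⟩ := exists_minus p h2 4 (by norm_num) (F := F)
    refine to_minus p C h2 (by simp) (by rw [← o4.neg_one_pow]; exact T.negSpin) hab (AffOrd.dvd ?_ h)
    have hord : orderOf (z ^ 2) = (q ^ 4 + 1) / 2 := by
      rw [orderOf_pow' _ two_ne_zero, T.order, Nat.gcd_eq_right (by obtain ⟨c, hc⟩ := T.even; exact ⟨c, by omega⟩)]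
    rw [← hord]
    refine affOrd_of_mem p ((omega_iff C h2 (by simp) _).2 ?_)
    rw [map_pow, T.detSpin]
    exact Prod.ext (one_pow _) (Int.units_sq _)
  · obtain ⟨Q1, B1, z, C, T⟩ := exists_minus p h2 2 (by norm_num) (F := F)
    obtain ⟨Q2, B2, w, C', T'⟩ := exists_plus p h2 2 (by norm_num) (F := F)
    refine to_minus p (C.sum C') h2 (by simp) (hneg2 o22 ▸ negSpin_sum C C' h2 T.negSpin T'.negSpin) hab
      (AffOrd.dvd (pair_order p C C' h2 T T' (by simp)) (h.trans ?_))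
    refine dvd_trans (dvd_of_eq ?_) (lcm_bound dvd_rfl (Or.inl ?_) ?_)
    · have h4 : q ^ 4 - 1 = (q ^ 2 + 1) * (q ^ 2 - 1) := by
        rw [← Nat.sq_sub_sq, ← pow_mul, one_pow]
      rw [h4, Nat.mul_div_assoc _ (hevm 2)]
    · have := Nat.one_le_pow 2 q (by omega); show q ^ 2 - 1 + 2 = q ^ 2 + 1; omega
    · exact hevm 2
  · obtain ⟨Q1, B1, z, C, T⟩ := exists_minus p h2 3 (by norm_num) (F := F)
    obtain ⟨Q2, B2, w, C', T'⟩ := exists_plus p h2 1 (by norm_num) (F := F)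
    refine to_minus p (C.sum C') h2 (by simp) (hneg2 o31 ▸ negSpin_sum C C' h2 T.negSpin T'.negSpin) hab
      (AffOrd.dvd (pair_order p C C' h2 T T' (by simp)) (h.trans ?_))
    rw [pow_one]
    refine lcm_bound (a17) (Or.inl ?_) hev1.1
    have := Nat.one_le_pow 3 q (by omega); omega
  · obtain ⟨Q1, B1, z, C, T⟩ := exists_plus p h2 3 (by norm_num) (F := F)
    obtain ⟨Q2, B2, w, C', T'⟩ := exists_minus p h2 1 (by norm_num) (F := F)
    refine to_minus p (C.sum C') h2 (by simp) (hneg2 o31' ▸ negSpin_sum C C' h2 T.negSpin T'.negSpin) hab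
      (AffOrd.dvd (pair_order p C C' h2 T T' (by simp)) (h.trans ?_))
    rw [pow_one]
    refine lcm_bound a14 (Or.inr ?_) hev1.2
    have := Nat.one_le_pow 3 q (by omega); omega
  · obtain ⟨Q1, B1, z, C, T⟩ := exists_minus p h2 2 (by norm_num) (F := F)
    obtain ⟨Q2, B2, w, C', T'⟩ := exists_plus p h2 1 (by norm_num) (F := F)
    refine to_minus p ((C.sum C').sum C') h2 (by simp) ?_ hab (AffOrd.dvd
      (pair_chain p C C' C' h2 T T' (hco 2 (by norm_num)).1 (hco 1 (by norm_num)).2 (by simp) (j := 0) (by simp))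
      (h.trans ?_))
    · have := negSpin_sum (C.sum C') C' h2 (negSpin_sum C C' h2 T.negSpin T'.negSpin) T'.negSpin
      rwa [mul_assoc, ← pow_add, ← pow_add, Odd.neg_one_pow] at this
      exact o2.add_even ⟨_, rfl⟩
    · rw [pow_one, pow_one, mul_comm p]
      refine mul_dvd_mul_right (lcm_bound a1 (Or.inl ?_) hev1.1) _
      have := Nat.one_le_pow 2 q (by omega); omega
  · obtain ⟨Q1, B1, z, C, T⟩ := exists_minus p h2 2 (by norm_num) (F := F)
    obtain ⟨Q2, B2, w, C', T'⟩ := exists_minus p h2 1 (by norm_num) (F := F)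
    refine to_minus p ((C.sum C').sum C') h2 (by simp) ?_ hab (AffOrd.dvd
      (pair_chain p C C' C' h2 T T' (hco 2 (by norm_num)).1 (hco 1 (by norm_num)).1 (by simp) (j := 0) (by simp))
      (h.trans ?_))
    · have := negSpin_sum (C.sum C') C' h2 (negSpin_sum C C' h2 T.negSpin T'.negSpin) T'.negSpin
      rwa [mul_assoc, ← pow_add, ← pow_add, Odd.neg_one_pow] at this
      exact o2.add_even ⟨_, rfl⟩
    · rw [pow_one, pow_one, mul_comm p]
      refine mul_dvd_mul_right (lcm_bound a2 (Or.inl ?_) hev1.2) _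
      have := Nat.one_le_pow 2 q (by omega); omega
  · obtain ⟨Q1, B1, z, C, T⟩ := exists_plus p h2 2 (by norm_num) (F := F)
    obtain ⟨Q2, B2, w, C', T'⟩ := exists_plus p h2 1 (by norm_num) (F := F)
    obtain ⟨Q3, B3, x, C'', T''⟩ := exists_minus p h2 1 (by norm_num) (F := F)
    refine to_minus p ((C.sum C').sum C'') h2 (by simp) ?_ hab (AffOrd.dvd
      (pair_chain p C C' C'' h2 T T' (hco 2 (by norm_num)).2 (hco 1 (by norm_num)).2 (by simp) (j := 0) (by simp))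
      (h.trans ?_))
    · have := negSpin_sum (C.sum C') C'' h2 (negSpin_sum C C' h2 T.negSpin T'.negSpin) T''.negSpin
      rwa [mul_assoc, ← pow_add, ← pow_add, Odd.neg_one_pow] at this
      exact e2.add_odd (by rw [add_comm]; exact o11)
    · rw [pow_one, mul_comm p]
      rw [zero_add, pow_one]
      exact mul_dvd_mul_right (Nat.dvd_lcm_left _ _) _
  · subst hp3
    obtain ⟨Q1, B1, z, C, T⟩ := exists_minus 3 h2 1 (by norm_num) (F := F)
    obtain ⟨Q2, B2, w, C', T'⟩ := exists_plus 3 h2 1 (by norm_num) (F := F)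
    obtain ⟨Q3, B3, x, C'', T''⟩ := exists_plus 3 h2 2 (by norm_num) (F := F)
    refine to_minus 3 ((C.sum C').sum C'') h2 (by simp) ?_ hab (AffOrd.dvd
      (pair_chain 3 C C' C'' h2 T T' (hco 1 (by norm_num)).1 (hco 1 (by norm_num)).2 (by simp) (j := 1) (by simp))
      (h.trans ?_))
    · have := negSpin_sum (C.sum C') C'' h2 (negSpin_sum C C' h2 T.negSpin T'.negSpin) T''.negSpin
      rwa [← pow_add, ← pow_add, Odd.neg_one_pow] at this
      exact o11.add_even e2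
    · rw [pow_one, mul_comm (3 ^ 2)]
      refine mul_dvd_mul_right (dvd_trans (dvd_of_eq ?_) (lcm_bound dvd_rfl (Or.inl ?_) hev1.1)) _
      · rw [show q ^ 2 - 1 = (q + 1) * (q - 1) by rw [← Nat.sq_sub_sq, one_pow], Nat.mul_div_assoc _ hev1.1]
      · omega
  · subst hp5
    rcases o7 with ⟨he, ho⟩ | ⟨he, ho⟩
    · obtain ⟨Q1, B1, z, C, T⟩ := exists_plus 5 h2 1 (by norm_num) (F := F)
      obtain ⟨Q3, B3, x, C'', T''⟩ := exists_minus 5 h2 3 (by norm_num) (F := F)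
      refine to_minus 5 (C.sum C'') h2 (by simp) (hneg2 (he.add_odd ho) ▸ negSpin_sum C C'' h2 T.negSpin T''.negSpin)
        hab (AffOrd.dvd (half_chain 5 C C'' h2 T he (by norm_num) (by simp) (j := 1) (by simp)) (h.trans ?_))
      rw [mul_comm]
    · obtain ⟨Q1, B1, z, C, T⟩ := exists_minus 5 h2 1 (by norm_num) (F := F)
      obtain ⟨Q3, B3, x, C'', T''⟩ := exists_plus 5 h2 3 (by norm_num) (F := F)
      refine to_minus 5 (C.sum C'') h2 (by simp) (hneg2 (he.add_odd ho) ▸ negSpin_sum C C'' h2 T.negSpin T''.negSpin)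
        hab (AffOrd.dvd (half_chain 5 C C'' h2 T he (by norm_num) (by simp) (j := 1) (by simp)) (h.trans ?_))
      rw [mul_comm]

end Cfsg.Lib.Spec.NineEight
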