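import Cfsg.Agent.Lib.Spec.NineEight.Transfer
import Cfsg.Agent.Lib.Spec.NineEight.Similar
import Cfsg.Agent.Lib.Spec.NineEight.PairCount

/-!
# Cyclic tori acting freely, and their orthogonal sums
-/

set_option autoImplicit false

namespace Cfsg.Lib.Spec.NineEight

open Module Cfsg.Lib.Linear.Orth
open scoped Matrix

variable {ι κ : Type} [Fintype ι] [DecidableEq ι] [Fintype κ] [DecidableEq κ] {F : Type*} [Field F] [Fintype F]
  {Q : (ι → F) → F} {B : LinearMap.BilinForm F (ι → F)} {R : (κ → F) → F} {D : LinearMap.BilinForm F (κ → F)}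

/-- A cyclic group of even order `N` moving every vector in a full orbit, outside `Ω`. -/
structure Tor (Q : (ι → F) → F) (z : ↥(isometryGroup F Q)) (N : ℕ) : Prop where
  even : Even N
  pos : 0 < N
  pow : z ^ N = 1
  free : ∀ (j : ℕ) (v : ι → F), v ≠ 0 → (lin (z : GL ι F) ^ j) v = v → N ∣ j
  detSpin : detSpin Q z = (1, -1)

omit [Fintype F] in
theorem val_neg_one_of_lin {g : GL ι F} (h : lin g = -1) : g.val = -1 := by
  refine Matrix.toLin'.injective ?_
  show lin g = _
  rw [h, map_neg, Matrix.toLin'_one]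
  rfl

variable {z : ↥(isometryGroup F Q)} {N : ℕ}

theorem Tor.order [Nonempty ι] (T : Tor Q z N) : orderOf z = N := by
  refine Nat.dvd_antisymm (orderOf_dvd_of_pow_eq_one T.pow) ?_
  refine T.free _ (fun _ => 1) (fun h => one_ne_zero (congrFun h (Classical.arbitrary ι))) ?_
  rw [← lin_pow, pow_orderOf_eq_one, OneMemClass.coe_one, map_one, Module.End.one_apply]

theorem Tor.half (T : Tor Q z N) :
    ((z ^ (N / 2) : ↥(isometryGroup F Q)) : GL ι F).val = -1 := by
  refine val_neg_one_of_lin (LinearMap.ext fun v => ?_)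
  rw [lin_pow]
  set h := N / 2
  have hN : h + h = N := by obtain ⟨c, hc⟩ := T.even; omega
  have h0 : (lin (z : GL ι F) ^ h) ((lin (z : GL ι F) ^ h) v + v) = (lin (z : GL ι F) ^ h) v + v := by
    rw [map_add, ← Module.End.mul_apply, ← pow_add, hN, ← lin_pow, T.pow, OneMemClass.coe_one, map_one,
      Module.End.one_apply, add_comm]
  by_cases hv : (lin (z : GL ι F) ^ h) v + v = 0
  · rw [LinearMap.neg_apply, Module.End.one_apply]; exact eq_neg_of_add_eq_zero_left hv
  · have := Nat.le_of_dvd (by have := T.pos; omega) (T.free h _ hv h0)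
    have := T.pos
    omega

theorem Tor.negSpin (T : Tor Q z N) : NegSpin Q ((-1) ^ (N / 2)) :=
  ⟨z ^ (N / 2), T.half, by rw [map_pow, show spin Q z = -1 from congrArg Prod.snd T.detSpin]⟩

theorem omega_iff (C : Space Q B) (h2 : (2 : F) ≠ 0) (hn : 2 ≤ Fintype.card ι) (g : ↥(isometryGroup F Q)) :
    g ∈ Omega F Q ↔ Cfsg.Lib.Linear.Orth.detSpin Q g = 1 := by
  show g ∈ commutator _ ↔ _
  rw [(omega_odd C h2 hn).1, MonoidHom.mem_ker]

/-! ## Pairs -/

/-- A pair of isometries acting on an orthogonal sum. -/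
def pairI (Q : (ι → F) → F) (R : (κ → F) → F) :
    ↥(isometryGroup F Q) × ↥(isometryGroup F R) →* ↥(isometryGroup F (sumQ Q R)) :=
  MonoidHom.noncommCoprod (inlI Q R) (inrI Q R) fun g h => Subtype.ext (inl_comm_inr (g : GL ι F) (h : GL κ F))

omit [Fintype F] in
theorem pairI_val (x : ↥(isometryGroup F Q) × ↥(isometryGroup F R)) :
    ((pairI Q R x : ↥(isometryGroup F (sumQ Q R))) : GL (ι ⊕ κ) F).val =
      Matrix.fromBlocks (x.1 : GL ι F).val 0 0 (x.2 : GL κ F).val :=
  inlI_inrI x.1 x.2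

omit [Fintype F] in
theorem pairI_injective : Function.Injective (pairI Q R) := fun x y h => by
  have h' := congrArg (fun g : ↥(isometryGroup F (sumQ Q R)) => (g : GL (ι ⊕ κ) F).val) h
  simp only [pairI_val, Matrix.fromBlocks_inj] at h'
  exact Prod.ext (Subtype.ext (Units.ext h'.1)) (Subtype.ext (Units.ext h'.2.2.2))

omit [Fintype F] in
theorem orderOf_pairI (g : ↥(isometryGroup F Q)) (h : ↥(isometryGroup F R)) :
    orderOf (pairI Q R (g, h)) = Nat.lcm (orderOf g) (orderOf h) := by
  rw [orderOf_injective _ pairI_injective, Prod.orderOf]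

theorem spin_inrI (C : Space Q B) (C' : Space R D) (h2 : (2 : F) ≠ 0) (g : ↥(isometryGroup F R)) :
    Cfsg.Lib.Linear.Orth.detSpin (sumQ Q R) (inrI Q R g) = Cfsg.Lib.Linear.Orth.detSpin R g := by
  refine refl_induction C' (Or.inl (card_ne_two h2))
    (fun g => Cfsg.Lib.Linear.Orth.detSpin (sumQ Q R) (inrI Q R g) = Cfsg.Lib.Linear.Orth.detSpin R g) (by simp)
    (fun v hv g ih => ?_) g
  have hv' : sumQ Q R (Sum.elim 0 v) ≠ 0 := by simpa [sumQ, C.zero] using hv
  rw [map_mul, map_mul, map_mul, ih, inrI_rI C C' hv hv']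
  congr 1
  refine Prod.ext ((det_rI (C.sum C') hv').trans (det_rI C' hv).symm) ?_
  show spin _ _ = spin _ _
  rw [spin_rI (C.sum C') h2 hv', spin_rI C' h2 hv,
    show sumQ Q R (Sum.elim 0 v) = R v by simp [sumQ, C.zero]]

theorem detSpin_pairI (C : Space Q B) (C' : Space R D) (h2 : (2 : F) ≠ 0) (g : ↥(isometryGroup F Q))
    (h : ↥(isometryGroup F R)) :
    Cfsg.Lib.Linear.Orth.detSpin (sumQ Q R) (pairI Q R (g, h)) =
      Cfsg.Lib.Linear.Orth.detSpin Q g * Cfsg.Lib.Linear.Orth.detSpin R h := by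
  show Cfsg.Lib.Linear.Orth.detSpin _ (inlI Q R g * inrI Q R h) = _
  rw [map_mul, spin_inlI C C' h2, spin_inrI C C' h2]

theorem negSpin_sum (C : Space Q B) (C' : Space R D) (h2 : (2 : F) ≠ 0) {ε δ : ℤˣ} (hQ : NegSpin Q ε)
    (hR : NegSpin R δ) : NegSpin (sumQ Q R) (ε * δ) := by
  obtain ⟨g, hg, hgs⟩ := hQ
  obtain ⟨h, hh, hhs⟩ := hR
  refine ⟨pairI Q R (g, h), ?_, ?_⟩
  · rw [pairI_val, hg, hh, ← Matrix.fromBlocks_one, Matrix.fromBlocks_neg, neg_zero, neg_zero]
  · rw [← hgs, ← hhs]
    exact congrArg Prod.snd (detSpin_pairI C C' h2 g h)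

omit [Fintype F] in
/-- The second summand is fixed. -/
theorem fix_pairI_one (g : ↥(isometryGroup F Q)) :
    Fintype.card κ ≤ finrank F
      (LinearMap.ker (lin ((pairI Q R (g, 1) : ↥(isometryGroup F (sumQ Q R))) : GL (ι ⊕ κ) F) - 1)) := by
  let T : (κ → F) →ₗ[F] (ι ⊕ κ → F) :=
    { toFun := fun t => Sum.elim 0 t
      map_add' := fun a b => by funext i; rcases i with i | i <;> simp
      map_smul' := fun r a => by funext i; rcases i with i | i <;> simp }
  have hT : Function.Injective T := fun a b h => by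
    funext i; exact congrFun h (Sum.inr i)
  have hle : LinearMap.range T ≤
      LinearMap.ker (lin ((pairI Q R (g, 1) : ↥(isometryGroup F (sumQ Q R))) : GL (ι ⊕ κ) F) - 1) := by
    rintro _ ⟨t, rfl⟩
    rw [LinearMap.mem_ker, LinearMap.sub_apply, Module.End.one_apply, lin_apply, pairI_val,
      Matrix.fromBlocks_mulVec, sub_eq_zero]
    funext i
    rcases i with i | i <;> simp [T]
  have := Submodule.finrank_mono hle
  rwa [LinearMap.finrank_range_of_inj hT, finrank_fintype_fun_eq_card] at this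

/-! ## Making tori -/

variable (p : ℕ) [hp : Fact p.Prime] [hcp : CharP F p]
include hp hcp

omit hp hcp in
/-- An isometry of an abstract space with free action and determinant one gives a torus. -/
theorem mk_tor (h2 : (2 : F) ≠ 0) {V : Type*} [AddCommGroup V] [Module F V] [FiniteDimensional F V] {n : ℕ}
    (hn : finrank F V = n) (BV : LinearMap.BilinForm F V) (hsymm : ∀ a b, BV a b = BV b a)
    (hnd : ∀ a, (∀ b, BV a b = 0) → a = 0) (y : Module.End F V) (hyB : ∀ a b, BV (y a) (y b) = BV a b)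
    {N : ℕ} (hN : Even N) (hN0 : 0 < N) (hy : y ^ N = 1)
    (hfree : ∀ (j : ℕ) (a : V), a ≠ 0 → (y ^ j) a = a → N ∣ j) (hdet : LinearMap.det y = 1)
    {K : ℕ} (hK : Odd K) (hcount : Nat.card {v : V // v ≠ 0 ∧ (2 : F)⁻¹ * BV v v = 1} = N * K) :
    ∃ (Q : (Fin n → F) → F) (B : LinearMap.BilinForm F (Fin n → F)) (z : ↥(isometryGroup F Q)),
      Space Q B ∧ Tor Q z N := by
  classical
  let b := (Module.finBasis F V).reindex (finCongr hn)
  let e : (Fin n → F) ≃ₗ[F] V := b.equivFun.symm
  let B : LinearMap.BilinForm F (Fin n → F) := BV.compl₁₂ e.toLinearMap e.toLinearMap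
  let Q : (Fin n → F) → F := fun v => (2 : F)⁻¹ * B v v
  have hBe : ∀ u v, B u v = BV (e u) (e v) := fun u v => rfl
  have C : Space Q B := by
    refine ⟨fun c v => by simp only [Q, map_smul, LinearMap.smul_apply, smul_eq_mul]; ring, fun u v => ?_,
      fun v hv => ?_⟩
    · show (2 : F)⁻¹ * B (u + v) (u + v) - (2 : F)⁻¹ * B u u - (2 : F)⁻¹ * B v v = B u v
      rw [map_add, map_add, LinearMap.add_apply, LinearMap.add_apply, hBe v u, hsymm, ← hBe]
      field_simp; ring
    · refine e.injective ?_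
      rw [map_zero]
      refine hnd _ fun a => ?_
      have := hv (e.symm a)
      rw [hBe, LinearEquiv.apply_symm_apply, hsymm] at this
      exact this
  obtain ⟨c, hc⟩ : ∃ c, N = c + 1 := ⟨N - 1, by omega⟩
  let T : Module.End F (Fin n → F) := e.symm.toLinearMap ∘ₗ y ∘ₗ e.toLinearMap
  have hTj : ∀ j v, (T ^ j) v = e.symm ((y ^ j) (e v)) := by
    intro j
    induction j with
    | zero => intro v; simp
    | succ j ih => intro v; rw [pow_succ', pow_succ', Module.End.mul_apply, ih]; simp [T]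
  have hTN : T ^ N = 1 := LinearMap.ext fun v => by rw [hTj, hy]; simp
  obtain ⟨z, hz⟩ := exists_iso_of_end (Q := Q) T (T ^ c) (by rw [← pow_succ', ← hc, hTN])
    (by rw [← pow_succ, ← hc, hTN]) fun v => by
      show (2 : F)⁻¹ * B (T v) (T v) = (2 : F)⁻¹ * B v v
      simp [hBe, T, hyB]
  have hpow : z ^ N = 1 := iso_ext fun v => by
    rw [lin_pow, hz, hTN, OneMemClass.coe_one, map_one]
  have hfree' : ∀ (j : ℕ) (v : Fin n → F), v ≠ 0 → (lin (z : GL (Fin n) F) ^ j) v = v → N ∣ j := by
    intro j v hv h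
    rw [hz, hTj] at h
    exact hfree j (e v) (fun h0 => hv (e.injective (h0.trans (map_zero e).symm)))
      (e.symm.injective (by rw [h, LinearEquiv.symm_apply_apply]))
  refine ⟨Q, B, z, C, hN, hN0, hpow, hfree', Prod.ext ?_ ?_⟩
  · refine Units.ext ?_
    show (z : GL (Fin n) F).val.det = 1
    rw [← LinearMap.det_toLin', show Matrix.toLin' (z : GL (Fin n) F).val = T from hz, ← hdet]
    exact LinearMap.det_conj y e.symm
  · have hUW : IsCompl (⊤ : Submodule F (Fin n → F)) ⊥ := isCompl_top_bot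
    show spin Q z = -1
    refine Cfsg.Lib.Linear.CentralizerSpin.spin_eq_neg_one C hUW
      (fun a _ w hw => by rw [(Submodule.mem_bot F).1 hw, map_zero]) z
      (T.restrict (p := (⊤ : Submodule F (Fin n → F))) (q := ⊤) fun _ _ => Submodule.mem_top)
      (fun a => by rw [← lin_apply, hz]; rfl)
      (fun w hw => by rw [(Submodule.mem_bot F).1 hw, Matrix.mulVec_zero]) hN hN0
      (LinearMap.ext fun a => Subtype.ext (by
        rw [Module.End.pow_restrict, LinearMap.coe_restrict_apply, hTN]; rfl))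
      (fun j a ha h => hfree' j a.1 (fun h0 => ha (Subtype.ext h0)) (by
        have := congrArg Subtype.val h
        rwa [Module.End.pow_restrict, LinearMap.coe_restrict_apply, ← hz] at this))
      hK ?_
    rw [← hcount]
    refine Nat.card_congr ?_
    refine
      { toFun := fun x => ⟨e x.1.1.1, fun h0 => x.2.1 (Subtype.ext (e.injective (h0.trans (map_zero e).symm))), ?_⟩
        invFun := fun v => ⟨(⟨e.symm v.1, trivial⟩, 0), fun h0 => v.2.1 (by
          have := congrArg (fun a : (⊤ : Submodule F (Fin n → F)) => e a.1) h0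
          simpa using this), ?_⟩
        left_inv := fun x => Subtype.ext (Prod.ext (Subtype.ext (by simp)) (Subsingleton.elim _ _))
        right_inv := fun v => Subtype.ext (by simp) }
    · have := x.2.2
      rw [show (x.1.2 : Fin n → F) = 0 from (Submodule.mem_bot F).1 x.1.2.2, C.zero, add_zero] at this
      exact this
    · show Q (e.symm v.1) + Q ((0 : (⊥ : Submodule F (Fin n → F))) : Fin n → F) = 1
      rw [Submodule.coe_zero, C.zero, add_zero]
      show (2 : F)⁻¹ * BV (e (e.symm v.1)) (e (e.symm v.1)) = 1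
      rw [LinearEquiv.apply_symm_apply]; exact v.2.2

omit hp hcp in
theorem coprime_succ_pred {r k : ℕ} [Fact r.Prime] (hk : r ∣ k) (hk1 : 1 ≤ k) :
    Nat.Coprime r (k + 1) ∧ Nat.Coprime r (k - 1) := by
  have hr := (Fact.out : r.Prime)
  refine ⟨hr.coprime_iff_not_dvd.2 fun h => ?_, hr.coprime_iff_not_dvd.2 fun h => ?_⟩
  · exact hr.ne_one (Nat.dvd_one.1 ((Nat.dvd_add_right hk).1 h))
  · exact hr.ne_one (Nat.dvd_one.1 (by
      have := Nat.dvd_sub hk h
      rwa [Nat.sub_sub_self hk1] at this))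

/-- The torus of the minus type. -/
theorem exists_minus (h2 : (2 : F) ≠ 0) (m : ℕ) (hm : 0 < m) :
    ∃ (Q : (Fin (2 * m) → F) → F) (B : LinearMap.BilinForm F (Fin (2 * m) → F)) (z : ↥(isometryGroup F Q)),
      Space Q B ∧ Tor Q z (Fintype.card F ^ m + 1) := by
  classical
  haveI : NeZero (2 * m) := ⟨by omega⟩
  set q := Fintype.card F
  let K := FiniteField.Extension F p (2 * m)
  haveI : Fintype K := Fintype.ofFinite K
  have hdim : finrank F K = 2 * m := FiniteField.finrank_extension F p (2 * m)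
  have hcard : Fintype.card K = q ^ (2 * m) := by rw [Module.card_eq_pow_finrank (K := F), hdim]
  set R := q ^ m with hR
  have hq1 : 1 < q := Fintype.one_lt_card
  have hR1 : 1 < R := Nat.one_lt_pow hm.ne' hq1
  have hRodd : Odd R := by
    obtain ⟨k, hk⟩ := FiniteField.card F p
    rw [hR, show q = Fintype.card F from rfl, hk.2]
    refine ((hp.out.odd_of_ne_two fun h => h2 ?_).pow).pow
    have := CharP.cast_eq_zero F p
    rwa [h, Nat.cast_ofNat] at this
  let τ : K →ₐ[F] K := FiniteField.frobeniusAlgHom F K ^ m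
  have hτ : ∀ x, τ x = x ^ R := by
    intro x
    have hgen : ∀ j, (FiniteField.frobeniusAlgHom F K ^ j) x = x ^ q ^ j := by
      intro j
      induction j with
      | zero => simp
      | succ j ih => rw [pow_succ', AlgHom.mul_apply, ih, FiniteField.coe_frobeniusAlgHom, pow_succ, pow_mul]
    exact hgen m
  have hττ : ∀ x, τ (τ x) = x := fun x => by
    rw [hτ, hτ, ← pow_mul, hR, ← pow_add, ← two_mul, ← hcard, FiniteField.pow_card]
  let τe : K ≃ₐ[F] K := AlgEquiv.ofBijective τ ⟨fun a b h => by rw [← hττ a, h, hττ], fun b => ⟨τ b, hττ b⟩⟩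
  let BV : LinearMap.BilinForm F K :=
    LinearMap.compl₂ (Algebra.traceForm F K) τ.toLinearMap
  have hBV : ∀ a b, BV a b = Algebra.trace F K (a * τ b) := fun a b => rfl
  have hsymm : ∀ a b, BV a b = BV b a := fun a b => by
    rw [hBV, hBV, ← Algebra.trace_eq_of_algEquiv τe (a * τ b)]
    congr 1
    show τ (a * τ b) = b * τ a
    rw [map_mul, hττ, mul_comm]
  have hnd : ∀ a, (∀ b, BV a b = 0) → a = 0 := fun a ha =>
    (traceForm_nondegenerate F K).1 a fun b => by
      have := ha (τ b)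
      rwa [hBV, hττ] at this
  obtain ⟨ω, hω⟩ := IsCyclic.exists_ofOrder_eq_natCard (α := Kˣ)
  rw [Nat.card_units, Nat.card_eq_fintype_card, hcard] at hω
  have hsq : q ^ (2 * m) - 1 = (R - 1) * (R + 1) := by
    rw [show q ^ (2 * m) = R ^ 2 by rw [hR, ← pow_mul, mul_comm], show R ^ 2 - 1 = R ^ 2 - 1 ^ 2 by simp,
      Nat.sq_sub_sq, mul_comm]
  set v : Kˣ := ω ^ (R - 1)
  have hvo : orderOf v = R + 1 := by
    rw [orderOf_pow' _ (by omega), hω, hsq, Nat.gcd_eq_right (dvd_mul_right _ _), Nat.mul_div_cancel_left _ (by omega)]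
  have hv1 : (v : K) * τ v = 1 := by
    rw [hτ, ← pow_succ', ← Units.val_pow_eq_pow_val, ← hvo, pow_orderOf_eq_one, Units.val_one]
  let y : Module.End F K := Algebra.lmul F K v
  have hyj : ∀ j a, (y ^ j) a = (v : K) ^ j * a := fun j a => by
    rw [show y ^ j = Algebra.lmul F K ((v : K) ^ j) from (map_pow _ _ _).symm]; rfl
  have hyB : ∀ a b, BV (y a) (y b) = BV a b := fun a b => by
    rw [hBV, hBV]
    congr 1
    show (v : K) * a * τ ((v : K) * b) = a * τ b
    rw [map_mul, mul_mul_mul_comm, hv1, one_mul]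
  have hyN : y ^ (R + 1) = 1 := LinearMap.ext fun a => by
    rw [hyj, ← Units.val_pow_eq_pow_val, ← hvo, pow_orderOf_eq_one, Units.val_one, one_mul]; rfl
  have hfree : ∀ (j : ℕ) (a : K), a ≠ 0 → (y ^ j) a = a → R + 1 ∣ j := fun j a ha h => by
    rw [hyj] at h
    rw [← hvo]
    exact orderOf_dvd_of_pow_eq_one (Units.ext (by
      rw [Units.val_pow_eq_pow_val, Units.val_one]; exact (mul_eq_right₀ ha).1 h))
  -- `v` generates the extension
  have hgen : IntermediateField.adjoin F ({(v : K)} : Set K) = ⊤ := by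
    set E := IntermediateField.adjoin F ({(v : K)} : Set K)
    have hmul := Module.finrank_mul_finrank F E K
    rw [hdim] at hmul
    haveI : Fintype E := Fintype.ofFinite E
    have hmem : (v : K) ∈ E := IntermediateField.mem_adjoin_simple_self F _
    have hd : R + 1 ≤ q ^ finrank F E - 1 := by
      have h1 : (⟨(v : K), hmem⟩ : E) ^ (Fintype.card E - 1) = 1 :=
        FiniteField.pow_card_sub_one_eq_one _ fun h => v.ne_zero (congrArg Subtype.val h)
      have h3 := congrArg Subtype.val h1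
      rw [Module.card_eq_pow_finrank (K := F), SubmonoidClass.coe_pow] at h3
      refine Nat.le_of_dvd (Nat.sub_pos_of_lt (Nat.one_lt_pow Module.finrank_pos.ne' hq1)) ?_
      rw [← hvo]
      exact orderOf_dvd_of_pow_eq_one (Units.ext (by rw [Units.val_pow_eq_pow_val, h3, Units.val_one]; rfl))
    have hlt : m < finrank F E := by
      by_contra hle
      have := Nat.pow_le_pow_right hq1.le (show finrank F E ≤ m by omega)
      omega
    refine IntermediateField.finrank_eq_one_iff_eq_top.1 ?_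
    rcases Nat.lt_or_ge (finrank E K) 2 with h | h
    · have := (Module.finrank_pos (R := E) (M := K)); omega
    · have : finrank F E * 2 ≤ finrank F E * finrank E K := Nat.mul_le_mul_left _ h
      omega
  have hsimple : ∀ U : Submodule F K, (∀ a ∈ U, y a ∈ U) → U = ⊥ ∨ U = ⊤ := by
    intro U hU
    rcases eq_or_ne U ⊥ with h | h
    · exact Or.inl h
    refine Or.inr (Submodule.eq_top_iff'.2 fun x => ?_)
    obtain ⟨u, hu, hu0⟩ := Submodule.exists_mem_ne_zero_of_ne_bot h
    have key : ∀ f : Polynomial F, Polynomial.aeval (v : K) f * u ∈ U := fun f => by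
      induction f using Polynomial.induction_on' with
      | add f g hf hg => rw [map_add, add_mul]; exact U.add_mem hf hg
      | monomial i c =>
        rw [Polynomial.aeval_monomial, mul_assoc, ← Algebra.smul_def]
        refine U.smul_mem c ?_
        induction i with
        | zero => simpa using hu
        | succ i ih => rw [pow_succ', mul_assoc]; exact hU _ ih
    have hx : x * u⁻¹ ∈ (IntermediateField.adjoin F ({(v : K)} : Set K)).toSubalgebra := by
      rw [hgen]; trivial
    rw [IntermediateField.adjoin_simple_toSubalgebra_of_isAlgebraic (Algebra.IsAlgebraic.isAlgebraic _),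
      Algebra.adjoin_singleton_eq_range_aeval] at hx
    obtain ⟨f, hf⟩ := hx
    have := key f
    rwa [show Polynomial.aeval (v : K) f = x * u⁻¹ from hf, mul_assoc, inv_mul_cancel₀ hu0, mul_one] at this
  obtain ⟨hdet, hcount⟩ := Cfsg.Lib.Linear.TorusSign.torus BV y p h2 (Q := R) hm.ne' hR hdim hsymm hnd hyN hyB hsimple
  obtain ⟨P, hP, hPc⟩ := hcount PUnit.{1} (fun _ => (0 : F)) rfl (fun _ => rfl) (fun _ _ => rfl)
  refine mk_tor h2 hdim BV hsymm hnd y hyB hRodd.add_one (by omega) hyN hfree (hdet y (Commute.refl y) hyB).2 hP ?_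
  rw [← hPc]
  exact Nat.card_congr
    { toFun := fun x => ⟨(x.1, PUnit.unit), x.2.1, by simpa using x.2.2⟩
      invFun := fun x => ⟨x.1.1, x.2.1, by simpa using x.2.2⟩
      left_inv := fun x => rfl
      right_inv := fun x => rfl }

/-- The torus of the plus type. -/
theorem exists_plus (h2 : (2 : F) ≠ 0) (m : ℕ) (hm : 0 < m) :
    ∃ (Q : (Fin (2 * m) → F) → F) (B : LinearMap.BilinForm F (Fin (2 * m) → F)) (z : ↥(isometryGroup F Q)),
      Space Q B ∧ Tor Q z (Fintype.card F ^ m - 1) := by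
  classical
  haveI : NeZero m := ⟨by omega⟩
  set q := Fintype.card F
  let K := FiniteField.Extension F p m
  haveI : Fintype K := Fintype.ofFinite K
  have hdim : finrank F K = m := FiniteField.finrank_extension F p m
  have hcard : Fintype.card K = q ^ m := by rw [Module.card_eq_pow_finrank (K := F), hdim]
  obtain ⟨ω, hω⟩ := IsCyclic.exists_ofOrder_eq_natCard (α := Kˣ)
  rw [Nat.card_units, Nat.card_eq_fintype_card, hcard] at hω
  have hN0 : 0 < q ^ m - 1 := Nat.sub_pos_of_lt (Nat.one_lt_pow hm.ne' Fintype.one_lt_card)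
  have hqodd : Odd (q ^ m) := by
    obtain ⟨k, hk⟩ := FiniteField.card F p
    rw [show q = Fintype.card F from rfl, hk.2]
    refine ((hp.out.odd_of_ne_two fun h => h2 ?_).pow).pow
    have := CharP.cast_eq_zero F p
    rwa [h, Nat.cast_ofNat] at this
  have hNe : Even (q ^ m - 1) := by obtain ⟨c, hc⟩ := hqodd; exact ⟨c, by omega⟩
  let tr := Algebra.trace F K
  let BV : LinearMap.BilinForm F (K × K) :=
    LinearMap.mk₂ F (fun a b => tr (a.1 * b.2 + a.2 * b.1))
      (fun a a' b => by rw [← map_add]; congr 1; simp only [Prod.fst_add, Prod.snd_add]; ring)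
      (fun c a b => by
        rw [← map_smul]; congr 1; simp only [Prod.smul_fst, Prod.smul_snd, smul_mul_assoc, smul_add])
      (fun a b b' => by rw [← map_add]; congr 1; simp only [Prod.fst_add, Prod.snd_add]; ring)
      (fun c a b => by
        rw [← map_smul]; congr 1; simp only [Prod.smul_fst, Prod.smul_snd, mul_smul_comm, smul_add])
  have hBV : ∀ a b, BV a b = tr (a.1 * b.2 + a.2 * b.1) := fun a b => rfl
  have hsymm : ∀ a b, BV a b = BV b a := fun a b => by rw [hBV, hBV]; congr 1; ring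
  have hnd : ∀ a, (∀ b, BV a b = 0) → a = 0 := fun a ha => Prod.ext
    ((traceForm_nondegenerate F K).1 _ fun b => by
      have := ha (0, b); rwa [hBV, mul_zero, add_zero] at this)
    ((traceForm_nondegenerate F K).1 _ fun b => by
      have := ha (b, 0); rwa [hBV, mul_zero, zero_add] at this)
  let y : Module.End F (K × K) :=
    (Algebra.lmul F K (ω : K)).prodMap (Algebra.lmul F K ((ω⁻¹ : Kˣ) : K))
  have hy : ∀ a : K × K, y a = ((ω : K) * a.1, ((ω⁻¹ : Kˣ) : K) * a.2) := fun a => rfl
  have hyj : ∀ (j : ℕ) (a : K × K), (y ^ j) a = (((ω ^ j : Kˣ) : K) * a.1, (((ω⁻¹) ^ j : Kˣ) : K) * a.2) := by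
    intro j
    induction j with
    | zero => intro a; simp
    | succ j ih =>
      intro a
      rw [pow_succ', Module.End.mul_apply, ih, hy, pow_succ', pow_succ', Units.val_mul, Units.val_mul, mul_assoc,
        mul_assoc]
  have hyB : ∀ a b, BV (y a) (y b) = BV a b := fun a b => by
    rw [hBV, hBV, hy, hy]
    congr 1
    show (ω : K) * a.1 * (((ω⁻¹ : Kˣ) : K) * b.2) + ((ω⁻¹ : Kˣ) : K) * a.2 * ((ω : K) * b.1) = _
    rw [mul_mul_mul_comm, mul_mul_mul_comm (((ω⁻¹ : Kˣ) : K)), ω.mul_inv, ω.inv_mul, one_mul, one_mul]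
  have hyN : y ^ (q ^ m - 1) = 1 := LinearMap.ext fun a => by
    rw [hyj, inv_pow, ← hω, pow_orderOf_eq_one, inv_one, Units.val_one, one_mul, one_mul]; rfl
  have hfree : ∀ (j : ℕ) (a : K × K), a ≠ 0 → (y ^ j) a = a → q ^ m - 1 ∣ j := by
    intro j a ha h
    rw [hyj] at h
    rw [← hω]
    by_cases h1 : a.1 = 0
    · have h2' : a.2 ≠ 0 := fun h2' => ha (Prod.ext h1 h2')
      rw [← orderOf_inv]
      exact orderOf_dvd_of_pow_eq_one (Units.ext ((mul_eq_right₀ h2').1 (congrArg Prod.snd h)))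
    · exact orderOf_dvd_of_pow_eq_one (Units.ext ((mul_eq_right₀ h1).1 (congrArg Prod.fst h)))
  have hdet : LinearMap.det y = 1 := by
    show LinearMap.det ((Algebra.lmul F K (ω : K)).prodMap (Algebra.lmul F K ((ω⁻¹ : Kˣ) : K))) = 1
    rw [LinearMap.det_prodMap, ← map_mul, ← map_mul, ω.mul_inv, map_one, map_one]
  let P : Submodule F (K × K) := (⊤ : Submodule F K).prod ⊥
  let D : Submodule F (K × K) := (⊥ : Submodule F K).prod ⊤
  have hPD : IsCompl P D := IsCompl.of_eq ((Submodule.eq_bot_iff _).2 fun a ha =>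
      Prod.ext ((Submodule.mem_bot F).1 ha.2.1) ((Submodule.mem_bot F).1 ha.1.2))
    (Submodule.eq_top_iff'.2 fun a => by
      rw [show a = (a.1, 0) + (0, a.2) by simp]
      exact Submodule.add_mem_sup ⟨trivial, rfl⟩ ⟨rfl, trivial⟩)
  have hP0 : finrank F P = m := by
    refine Eq.trans ?_ hdim
    exact (LinearEquiv.ofBijective
      ((LinearMap.inl F K K).codRestrict P fun a => ⟨trivial, rfl⟩)
      ⟨fun a b h => congrArg (fun x : P => x.1.1) h, fun x => ⟨x.1.1, Subtype.ext (Prod.ext rfl x.2.2.symm)⟩⟩).finrank_eq.symm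
  obtain ⟨J, hJ, hJc⟩ := paired_count h2 BV hsymm hnd hPD
    (fun a ha b hb => by
      rw [hBV, (Submodule.mem_bot F).1 ha.2, (Submodule.mem_bot F).1 hb.2, mul_zero, zero_mul, add_zero, map_zero])
    (fun a ha b hb => by
      rw [hBV, (Submodule.mem_bot F).1 ha.1, (Submodule.mem_bot F).1 hb.1, mul_zero, zero_mul, add_zero, map_zero])
    (fun h => by rw [h, finrank_bot] at hP0; omega)
    PUnit.{1} (fun _ => (0 : F)) rfl (fun _ => rfl) (fun _ _ => rfl) (by simp)
  rw [hP0] at hJc
  have hdim2 : finrank F (K × K) = 2 * m := by rw [Module.finrank_prod, hdim]; ring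
  refine mk_tor h2 hdim2 BV hsymm hnd y hyB hNe hN0 hyN hfree hdet hJ ?_
  rw [← hJc]
  exact Nat.card_congr
    { toFun := fun x => ⟨(x.1, PUnit.unit), x.2.1, by simpa using x.2.2⟩
      invFun := fun x => ⟨x.1.1, x.2.1, by simpa using x.2.2⟩
      left_inv := fun x => rfl
      right_inv := fun x => rfl }

end Cfsg.Lib.Spec.NineEight
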