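import Cfsg.Agent.Lib.Spec.NineEight.Unip
import Cfsg.Agent.Lib.Linear.OrthSplitLow

/-!
# Moving element orders between `Ω` in dimension `2m + 1` and the affine group in dimension `2m`
-/

set_option autoImplicit false

namespace Cfsg.Lib.Spec.NineEight

open Module Cfsg.Lib.Linear.Orth
open scoped Matrix

variable {ι : Type} [Fintype ι] [DecidableEq ι] {F : Type*} [Field F]
  {Q : (ι → F) → F} {B : LinearMap.BilinForm F (ι → F)}

/-- A periodic sum. -/
theorem sum_range_periodic {A : Type*} [AddCommMonoid A] (f : ℕ → A) (P : ℕ) (hf : ∀ i, f (i + P) = f i) :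
    ∀ M, ∑ i ∈ Finset.range (M * P), f i = M • ∑ i ∈ Finset.range P, f i
  | 0 => by simp
  | M + 1 => by
    rw [Nat.succ_mul, Finset.sum_range_add, sum_range_periodic f P hf M, succ_nsmul]
    congr 1
    refine Finset.sum_congr rfl fun i _ => ?_
    clear sum_range_periodic
    induction M with
    | zero => simp
    | succ M ih => rw [Nat.succ_mul, show M * P + P + i = M * P + i + P by omega, hf, ih]

theorem lin_pow (g : ↥(isometryGroup F Q)) (i : ℕ) : lin ((g ^ i : ↥(isometryGroup F Q)) : GL ι F) = lin (g : GL ι F) ^ i := by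
  rw [SubmonoidClass.coe_pow, map_pow]

theorem lin_mul (g h : ↥(isometryGroup F Q)) :
    lin ((g * h : ↥(isometryGroup F Q)) : GL ι F) = lin (g : GL ι F) * lin (h : GL ι F) := map_mul _ _ _

theorem iso_ext {g h : ↥(isometryGroup F Q)} (H : ∀ v, lin (g : GL ι F) v = lin (h : GL ι F) v) : g = h :=
  Subtype.ext (lin_injective (LinearMap.ext H))

theorem pow_fix {V : Type*} [AddCommGroup V] [Module F V] {T : Module.End F V} {v : V} (h : T v = v) :
    ∀ i, (T ^ i) v = v
  | 0 => rfl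
  | i + 1 => by rw [pow_succ, Module.End.mul_apply, h, pow_fix h i]

variable [Fintype F] (p : ℕ) [hp : Fact p.Prime] [hcp : CharP F p]
include hp hcp

/-- Isometries of `p`-power order lie in `Ω`. -/
theorem omega_of_pElement (C : Space Q B) (h2 : (2 : F) ≠ 0) (hn : 2 ≤ Fintype.card ι)
    (u : ↥(isometryGroup F Q)) {a : ℕ} (hu : u ^ p ^ a = 1) : u ∈ Omega F Q := by
  show u ∈ commutator _
  rw [(omega_odd C h2 hn).1, MonoidHom.mem_ker]
  have hodd : p ≠ 2 := fun h => h2 (by
    have := CharP.cast_eq_zero F p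
    rwa [h, Nat.cast_ofNat] at this)
  have h1 : detSpin Q u ^ p ^ a = 1 := by rw [← map_pow, hu, map_one]
  obtain ⟨k, hk⟩ := FiniteField.card F p
  have h2' : detSpin Q u ^ (Fintype.card F - 1) = 1 := by
    refine Prod.ext ?_ ?_
    · rw [Prod.pow_fst]
      exact Units.ext (by simpa using FiniteField.pow_card_sub_one_eq_one _ (Units.ne_zero _))
    · rw [Prod.pow_snd]
      have hodd' : Even (Fintype.card F - 1) := by
        have : Odd (Fintype.card F) := by rw [hk.2]; exact (hp.out.odd_of_ne_two hodd).pow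
        obtain ⟨c, hc⟩ := this; exact ⟨c, by omega⟩
      obtain ⟨c, hc⟩ := hodd'
      rw [hc, ← two_mul, pow_mul, Int.units_sq, one_pow]
      rfl
  refine orderOf_eq_one_iff.1 (Nat.eq_one_of_dvd_coprimes (a := p ^ a) (b := Fintype.card F - 1) ?_
    (orderOf_dvd_of_pow_eq_one h1) (orderOf_dvd_of_pow_eq_one h2'))
  refine Nat.Coprime.pow_left _ (hp.out.coprime_iff_not_dvd.2 fun hd => ?_)
  have h3 : p ∣ Fintype.card F := hk.2 ▸ dvd_pow_self p k.pos.ne'
  have h4 := Nat.dvd_sub h3 hd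
  rw [Nat.sub_sub_self Fintype.card_pos] at h4
  exact hp.out.one_lt.ne' (Nat.eq_one_of_dvd_one h4)

/-- The semisimple context of an element of order prime to `p`. -/
theorem semiIso_of (C : Space Q B) (h2 : (2 : F) ≠ 0) (s : ↥(isometryGroup F Q)) {M : ℕ} (hs : s ^ M = 1)
    (hM : 0 < M) (hpM : Nat.Coprime p M) :
    SemiIso Q B (lin (s : GL ι F)) (lin (s : GL ι F) ^ (M - 1)) M :=
  ⟨C, h2, hM, fun h => hp.out.coprime_iff_not_dvd.1 hpM ((CharP.cast_eq_zero_iff F p M).1 h),
    by rw [← lin_pow, hs, OneMemClass.coe_one, map_one], rfl, fun a b => lin_B C s.2 a b⟩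

/-- Isometries supported on the fixed space of `s` commute with it. -/
theorem commute_of_fix (C : Space Q B) (h2 : (2 : F) ≠ 0) {s : ↥(isometryGroup F Q)} {M : ℕ} (hs : s ^ M = 1)
    (hM : 0 < M) (hpM : Nat.Coprime p M) (u : ↥(isometryGroup F Q))
    (hfix : ∀ v, (∀ y ∈ LinearMap.ker (lin (s : GL ι F) - 1), B v y = 0) → lin (u : GL ι F) v = v)
    (hY : ∀ v ∈ LinearMap.ker (lin (s : GL ι F) - 1), lin (u : GL ι F) v ∈ LinearMap.ker (lin (s : GL ι F) - 1)) :
    Commute s u := by
  obtain ⟨hsplit, -⟩ := (semiIso_of p C h2 s hs hM hpM).fix_split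
  refine iso_ext fun v => ?_
  rw [lin_mul, lin_mul, Module.End.mul_apply, Module.End.mul_apply]
  obtain ⟨a, ha, b, hb, rfl⟩ := hsplit.parts C v
  have hsb : lin (s : GL ι F) b = b := sub_eq_zero.1 (LinearMap.mem_ker.1 hb)
  have hua : lin (u : GL ι F) a = a := hfix a fun y hy => hsplit.orth a ha y hy
  have hsa : lin (s : GL ι F) a ∈ LinearMap.range (lin (s : GL ι F) - 1) := by
    obtain ⟨c, rfl⟩ := ha
    exact ⟨lin (s : GL ι F) c, by simp⟩
  have hsub : lin (s : GL ι F) (lin (u : GL ι F) b) = lin (u : GL ι F) b :=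
    sub_eq_zero.1 (LinearMap.mem_ker.1 (hY b hb))
  simp only [map_add, hua, hsb, hsub, hfix _ fun y hy => hsplit.orth _ hsa y hy]

/-- Unipotent order facts. -/
theorem pow_eq_one_iff_sub {u : ↥(isometryGroup F Q)} {j : ℕ} :
    u ^ p ^ j = 1 ↔ (lin (u : GL ι F) - 1) ^ p ^ j = 0 := by
  rw [sub_one_pow_char p, sub_eq_zero, ← lin_pow, ← map_one (lin (ι := ι) (F := F)), lin_injective.eq_iff,
    ← OneMemClass.coe_one (isometryGroup F Q), Subtype.ext_iff]

/-- The norm of `s u` on a vector fixed by `s`. -/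
theorem norm_fixed {s u : ↥(isometryGroup F Q)} (hsu : Commute s u) {M a : ℕ} (hu : u ^ p ^ a = 1) {w : ι → F}
    (hw : lin (s : GL ι F) w = w) :
    (∑ i ∈ Finset.range (M * p ^ a), lin ((s * u : ↥(isometryGroup F Q)) : GL ι F) ^ i) w =
      (M : F) • ((lin (u : GL ι F) - 1) ^ (p ^ a - 1)) w := by
  have hterm : ∀ i, (lin ((s * u : ↥(isometryGroup F Q)) : GL ι F) ^ i) w = (lin (u : GL ι F) ^ i) w := fun i => by
    rw [← lin_pow, hsu.mul_pow, (hsu.pow_pow i i).eq, lin_mul, lin_pow, lin_pow, Module.End.mul_apply, pow_fix hw]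
  simp only [LinearMap.sum_apply, hterm]
  rw [sum_range_periodic _ (p ^ a) (fun i => by
    rw [pow_add, ← lin_pow u (p ^ a), hu, OneMemClass.coe_one, map_one, mul_one]) M,
    ← LinearMap.sum_apply, geom_sum_char p, Nat.cast_smul_eq_nsmul]

omit hcp in
theorem orderOf_su {G : Type*} [Group G] {s u : G} (hsu : Commute s u) {M a : ℕ} (hs : orderOf s = M)
    (hu : orderOf u = p ^ a) (hpM : Nat.Coprime p M) : orderOf (s * u) = M * p ^ a := by
  rw [hsu.orderOf_mul_eq_mul_orderOf_of_coprime (by rw [hs, hu]; exact (hpM.symm.pow_right a)), hs, hu]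

/-- A long Jordan chain in the fixed space gives an affine element. -/
theorem affOrd_chain (C : Space Q B) (h2 : (2 : F) ≠ 0) (hn : 2 ≤ Fintype.card ι) {s : ↥(isometryGroup F Q)}
    (hs : s ∈ Omega F Q) {M : ℕ} (hM : orderOf s = M) (hpM : Nat.Coprime p M) {j : ℕ}
    (hj : p ^ j ≤ finrank F (LinearMap.ker (lin (s : GL ι F) - 1))) :
    AffOrd Q (M * p ^ (j + 1)) := by
  have hp2 : p ≠ 2 := fun h => h2 (by
    have := CharP.cast_eq_zero F p
    rwa [h, Nat.cast_ofNat] at this)
  have hM0 : 0 < M := hM ▸ orderOf_pos s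
  have hsM : s ^ M = 1 := hM ▸ pow_orderOf_eq_one s
  have H := semiIso_of p C h2 s hsM hM0 hpM
  obtain ⟨u, hfix, hY, hur, -, w, hw, hwne⟩ := exists_unip p C h2 H.fix_split.1.ndW
    (r := p ^ j) ((hp.out.odd_of_ne_two hp2).pow) hj
  have hu1 : u ^ p ^ j = 1 := (pow_eq_one_iff_sub (u := u) p).2 hur
  have huo : orderOf u = p ^ j := by
    obtain ⟨i, hi, hiu⟩ := (Nat.dvd_prime_pow hp.out).1 (orderOf_dvd_of_pow_eq_one hu1)
    rcases Nat.lt_or_ge i j with hlt | hge
    · refine absurd ?_ hwne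
      have h0 := (pow_eq_one_iff_sub p).1 (hiu ▸ pow_orderOf_eq_one u)
      have hle : p ^ i ≤ p ^ j - 1 := Nat.le_sub_one_of_lt (Nat.pow_lt_pow_right hp.out.one_lt hlt)
      rw [← Nat.sub_add_cancel hle, pow_add, h0, Module.End.mul_apply, LinearMap.zero_apply, map_zero]
    · rw [hiu, le_antisymm hi hge]
  have hc := commute_of_fix p C h2 hsM hM0 hpM u hfix hY
  have hord := orderOf_su p hc hM huo hpM
  have := affOrd_mul p (mul_mem hs (omega_of_pElement p C h2 hn u hu1)) w (by
    rw [hord, norm_fixed p hc hu1 (sub_eq_zero.1 (LinearMap.mem_ker.1 hw))]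
    exact smul_ne_zero H.ne hwne)
  rwa [hord, mul_assoc, ← pow_succ] at this

/-- The fixed space of an element of `Ω` has the parity of the space. -/
theorem fix_parity (C : Space Q B) (h2 : (2 : F) ≠ 0) {s : ↥(isometryGroup F Q)} (hs : s ∈ Omega F Q) {M : ℕ}
    (hsM : s ^ M = 1) (hM : 0 < M) (hpM : Nat.Coprime p M) :
    Even (finrank F (LinearMap.range (lin (s : GL ι F) - 1))) ∧
      finrank F (LinearMap.range (lin (s : GL ι F) - 1)) + finrank F (LinearMap.ker (lin (s : GL ι F) - 1)) =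
        Fintype.card ι := by
  set S := lin (s : GL ι F)
  obtain ⟨hsplit, hfix⟩ := (semiIso_of p C h2 s hsM hM hpM).fix_split
  set U := LinearMap.range (S - 1)
  set W := LinearMap.ker (S - 1)
  have hUW : IsCompl U W := IsCompl.of_eq
    ((Submodule.eq_bot_iff _).2 fun x hx => hsplit.disj C hx.1 hx.2) hsplit.sup
  refine ⟨?_, by rw [Submodule.finrank_add_eq_of_isCompl hUW, finrank_fintype_fun_eq_card]⟩
  have hSU : ∀ a ∈ U, S a ∈ U := by rintro _ ⟨c, rfl⟩; exact ⟨S c, by simp⟩
  have hS'U : ∀ a ∈ U, (S ^ (M - 1)) a ∈ U := by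
    rintro _ ⟨c, rfl⟩
    exact ⟨(S ^ (M - 1)) c, by
      rw [← Module.End.mul_apply, ← Module.End.mul_apply,
        (((Commute.self_pow S (M - 1))).sub_left (Commute.one_left _)).eq]⟩
  have hdU := det_no_fix C hsplit.ndU (S.restrict hSU) ((S ^ (M - 1)).restrict hS'U)
    (LinearMap.ext fun a => Subtype.ext (by
      show S ((S ^ (M - 1)) a.1) = a.1
      rw [← Module.End.mul_apply, ← pow_succ', Nat.sub_add_cancel hM, ← lin_pow, hsM, OneMemClass.coe_one, map_one,
        Module.End.one_apply]))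
    (fun a b => lin_B C s.2 a.1 b.1) (fun a ha => Subtype.ext (hfix a.1 a.2 (congrArg Subtype.val ha)))
  have hdet : LinearMap.det S = 1 := by
    have h1 : detSpin Q s = 1 := Abelianization.commutator_subset_ker (detSpin Q) hs
    show LinearMap.det (Matrix.toLin' ((s : ↥(isometryGroup F Q)) : GL ι F).val) = 1
    rw [LinearMap.det_toLin']
    exact congrArg Units.val (congrArg Prod.fst h1)
  let e := Submodule.prodEquivOfIsCompl U W hUW
  have hconj : S = (e : (U × W) →ₗ[F] (ι → F)) ∘ₗ (LinearMap.prodMap (S.restrict hSU) (LinearMap.id : W →ₗ[F] W)) ∘ₗ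
      (e.symm : (ι → F) →ₗ[F] (U × W)) := by
    refine LinearMap.ext fun v => ?_
    obtain ⟨x, rfl⟩ := e.surjective v
    simp only [LinearMap.comp_apply, LinearEquiv.coe_coe, LinearEquiv.symm_apply_apply]
    show S ((x.1 : ι → F) + x.2) = S x.1 + x.2
    rw [map_add, show S x.2 = x.2 from sub_eq_zero.1 (LinearMap.mem_ker.1 x.2.2)]
  rw [hconj, LinearMap.det_conj, LinearMap.det_prodMap, hdU, LinearMap.det_id, mul_one] at hdet
  by_contra hodd
  rw [(Nat.not_even_iff_odd.1 hodd).neg_one_pow] at hdet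
  exact h2 (by linear_combination -hdet)

/-! ## The sum with a line -/

variable {R : (Unit → F) → F} {D : LinearMap.BilinForm F (Unit → F)}

omit hp hcp in
theorem inlI_act (g : ↥(isometryGroup F Q)) (a : ι → F) (t : Unit → F) :
    lin ((inlI Q R g : ↥(isometryGroup F (sumQ Q R))) : GL (ι ⊕ Unit) F) (Sum.elim a t) =
      Sum.elim (lin (g : GL ι F) a) t := by
  rw [lin_apply, inlI_val, Matrix.fromBlocks_mulVec]
  simp [lin_apply]

omit hp hcp in
theorem inlI_injective : Function.Injective (inlI (F := F) (ι := ι) (κ := Unit) Q R) := by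
  intro g h hgh
  refine iso_ext fun a => ?_
  have h1 := inlI_act (R := R) g a 0
  rw [hgh, inlI_act] at h1
  exact (congrArg (fun f : ι ⊕ Unit → F => f ∘ Sum.inl) h1).symm

/-- Element orders of the affine group are element orders of `Ω` of the sum with a line. -/
theorem affOrd_to_sum (C : Space Q B) (C' : Space R D) (h2 : (2 : F) ≠ 0) (hn : 2 ≤ Fintype.card ι)
    (hev : Even (Fintype.card ι)) {n : ℕ} (h : AffOrd Q n) :
    ∃ h : ↥(isometryGroup F (sumQ Q R)), h ∈ Omega F (sumQ Q R) ∧ orderOf h = n := by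
  classical
  have hcase : Fintype.card F ≠ 2 ∨ (Fintype.card ι ≠ 4 ∧ Fintype.card (ι ⊕ Unit) ≠ 4) := Or.inl (card_ne_two h2)
  have hn9 : 2 ≤ Fintype.card (ι ⊕ Unit) := by rw [Fintype.card_sum]; omega
  obtain ⟨x, rfl⟩ := h
  rw [orderOf_aff p]
  set g : ↥(isometryGroup F Q) := (x.right : ↥(isometryGroup F Q)) with hg
  have hgΩ : g ∈ Omega F Q := x.right.2
  have hgo : orderOf x.right = orderOf g := (Subgroup.orderOf_coe _).symm
  rw [hgo]
  split_ifs with hN
  · exact ⟨inlI Q R g, (inlI_mem_omega_iff C C' hcase g).2 hgΩ, orderOf_injective _ inlI_injective g⟩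
  obtain ⟨s, u, M, a, hsu, hcomm, hso, huo, hpM, hM0, hord, hsg, hug⟩ := exists_parts p g (orderOf_pos g).ne'
  have hsM : s ^ M = 1 := hso ▸ pow_orderOf_eq_one s
  have hu1 : u ^ p ^ a = 1 := huo ▸ pow_orderOf_eq_one u
  have H := semiIso_of p C h2 s hsM hM0 hpM
  set S := lin (s : GL ι F)
  set v := x.left.toAdd
  obtain ⟨vU, hvU, vW, hvW, hv⟩ := H.fix_split.1.parts C v
  set Nm := ∑ i ∈ Finset.range (orderOf g), lin (g : GL ι F) ^ i
  have hgN : lin (g : GL ι F) * Nm = Nm := by
    have h1 := mul_geom_sum (lin (g : GL ι F)) (orderOf g)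
    rw [← lin_pow, pow_orderOf_eq_one, OneMemClass.coe_one, map_one, sub_self, sub_mul, one_mul, sub_eq_zero] at h1
    exact h1
  have hSN : S * Nm = Nm := by
    obtain ⟨k, hk⟩ := mem_zpowers_iff_mem_range_orderOf.1 hsg |> Finset.mem_image.1
    rw [show S = lin ((g ^ k : ↥(isometryGroup F Q)) : GL ι F) by rw [hk.2], lin_pow]
    clear hk
    induction k with
    | zero => rw [pow_zero, one_mul]
    | succ k ih => rw [pow_succ, mul_assoc, hgN, ih]
  have hNU : Nm vU = 0 := by
    refine H.fix_split.2 _ ?_ (LinearMap.congr_fun hSN vU)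
    obtain ⟨c, rfl⟩ := hvU
    refine ⟨Nm c, ?_⟩
    have hc : Commute Nm (S - 1) := by
      refine Commute.sub_right (Commute.sum_left _ _ _ fun i _ => ?_) (Commute.one_right _)
      have : Commute (g ^ i) s := by rw [hsu]; exact (((Commute.refl s).mul_left hcomm.symm).pow_left i)
      rw [← lin_pow]
      show lin _ * lin _ = lin _ * lin _
      rw [← lin_mul, ← lin_mul, this.eq]
    rw [← Module.End.mul_apply, ← hc.eq, Module.End.mul_apply]
  have hwne : ((lin (u : GL ι F) - 1) ^ (p ^ a - 1)) vW ≠ 0 := fun h0 => hN (by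
    show Nm v = 0
    rw [hv, map_add, hNU, zero_add]
    show (∑ i ∈ Finset.range (orderOf g), lin (g : GL ι F) ^ i) vW = 0
    rw [hord, hsu, norm_fixed p hcomm hu1 (sub_eq_zero.1 (LinearMap.mem_ker.1 hvW)), h0, smul_zero])
  have hd : p ^ a ≤ finrank F (LinearMap.ker (S - 1)) := by
    by_contra hlt
    refine hwne ?_
    refine pow_finrank_apply (n := p ^ a) ((pow_eq_one_iff_sub p).1 hu1) _ ?_ (by omega) vW hvW
    intro y hy
    rw [LinearMap.mem_ker] at hy ⊢
    have hc : Commute (S - 1) (lin (u : GL ι F) - 1) :=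
      ((show Commute S (lin (u : GL ι F)) by
        show lin _ * lin _ = lin _ * lin _
        rw [← lin_mul, ← lin_mul, hcomm.eq]).sub_right (Commute.one_right _)).sub_left (Commute.one_left _)
    rw [← Module.End.mul_apply, hc.eq, Module.End.mul_apply, hy, map_zero]
  -- in the sum
  set s9 := inlI Q R s
  have hs9 : s9 ∈ Omega F (sumQ Q R) := by
    refine (inlI_mem_omega_iff C C' hcase s).2 ?_
    exact (Subgroup.zpowers_le.2 hgΩ) hsg
  have hs9o : orderOf s9 = M := (orderOf_injective _ inlI_injective s).trans hso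
  have hs9M : s9 ^ M = 1 := hs9o ▸ pow_orderOf_eq_one s9
  set S9 := lin (s9 : GL (ι ⊕ Unit) F)
  have hd9 : p ^ a + 1 ≤ finrank F (LinearMap.ker (S9 - 1)) := by
    let Φ : (LinearMap.ker (S - 1) × F) →ₗ[F] LinearMap.ker (S9 - 1) :=
      { toFun := fun y => ⟨Sum.elim (y.1 : ι → F) (fun _ => y.2), by
          rw [LinearMap.mem_ker, LinearMap.sub_apply, Module.End.one_apply, inlI_act,
            show lin (s : GL ι F) y.1 = (y.1 : ι → F) from sub_eq_zero.1 (LinearMap.mem_ker.1 y.1.2), sub_self]⟩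
        map_add' := fun y z => by ext (i | i) <;> rfl
        map_smul' := fun c y => by ext (i | i) <;> rfl }
    have hinj : Function.Injective Φ := fun y z hyz => Prod.ext (Subtype.ext (funext fun i =>
      congrFun (congrArg Subtype.val hyz) (Sum.inl i))) (congrFun (congrArg Subtype.val hyz) (Sum.inr ()))
    have := LinearMap.finrank_le_finrank_of_injective hinj
    rw [Module.finrank_prod, Module.finrank_self] at this
    omega
  have H9 := semiIso_of p (C.sum C') h2 s9 hs9M hM0 hpM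
  obtain ⟨hevU, hsum⟩ := fix_parity p (C.sum C') h2 hs9 hs9M hM0 hpM
  rw [Fintype.card_sum, Fintype.card_unit] at hsum
  change _ + finrank F (LinearMap.ker (S9 - 1)) = _ at hsum
  have hodd : Odd (finrank F (LinearMap.ker (S9 - 1))) := by
    obtain ⟨c, hc⟩ := hevU
    obtain ⟨e, he⟩ := hev
    exact ⟨e - c, by omega⟩
  obtain ⟨u9, hfix, hY, hur, ⟨b, hub⟩, w, hw, hwne9⟩ := exists_unip p (C.sum C') h2 H9.fix_split.1.ndW hodd le_rfl
  obtain ⟨i, -, hiu⟩ := (Nat.dvd_prime_pow hp.out).1 (orderOf_dvd_of_pow_eq_one hub)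
  have hia : a < i := by
    by_contra hle
    refine hwne9 ?_
    have h0 := (pow_eq_one_iff_sub p).1 (hiu ▸ pow_orderOf_eq_one u9)
    have hle' : p ^ i ≤ p ^ a := Nat.pow_le_pow_right hp.out.pos (by omega)
    rw [← Nat.sub_add_cancel (show p ^ i ≤ finrank F (LinearMap.ker (S9 - 1)) - 1 by omega), pow_add, h0,
      Module.End.mul_apply, LinearMap.zero_apply, map_zero]
  set u' := u9 ^ p ^ (i - (a + 1))
  have hu'o : orderOf u' = p ^ (a + 1) := by
    rw [orderOf_pow_of_dvd (pow_pos hp.out.pos _).ne' (hiu ▸ pow_dvd_pow p (Nat.sub_le _ _)), hiu,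
      Nat.pow_div (Nat.sub_le _ _) hp.out.pos, Nat.sub_sub_self hia]
  have hc9 : Commute s9 u' := (commute_of_fix p (C.sum C') h2 hs9M hM0 hpM u9 hfix hY).pow_right _
  refine ⟨s9 * u', mul_mem hs9 (Subgroup.pow_mem _ (omega_of_pElement p (C.sum C') h2 hn9 u9 hub) _), ?_⟩
  rw [orderOf_su p hc9 hs9o hu'o hpM, hord, pow_succ, mul_assoc]

/-- The last coordinate vector. -/
def lastVec (ι : Type) (F : Type*) [Field F] : ι ⊕ Unit → F := Sum.elim 0 1

omit hp hcp in
/-- An isometry of the sum fixing the last vector comes from the first summand. -/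
theorem exists_inl (C : Space Q B) (C' : Space R D) (hR : R 1 ≠ 0) (h2 : (2 : F) ≠ 0)
    {g : ↥(isometryGroup F (sumQ Q R))}
    (hg : lin (g : GL (ι ⊕ Unit) F) (lastVec ι F) = lastVec ι F) : ∃ g8, inlI Q R g8 = g := by
  set G := lin (g : GL (ι ⊕ Unit) F) with hG
  set G' := lin (g⁻¹ : GL (ι ⊕ Unit) F) with hG'
  have hdecomp : ∀ v : ι ⊕ Unit → F, v = Sum.elim (v ∘ Sum.inl) 0 + v (Sum.inr ()) • lastVec ι F := fun v => by
    funext i; rcases i with i | i <;> simp [lastVec]
  have hB : ∀ (T : Module.End F (ι ⊕ Unit → F)), (∀ u v, sumB B D (T u) (T v) = sumB B D u v) →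
      T (lastVec ι F) = lastVec ι F → ∀ a : ι → F, T (Sum.elim a 0) = Sum.elim ((T (Sum.elim a 0)) ∘ Sum.inl) 0 := by
    intro T hT hT0 a
    have h1 := hT (Sum.elim a 0) (lastVec ι F)
    rw [hT0] at h1
    set v := T (Sum.elim a 0)
    have h3 : sumB B D (Sum.elim a 0) (lastVec ι F) = 0 := by simp [sumB, lastVec, C.symm]
    have h4 : sumB B D v (lastVec ι F) = v (Sum.inr ()) * (2 * R 1) := by
      conv_lhs => rw [hdecomp v]
      rw [map_add, map_smul, LinearMap.add_apply, LinearMap.smul_apply, (C.sum C').self,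
        show sumB B D (Sum.elim (v ∘ Sum.inl) 0) (lastVec ι F) = 0 by simp [sumB, lastVec],
        show sumQ Q R (lastVec ι F) = R 1 by simp [sumQ, lastVec, C.zero], zero_add, smul_eq_mul]
    rw [h3, h4] at h1
    have h5 : v (Sum.inr ()) = 0 := (mul_eq_zero.1 h1).resolve_right (mul_ne_zero h2 hR)
    conv_lhs => rw [hdecomp v, h5, zero_smul, add_zero]
  have hG'0 : G' (lastVec ι F) = lastVec ι F := by
    conv_lhs => rw [← hg]
    exact lin_inv_mul _ _
  have hA := hB G (fun u v => lin_B (C.sum C') g.2 u v) hg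
  have hA' := hB G' (fun u v => lin_B (C.sum C') (inv_mem g.2) u v) hG'0
  let incl : (ι → F) →ₗ[F] (ι ⊕ Unit → F) :=
    { toFun := fun a => Sum.elim a 0
      map_add' := fun a b => by funext i; rcases i with i | i <;> simp
      map_smul' := fun c a => by funext i; rcases i with i | i <;> simp }
  let proj : (ι ⊕ Unit → F) →ₗ[F] (ι → F) := LinearMap.funLeft F F Sum.inl
  have hcomp : ∀ (T T' : Module.End F (ι ⊕ Unit → F)), (∀ v, T (T' v) = v) →
      (∀ a, T' (Sum.elim a 0) = Sum.elim ((T' (Sum.elim a 0)) ∘ Sum.inl) 0) →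
      (proj ∘ₗ T ∘ₗ incl) * (proj ∘ₗ T' ∘ₗ incl) = 1 := fun T T' hTT' hT' => LinearMap.ext fun a => by
    show (T (Sum.elim ((T' (Sum.elim a 0)) ∘ Sum.inl) 0)) ∘ Sum.inl = a
    rw [← hT', hTT']; rfl
  obtain ⟨g8, hg8⟩ := exists_iso_of_end (Q := Q) (proj ∘ₗ G ∘ₗ incl) (proj ∘ₗ G' ∘ₗ incl)
    (hcomp G G' (lin_mul_inv _) hA') (hcomp G' G (lin_inv_mul _) hA) fun a => by
      show Q ((G (Sum.elim a 0)) ∘ Sum.inl) = Q a
      have h := lin_Q g.2 (Sum.elim a 0)
      rw [← hG, hA a] at h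
      simpa [sumQ, C'.zero] using h
  refine ⟨g8, iso_ext fun v => ?_⟩
  conv_lhs => rw [hdecomp v]
  conv_rhs => rw [hdecomp v]
  rw [map_add, map_add, map_smul, map_smul, inlI_act, hg, show lin ((inlI Q R g8 : ↥(isometryGroup F (sumQ Q R))) :
      GL (ι ⊕ Unit) F) (lastVec ι F) = lastVec ι F by rw [lastVec, inlI_act, map_zero]]
  congr 1
  rw [hg8]
  exact (hA _).symm

omit hp hcp in
/-- An element of `Ω` of the sum fixing a vector of value `R 1` comes from `Ω` of the first summand. -/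
theorem transfer_fix (C : Space Q B) (C' : Space R D) (hR : R 1 ≠ 0) (h2 : (2 : F) ≠ 0)
    {h : ↥(isometryGroup F (sumQ Q R))} (hh : h ∈ Omega F (sumQ Q R)) {c : ι ⊕ Unit → F}
    (hc : sumQ Q R c = R 1) (hfix : lin (h : GL (ι ⊕ Unit) F) c = c) :
    ∃ h8 : ↥(isometryGroup F Q), h8 ∈ Omega F Q ∧ orderOf h8 = orderOf h ∧
      finrank F (LinearMap.ker (lin (h : GL (ι ⊕ Unit) F) - 1)) ≤
        finrank F (LinearMap.ker (lin (h8 : GL ι F) - 1)) + 1 := by
  classical
  have hcase : Fintype.card F ≠ 2 ∨ (Fintype.card ι ≠ 4 ∧ Fintype.card (ι ⊕ Unit) ≠ 4) := Or.inl (card_ne_two h2)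
  have C9 := C.sum C'
  have hlast : sumQ Q R (lastVec ι F) = R 1 := by simp [sumQ, lastVec, C.zero]
  obtain ⟨g0, hg0, hconj⟩ := refl_conj C9 (Or.inl (card_ne_two h2)) (x := c) (y := lastVec ι F) (hc ▸ hR)
    (hc.trans hlast.symm)
  set g1 : ↥(isometryGroup F (sumQ Q R)) := ⟨g0, hg0⟩
  rw [rGL_conj C9 (hc ▸ hR) hg0] at hconj
  set c' := g0.val *ᵥ c with hc'
  have hQc' : sumQ Q R c' ≠ 0 := by rw [hc', mem_iso.1 hg0, hc]; exact hR
  have hline : ∃ t : F, c' = t • lastVec ι F := by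
    have h1 : (rGL (sumQ Q R) (lastVec ι F)).val *ᵥ c' = -c' := by rw [← hconj]; exact rGL_self C9 hQc'
    rw [rGL_act C9 (hlast ▸ hR)] at h1
    set β := (sumQ Q R (lastVec ι F))⁻¹ * sumB B D (lastVec ι F) c'
    refine ⟨β / 2, ?_⟩
    have h2' : (2 : F) • c' = β • lastVec ι F := by
      rw [two_smul]
      linear_combination (norm := module) h1
    rw [div_eq_inv_mul, ← smul_smul, ← h2', inv_smul_smul₀ h2]
  obtain ⟨t, ht⟩ := hline
  have ht0 : t ≠ 0 := fun h => hQc' (by rw [ht, h, zero_smul]; exact C9.zero)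
  set h' := g1 * h * g1⁻¹
  have hfix' : lin (h' : GL (ι ⊕ Unit) F) (lastVec ι F) = lastVec ι F := by
    have h3 : lin (h' : GL (ι ⊕ Unit) F) c' = c' := by
      show lin (g0 * (h : GL (ι ⊕ Unit) F) * g0⁻¹) c' = c'
      rw [map_mul, map_mul, Module.End.mul_apply, Module.End.mul_apply, hc', ← lin_apply, lin_inv_mul, hfix]
    rw [ht, map_smul] at h3
    exact smul_right_injective _ ht0 h3
  obtain ⟨h8, hh8⟩ := exists_inl C C' hR h2 hfix'
  have hΩ : h' ∈ Omega F (sumQ Q R) := (inferInstance : (Omega F (sumQ Q R)).Normal).conj_mem h hh g1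
  refine ⟨h8, (inlI_mem_omega_iff C C' hcase h8).1 (hh8 ▸ hΩ), ?_, ?_⟩
  · rw [← orderOf_injective _ (inlI_injective (R := R)) h8, hh8]
    exact (orderOf_injective (MulAut.conj g1).toMonoidHom (MulEquiv.injective _) h)
  · -- the fixed space of `h` maps to that of `h8` with kernel in a line
    let proj : LinearMap.ker (lin (h : GL (ι ⊕ Unit) F) - 1) →ₗ[F] LinearMap.ker (lin (h8 : GL ι F) - 1) :=
      LinearMap.codRestrict _ ((LinearMap.funLeft F F Sum.inl) ∘ₗ (lin g0).domRestrict _) fun v => by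
        rw [LinearMap.mem_ker, LinearMap.sub_apply, Module.End.one_apply, sub_eq_zero]
        have h1 : lin (h' : GL (ι ⊕ Unit) F) (lin g0 v.1) = lin g0 v.1 := by
          show lin (g0 * (h : GL (ι ⊕ Unit) F) * g0⁻¹) _ = _
          rw [map_mul, map_mul, Module.End.mul_apply, Module.End.mul_apply, lin_inv_mul,
            sub_eq_zero.1 (LinearMap.mem_ker.1 v.2)]
          rfl
        rw [← hh8] at h1
        set z := lin g0 v.1
        rw [show z = Sum.elim (z ∘ Sum.inl) (z ∘ Sum.inr) from (Sum.elim_comp_inl_inr z).symm, inlI_act] at h1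
        exact congrArg (fun f : ι ⊕ Unit → F => f ∘ Sum.inl) h1
    have hrk := LinearMap.finrank_range_add_finrank_ker proj
    have hle := Submodule.finrank_le (LinearMap.range proj)
    have hker : finrank F (LinearMap.ker proj) ≤ 1 := by
      let κ : LinearMap.ker proj →ₗ[F] F :=
        { toFun := fun v => lin g0 v.1.1 (Sum.inr ())
          map_add' := fun a b => by simp
          map_smul' := fun r a => by simp }
      have hinj : Function.Injective κ := by
        rw [injective_iff_map_eq_zero]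
        intro v hv
        have h1 : ∀ i, lin g0 v.1.1 (Sum.inl i) = 0 := fun i =>
          congrFun (congrArg Subtype.val (LinearMap.mem_ker.1 v.2)) i
        have h0 : lin g0 v.1.1 = 0 := funext fun i => by
          rcases i with i | i
          · exact h1 i
          · exact hv
        refine Subtype.ext (Subtype.ext ?_)
        rw [← lin_inv_mul g0 v.1.1, h0, map_zero]; rfl
      have := LinearMap.finrank_le_finrank_of_injective hinj
      rwa [Module.finrank_self] at this
    omega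

/-- Element orders of `Ω` of the sum with a two dimensional fixed space. -/
theorem affOrd_of_sum (C : Space Q B) (C' : Space R D) (hR : R 1 ≠ 0) (h2 : (2 : F) ≠ 0) (hn : 2 ≤ Fintype.card ι)
    {g : ↥(isometryGroup F (sumQ Q R))} (hg : g ∈ Omega F (sumQ Q R)) {s u : ↥(isometryGroup F (sumQ Q R))}
    {M b : ℕ} (hgsu : g = s * u) (hcomm : Commute s u) (hso : orderOf s = M) (huo : orderOf u = p ^ b)
    (hpM : Nat.Coprime p M) (hd : 2 ≤ finrank F (LinearMap.ker (lin (s : GL (ι ⊕ Unit) F) - 1))) :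
    AffOrd Q (orderOf g) := by
  classical
  have hn9 : 2 ≤ Fintype.card (ι ⊕ Unit) := by rw [Fintype.card_sum]; omega
  have C9 := C.sum C'
  have hM0 : 0 < M := hso ▸ orderOf_pos s
  have hsM : s ^ M = 1 := hso ▸ pow_orderOf_eq_one s
  have hu1 : u ^ p ^ b = 1 := huo ▸ pow_orderOf_eq_one u
  have huΩ := omega_of_pElement p C9 h2 hn9 u hu1
  have hsΩ : s ∈ Omega F (sumQ Q R) := by
    have := mul_mem hg (inv_mem huΩ)
    rwa [hgsu, mul_inv_cancel_right] at this
  have H := semiIso_of p C9 h2 s hsM hM0 hpM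
  set S := lin (s : GL (ι ⊕ Unit) F) with hS
  set W := LinearMap.ker (S - 1) with hW
  set U := LinearMap.range (S - 1)
  obtain ⟨hsplit, -⟩ := H.fix_split
  obtain ⟨c, hcW, hQc⟩ := Cfsg.Lib.Linear.OrthLow.exists_val C9 h2 hsplit.ndW hd hR
  have hord : orderOf g = M * p ^ b := hgsu ▸ orderOf_su p hcomm hso huo hpM
  set Uu := lin (u : GL (ι ⊕ Unit) F)
  have hSU : Commute S Uu := by
    show lin _ * lin _ = lin _ * lin _
    rw [← lin_mul, ← lin_mul, hcomm.eq]
  by_cases hA : ∀ v ∈ W, ((Uu - 1) ^ p ^ (b - 1)) v = 0 ∧ 0 < b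
  · -- the unipotent part may be taken trivial on the fixed space
    have hb : 0 < b := (hA 0 W.zero_mem).2
    have hinvW : ∀ v ∈ W, Uu v ∈ W := fun v hv => by
      rw [hW, LinearMap.mem_ker] at hv ⊢
      rw [← Module.End.mul_apply, (hSU.sub_left (Commute.one_left _)).eq, Module.End.mul_apply, hv, map_zero]
    have hinvU : ∀ v ∈ U, Uu v ∈ U := by
      rintro _ ⟨y, rfl⟩
      exact ⟨Uu y, by rw [← Module.End.mul_apply, (hSU.sub_left (Commute.one_left _)).eq, Module.End.mul_apply]⟩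
    have hUW : IsCompl U W := IsCompl.of_eq
      ((Submodule.eq_bot_iff _).2 fun x hx => hsplit.disj C9 hx.1 hx.2) hsplit.sup
    let π : Module.End F (ι ⊕ Unit → F) := U.projection W hUW
    have hπU : ∀ v ∈ U, π v = v := fun v hv => by simp [π, Submodule.projection_apply_left hUW ⟨v, hv⟩]
    have hπW : ∀ v ∈ W, π v = 0 := fun v hv => by simp [π, hv]
    set T : Module.End F (ι ⊕ Unit → F) := Uu * π + (1 - π) with hT
    have hTs : ∀ a ∈ U, ∀ w ∈ W, T (a + w) = Uu a + w := fun a ha w hw => by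
      simp [hT, hπU a ha, hπW w hw]
    have hTp : ∀ (j : ℕ), ∀ a ∈ U, ∀ w ∈ W, (T ^ j) (a + w) = (Uu ^ j) a + w := by
      intro j
      induction j with
      | zero => intro a _ w _; rfl
      | succ j ih =>
        intro a ha w hw
        rw [pow_succ, Module.End.mul_apply, hTs a ha w hw, ih _ (hinvU a ha) w hw, pow_succ, Module.End.mul_apply]
    have hTb : T ^ p ^ b = 1 := LinearMap.ext fun v => by
      obtain ⟨a, ha, w, hw, rfl⟩ := hsplit.parts C9 v
      rw [hTp _ a ha w hw, ← lin_pow, hu1, OneMemClass.coe_one, map_one]; rfl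
    have hTQ : ∀ v, sumQ Q R (T v) = sumQ Q R v := fun v => by
      obtain ⟨a, ha, w, hw, rfl⟩ := hsplit.parts C9 v
      rw [hTs a ha w hw, C9.add, C9.add, hsplit.orth a ha w hw, hsplit.orth _ (hinvU a ha) w hw, lin_Q u.2]
    have hpb : p ^ b - 1 + 1 = p ^ b := Nat.sub_add_cancel (Nat.one_le_pow _ _ hp.out.pos)
    obtain ⟨u', hu'⟩ := exists_iso_of_end T (T ^ (p ^ b - 1)) (by rw [← pow_succ', hpb, hTb])
      (by rw [← pow_succ, hpb, hTb]) hTQ
    have hu'1 : u' ^ p ^ b = 1 := iso_ext fun v => by rw [lin_pow, hu', hTb, OneMemClass.coe_one, map_one]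
    have hu'o : orderOf u' = p ^ b := by
      obtain ⟨i, hi, hiu⟩ := (Nat.dvd_prime_pow hp.out).1 (orderOf_dvd_of_pow_eq_one hu'1)
      rcases Nat.lt_or_ge i b with hlt | hge
      · have h1 : u' ^ p ^ (b - 1) = 1 :=
          orderOf_dvd_iff_pow_eq_one.1 (hiu ▸ pow_dvd_pow p (by omega))
        have h3 : u ^ p ^ (b - 1) = 1 := (pow_eq_one_iff_sub (u := u) p).2 (LinearMap.ext fun v => by
          obtain ⟨a, ha, w, hw, rfl⟩ := hsplit.parts C9 v
          rw [map_add, (hA w hw).1, add_zero, sub_one_pow_char p, LinearMap.sub_apply, Module.End.one_apply,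
            LinearMap.zero_apply, sub_eq_zero]
          have h4 := hTp (p ^ (b - 1)) a ha 0 W.zero_mem
          rw [add_zero, add_zero, ← hu', ← lin_pow, h1, OneMemClass.coe_one, map_one] at h4
          exact h4.symm)
        have h5 := Nat.le_of_dvd (pow_pos hp.out.pos _) (orderOf_dvd_of_pow_eq_one h3)
        rw [huo] at h5
        exact absurd ((Nat.pow_le_pow_iff_right hp.out.one_lt).1 h5) (by omega)
      · rw [hiu, le_antisymm hi hge]
    have hc' : Commute s u' := iso_ext fun v => by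
      rw [lin_mul, lin_mul, Module.End.mul_apply, Module.End.mul_apply, hu']
      obtain ⟨a, ha, w, hw, rfl⟩ := hsplit.parts C9 v
      have hsw : S w = w := sub_eq_zero.1 (LinearMap.mem_ker.1 hw)
      have hsa : S a ∈ U := by
        obtain ⟨y, rfl⟩ := ha
        exact ⟨S y, by simp⟩
      rw [hTs a ha w hw, map_add, map_add, ← hS, hsw, hTs _ hsa w hw]
      rw [← Module.End.mul_apply, hSU.eq, Module.End.mul_apply]
    have hfix : lin ((s * u' : ↥(isometryGroup F (sumQ Q R))) : GL (ι ⊕ Unit) F) c = c := by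
      rw [lin_mul, Module.End.mul_apply, hu']
      have h6 := hTs 0 U.zero_mem c hcW
      rw [zero_add, map_zero, zero_add] at h6
      rw [h6]
      exact sub_eq_zero.1 (LinearMap.mem_ker.1 hcW)
    obtain ⟨h8, hh8, ho8, -⟩ := transfer_fix C C' hR h2 (mul_mem hsΩ (omega_of_pElement p C9 h2 hn9 u' hu'1)) hQc hfix
    have := affOrd_of_mem p hh8
    rwa [ho8, orderOf_su p hc' hso hu'o hpM, ← hord] at this
  · obtain ⟨s8, hs8, ho8, hd8⟩ := transfer_fix C C' hR h2 hsΩ hQc (sub_eq_zero.1 (LinearMap.mem_ker.1 hcW))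
    rcases Nat.eq_zero_or_pos b with hb | hb
    · have := affOrd_of_mem p hs8
      rwa [ho8, hso, ← mul_one M, ← pow_zero p, ← hb, ← hord] at this
    · push Not at hA
      obtain ⟨v, hv, hvne⟩ := hA
      have hne : ((Uu - 1) ^ p ^ (b - 1)) v ≠ 0 := fun h => absurd hb (not_lt.2 (hvne h))
      have hbig : p ^ (b - 1) + 1 ≤ finrank F W := by
        by_contra hlt
        refine hne (pow_finrank_apply (n := p ^ b) ((pow_eq_one_iff_sub p).1 hu1) _ ?_ (by omega) v hv)
        intro y hy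
        rw [hW, LinearMap.mem_ker] at hy ⊢
        rw [← Module.End.mul_apply, ((hSU.sub_right (Commute.one_right _)).sub_left (Commute.one_left _)).eq,
          Module.End.mul_apply, hy, map_zero]
      rw [← hW] at hd8
      have := affOrd_chain p C h2 hn hs8 (ho8.trans hso) hpM (j := b - 1) (by omega)
      rwa [Nat.sub_add_cancel hb, ← hord] at this

end Cfsg.Lib.Spec.NineEight
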