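import Cfsg.Agent.Lib.Spec.NineEight.Semi
import Cfsg.Agent.Lib.Linear.OrthStdBasis

/-!
# Unipotent isometries with one long Jordan chain
-/

set_option autoImplicit false

namespace Cfsg.Lib.Spec.NineEight

open Module Cfsg.Lib.Linear.Orth
open scoped Matrix

section Char

variable {F V : Type*} [Field F] [AddCommGroup V] [Module F V] (p : ℕ) [hp : Fact p.Prime] [CharP F p]
include hp

theorem sub_one_pow_char (u : Module.End F V) (j : ℕ) : (u - 1) ^ p ^ j = u ^ p ^ j - 1 := by
  have h := congrArg (Polynomial.aeval u) (show ((Polynomial.X : Polynomial F) - 1) ^ p ^ j =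
    Polynomial.X ^ p ^ j - 1 by rw [sub_pow_char_pow, one_pow])
  simpa using h

theorem geom_sum_char (u : Module.End F V) (j : ℕ) :
    ∑ i ∈ Finset.range (p ^ j), u ^ i = (u - 1) ^ (p ^ j - 1) := by
  have h1 : (∑ i ∈ Finset.range (p ^ j), (Polynomial.X : Polynomial F) ^ i) =
      (Polynomial.X - 1) ^ (p ^ j - 1) := by
    have hne : (Polynomial.X : Polynomial F) - 1 ≠ 0 := by
      rw [← map_one Polynomial.C]; exact Polynomial.X_sub_C_ne_zero 1
    refine mul_right_cancel₀ hne ?_
    rw [geom_sum_mul, ← pow_succ, Nat.sub_add_cancel (Nat.one_le_pow _ _ hp.out.pos), sub_pow_char_pow, one_pow]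
  simpa using congrArg (Polynomial.aeval u) h1

end Char

/-- A nilpotent endomorphism loses dimension in each step. -/
theorem finrank_map_lt {F V : Type*} [Field F] [AddCommGroup V] [Module F V] [FiniteDimensional F V]
    {T : Module.End F V} {n : ℕ} (hT : T ^ n = 0) {Y : Submodule F V} (hY : ∀ v ∈ Y, T v ∈ Y) (hY0 : Y ≠ ⊥) :
    finrank F (Y.map T) < finrank F Y := by
  refine Submodule.finrank_lt_finrank_of_lt (lt_of_le_of_ne (by rintro _ ⟨v, hv, rfl⟩; exact hY v hv) fun h => hY0 ?_)
  have : ∀ k, Y.map (T ^ k) = Y := by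
    intro k
    induction k with
    | zero => rw [pow_zero, Module.End.one_eq_id, Submodule.map_id]
    | succ k ih => rw [pow_succ', Module.End.mul_eq_comp, Submodule.map_comp, ih, h]
  rw [← this n, hT]
  exact Submodule.map_zero _

/-- The nilpotency index on an invariant subspace is at most its dimension. -/
theorem pow_finrank_apply {F V : Type*} [Field F] [AddCommGroup V] [Module F V] [FiniteDimensional F V]
    {T : Module.End F V} {n : ℕ} (hT : T ^ n = 0) :
    ∀ (d : ℕ) {Y : Submodule F V}, (∀ v ∈ Y, T v ∈ Y) → finrank F Y ≤ d → ∀ v ∈ Y, (T ^ d) v = 0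
  | 0, Y, _, hd, v, hv => by
    have : Y = ⊥ := Submodule.finrank_eq_zero.1 (Nat.le_zero.1 hd)
    rw [this, Submodule.mem_bot] at hv
    rw [hv, map_zero]
  | d + 1, Y, hY, hd, v, hv => by
    rcases eq_or_ne Y ⊥ with rfl | hY0
    · rw [(Submodule.mem_bot F).1 hv, map_zero]
    · rw [pow_succ, Module.End.mul_apply]
      refine pow_finrank_apply hT d (Y := Y.map T) ?_ ?_ _ ⟨v, hv, rfl⟩
      · rintro _ ⟨w, hw, rfl⟩; exact ⟨T w, hY w hw, rfl⟩
      · have := finrank_map_lt hT hY hY0
        omega

variable {ι : Type} [Fintype ι] [DecidableEq ι] {F : Type*} [Field F]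
  {Q : (ι → F) → F} {B : LinearMap.BilinForm F (ι → F)}

/-- The skew map of two vectors. -/
def wedge (B : LinearMap.BilinForm F (ι → F)) (a b : ι → F) : Module.End F (ι → F) :=
  (B.flip a).smulRight b - (B.flip b).smulRight a

theorem wedge_apply (a b v : ι → F) : wedge B a b v = B v a • b - B v b • a := rfl

/-- A skew nilpotent map with a single chain of odd length. -/
theorem exists_skew [Finite F] (C : Space Q B) (h2 : (2 : F) ≠ 0) {Y : Submodule F (ι → F)} (hY : NDeg B Y) {k : ℕ}
    (hk : 2 * k + 1 ≤ finrank F Y) :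
    ∃ N : Module.End F (ι → F), (∀ a b, B (N a) b = -B a (N b)) ∧ (∀ v, N v ∈ Y) ∧
      (∀ v, (∀ y ∈ Y, B v y = 0) → N v = 0) ∧ N ^ (2 * k + 1) = 0 ∧ ∃ w ∈ Y, (N ^ (2 * k)) w ≠ 0 := by
  obtain ⟨e, f, W, hF, hmem, hW, hWd, hWY, hWo⟩ :=
    exists_pairs C (r := finrank F Y - 2 * k) (by omega) k Y hY (by omega)
  obtain ⟨x, hx, hQx⟩ := exists_nonsing C hW (fun h => by rw [h, finrank_bot] at hWd; omega)
  rcases Nat.eq_zero_or_pos k with rfl | hk0
  · refine ⟨0, fun a b => by simp, fun v => by simp, fun v _ => rfl, by simp, x, hWY hx, ?_⟩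
    simpa using fun h : x = 0 => hQx (h ▸ C.zero)
  let z : Fin k → ι → F := fun i => if h : i.1 + 1 < k then e ⟨i.1 + 1, h⟩ else x
  let c : ℕ → ι → F := fun l => if h : l < k then e ⟨l, h⟩ else if h' : k < l ∧ l ≤ 2 * k then f ⟨2 * k - l, by omega⟩
    else if l = k then x else 0
  have hzc : ∀ i : Fin k, z i = c (i.1 + 1) := fun i => by
    simp only [z, c]
    split_ifs with h h' h'' <;> first | rfl | omega
  have hfc : ∀ i : Fin k, f i = c (2 * k - i.1) := fun i => by
    have := i.2
    simp only [c]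
    rw [dif_neg (by omega), dif_pos (by omega)]
    congr 1
    exact Fin.ext (by simp only; omega)
  have hee : ∀ i j, B (e i) (e j) = 0 := fun i j => by
    rcases eq_or_ne i j with rfl | h
    exacts [C.self_zero (hF.singE i), hF.ee i j h]
  have hff : ∀ i j, B (f i) (f j) = 0 := fun i j => by
    rcases eq_or_ne i j with rfl | h
    exacts [C.self_zero (hF.singF i), hF.ff i j h]
  have hef : ∀ i j, B (e i) (f j) = if i = j then 1 else 0 := fun i j => by
    rcases eq_or_ne i j with rfl | h
    · rw [if_pos rfl]; exact hF.pair i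
    · rw [if_neg h]; exact hF.ef i j h
  set N : Module.End F (ι → F) := ∑ i, wedge B (f i) (z i) with hN
  have hNv : ∀ v, N v = ∑ i, (B v (f i) • z i - B v (z i) • f i) := fun v => by
    simp [hN, LinearMap.sum_apply, wedge_apply]
  have hNe : ∀ j : Fin k, N (e j) = z j := fun j => by
    rw [hNv]
    have hz0 : ∀ i, B (e j) (z i) = 0 := fun i => by
      simp only [z]; split_ifs
      exacts [hee _ _, (hWo j x hx).1]
    simp [hef, hz0]
  let last : Fin k := ⟨k - 1, by omega⟩
  have hNx : N x = (-(2 * Q x)) • f last := by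
    rw [hNv, Finset.sum_eq_single last]
    · have hzl : z last = x := dif_neg (show ¬ (k - 1 + 1 < k) by omega)
      rw [C.symm x (f last), (hWo last x hx).2, zero_smul, zero_sub, hzl, C.self, neg_smul]
    · intro i _ hi
      have : i.1 + 1 < k := by
        have := i.2; by_contra hh
        exact hi (Fin.ext (by simp only [last]; omega))
      rw [C.symm x (f i), (hWo i x hx).2, show z i = e ⟨i.1 + 1, this⟩ from dif_pos this,
        C.symm x (e _), (hWo _ x hx).1]
      simp
    · simp
  have hNf : ∀ j : Fin k, N (f j) = if h : 0 < j.1 then -f ⟨j.1 - 1, by omega⟩ else 0 := fun j => by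
    rw [hNv]
    have hz : ∀ i, B (f j) (z i) = if i.1 + 1 = j.1 then 1 else 0 := fun i => by
      simp only [z]
      split_ifs with h h' h''
      · rw [C.symm, hef, if_pos (Fin.ext h')]
      · rw [C.symm, hef, if_neg (fun hh => h' (congrArg Fin.val hh))]
      · omega
      · exact (hWo j x hx).2
    split_ifs with hj
    · rw [Finset.sum_eq_single (⟨j.1 - 1, by omega⟩ : Fin k)]
      · rw [hff, hz, if_pos (by simp only; omega)]; simp
      · intro i _ hi
        rw [hff, hz, if_neg (fun hh => hi (Fin.ext (by simp only; omega)))]; simp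
      · simp
    · refine Finset.sum_eq_zero fun i _ => ?_
      rw [hff, hz, if_neg (by omega)]; simp
  have hstep : ∀ l, ∃ a : F, N (c l) = a • c (l + 1) ∧ (l < 2 * k → a ≠ 0) := by
    intro l
    by_cases h1 : l < k
    · refine ⟨1, ?_, fun _ => one_ne_zero⟩
      rw [show c l = e ⟨l, h1⟩ from dif_pos h1, hNe, one_smul, hzc]
    by_cases h2' : k < l ∧ l ≤ 2 * k
    · have hcl : c l = f ⟨2 * k - l, by omega⟩ := by simp only [c]; rw [dif_neg h1, dif_pos h2']
      rw [hcl, hNf]
      rcases Nat.lt_or_ge l (2 * k) with h3 | h3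
      · refine ⟨-1, ?_, fun _ => neg_ne_zero.2 one_ne_zero⟩
        rw [dif_pos (by simp only; omega), neg_one_smul, hfc]
        congr 1
        congr 1
        simp only; omega
      · exact ⟨0, by rw [dif_neg (by simp only; omega), zero_smul], fun h => absurd h (by omega)⟩
    by_cases h3 : l = k
    · subst h3
      refine ⟨-(2 * Q x), ?_, fun _ => neg_ne_zero.2 (mul_ne_zero h2 hQx)⟩
      rw [show c l = x by simp [c], hNx, hfc]
      congr 2
      simp only [last]; omega
    · refine ⟨0, ?_, fun h => absurd h (by omega)⟩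
      rw [show c l = 0 by simp only [c]; rw [dif_neg h1, dif_neg h2', if_neg h3], map_zero, zero_smul]
  have hcY : ∀ l, c l ∈ Y := fun l => by
    simp only [c]
    split_ifs
    exacts [(hmem _).1, (hmem _).2, hWY hx, Y.zero_mem]
  let S : ℕ → Submodule F (ι → F) := fun j => Submodule.span F (c '' Set.Ici j)
  have hS : ∀ v, ∀ j, (N ^ (j + 1)) v ∈ S (j + 1) := by
    intro v j
    induction j with
    | zero =>
      rw [zero_add, pow_one, hNv]
      refine Submodule.sum_mem _ fun i _ => Submodule.sub_mem _ (Submodule.smul_mem _ _ ?_) (Submodule.smul_mem _ _ ?_)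
      · rw [hzc]; exact Submodule.subset_span ⟨_, by simp, rfl⟩
      · rw [hfc]; exact Submodule.subset_span ⟨_, by simp; omega, rfl⟩
    | succ j ih =>
      rw [pow_succ' (n := j + 1), Module.End.mul_apply]
      refine (show S (j + 1) ≤ (S (j + 1 + 1)).comap N from ?_) ih
      refine Submodule.span_le.2 ?_
      rintro _ ⟨l, hl, rfl⟩
      obtain ⟨a, ha, -⟩ := hstep l
      show N (c l) ∈ S (j + 1 + 1)
      rw [ha]
      exact Submodule.smul_mem _ _ (Submodule.subset_span ⟨l + 1, by simp at hl ⊢; omega, rfl⟩)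
  refine ⟨N, fun a b => ?_, fun v => ?_, fun v hv => ?_, LinearMap.ext fun v => ?_, e ⟨0, hk0⟩, (hmem _).1, ?_⟩
  · simp only [hN, LinearMap.sum_apply, map_sum, ← Finset.sum_neg_distrib]
    refine Finset.sum_congr rfl fun i _ => ?_
    simp only [wedge_apply, map_sub, map_smul, LinearMap.sub_apply, LinearMap.smul_apply, smul_eq_mul, C.symm b (f i),
      C.symm b (z i)]
    ring
  · rw [hNv]
    refine Submodule.sum_mem _ fun i _ => Y.sub_mem (Y.smul_mem _ ?_) (Y.smul_mem _ (hmem i).2)
    rw [hzc]; exact hcY _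
  · rw [hNv]
    refine Finset.sum_eq_zero fun i _ => ?_
    rw [hv _ (hmem i).2, hv _ (by rw [hzc]; exact hcY _), zero_smul, zero_smul, sub_zero]
  · have h := hS v (2 * k)
    have hbot : S (2 * k + 1) = ⊥ := by
      refine Submodule.span_eq_bot.2 ?_
      rintro _ ⟨l, hl, rfl⟩
      simp only [Set.mem_Ici] at hl
      simp only [c]
      rw [dif_neg (by omega), dif_neg (by omega), if_neg (by omega)]
    rw [hbot, Submodule.mem_bot] at h
    rw [h, LinearMap.zero_apply]
  · have : ∀ l, l ≤ 2 * k → ∃ a : F, a ≠ 0 ∧ (N ^ l) (e ⟨0, hk0⟩) = a • c l := by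
      intro l
      induction l with
      | zero => exact fun _ => ⟨1, one_ne_zero, by rw [one_smul, pow_zero, Module.End.one_apply]; simp only [c]; rw [dif_pos hk0]⟩
      | succ l ih =>
        intro hl
        obtain ⟨a, ha, hal⟩ := ih (by omega)
        obtain ⟨b, hb, hb0⟩ := hstep l
        exact ⟨a * b, mul_ne_zero ha (hb0 (by omega)), by
          rw [pow_succ', Module.End.mul_apply, hal, map_smul, hb, smul_smul]⟩
    obtain ⟨a, ha, hal⟩ := this (2 * k) le_rfl
    rw [hal]
    refine smul_ne_zero ha ?_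
    have hc2k : c (2 * k) = f ⟨0, hk0⟩ := by
      rw [show c (2 * k) = f ⟨2 * k - 2 * k, by omega⟩ by simp only [c]; rw [dif_neg (by omega), dif_pos (by omega)]]
      simp
    rw [hc2k]
    intro h
    have := hF.pair ⟨0, hk0⟩
    rw [h, map_zero] at this
    exact zero_ne_one this

/-- A unipotent isometry supported on `Y` with one Jordan block of odd length `r`. -/
theorem exists_unip [Finite F] (p : ℕ) [hp : Fact p.Prime] [CharP F p] (C : Space Q B) (h2 : (2 : F) ≠ 0)
    {Y : Submodule F (ι → F)} (hY : NDeg B Y) {r : ℕ} (hr : Odd r) (hrY : r ≤ finrank F Y) :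
    ∃ u : ↥(isometryGroup F Q), (∀ v, (∀ y ∈ Y, B v y = 0) → lin (u : GL ι F) v = v) ∧
      (∀ v ∈ Y, lin (u : GL ι F) v ∈ Y) ∧ (lin (u : GL ι F) - 1) ^ r = 0 ∧
      (∃ a, u ^ p ^ a = 1) ∧ ∃ w ∈ Y, ((lin (u : GL ι F) - 1) ^ (r - 1)) w ≠ 0 := by
  obtain ⟨k, rfl⟩ := hr
  obtain ⟨N, hskew, hNY, hN0, hNr, w, hw, hNw⟩ := exists_skew C h2 hY hrY
  set r := 2 * k + 1
  set P : Module.End F (ι → F) := ∑ i ∈ Finset.range r, N ^ i with hP
  have hNP : Commute N P := Commute.sum_right _ _ _ fun i _ => Commute.self_pow N i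
  have hinv : (1 - N) * P = 1 := by
    rw [hP, mul_neg_geom_sum, hNr]; exact LinearMap.ext fun v => by simp
  set T := (1 + N) * P with hT
  have hT1 : T - 1 = (2 : F) • (N * P) := by
    refine LinearMap.ext fun v => ?_
    have h := LinearMap.congr_fun hinv v
    simp only [Module.End.mul_apply, LinearMap.sub_apply, Module.End.one_apply] at h
    simp only [hT, Module.End.mul_apply, LinearMap.sub_apply, LinearMap.add_apply, Module.End.one_apply,
      LinearMap.smul_apply]
    conv_lhs => arg 2; rw [← h]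
    module
  have hpow : ∀ j, (T - 1) ^ j = (2 : F) ^ j • (N ^ j * P ^ j) := fun j => by rw [hT1, smul_pow, hNP.mul_pow]
  have hTr : (T - 1) ^ r = 0 := by rw [hpow, hNr]; exact LinearMap.ext fun v => by simp
  have hTa : T ^ p ^ r = 1 := by
    refine LinearMap.ext fun v => sub_eq_zero.1 ?_
    rw [← LinearMap.sub_apply, ← sub_one_pow_char p T,
      ← Nat.sub_add_cancel (Nat.lt_pow_self hp.out.one_lt).le, pow_add, hTr, Module.End.mul_apply,
      LinearMap.zero_apply, map_zero]
  have hTB : ∀ a b, B (T a) (T b) = B a b := fun a b => by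
    have ha := LinearMap.congr_fun hinv a
    have hb := LinearMap.congr_fun hinv b
    simp only [Module.End.mul_apply, LinearMap.sub_apply, Module.End.one_apply] at ha hb
    conv_rhs => rw [← ha, ← hb]
    simp only [hT, Module.End.mul_apply, LinearMap.add_apply, Module.End.one_apply, map_add, map_sub,
      LinearMap.sub_apply, hskew]
    ring
  have hQ : ∀ v, Q (T v) = Q v := fun v => mul_left_cancel₀ h2 (by rw [← C.self, ← C.self, hTB])
  have hp1 : p ^ r - 1 + 1 = p ^ r := Nat.sub_add_cancel (Nat.one_le_pow _ _ hp.out.pos)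
  obtain ⟨u, hu⟩ := exists_iso_of_end T (T ^ (p ^ r - 1)) (by rw [← pow_succ', hp1, hTa])
    (by rw [← pow_succ, hp1, hTa]) hQ
  have hNjY : ∀ i v, v ∈ Y → (N ^ i) v ∈ Y := fun i v hv => by
    cases i with
    | zero => simpa using hv
    | succ i => rw [pow_succ', Module.End.mul_apply]; exact hNY _
  refine ⟨u, ?_, ?_, ?_, ⟨r, Subtype.ext (lin_injective ?_)⟩, w, hw, ?_⟩
  · intro v hv
    rw [hu]
    have hi : ∀ i, (N ^ (i + 1)) v = 0 := fun i => by rw [pow_succ, Module.End.mul_apply, hN0 v hv, map_zero]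
    have hPv : P v = v := by
      rw [hP, LinearMap.sum_apply, show r = 2 * k + 1 from rfl, Finset.sum_range_succ']
      simp [hi]
    rw [hT, Module.End.mul_apply, hPv, LinearMap.add_apply, hN0 v hv, add_zero, Module.End.one_apply]
  · intro v hv
    rw [hu, hT, Module.End.mul_apply, LinearMap.add_apply, Module.End.one_apply]
    refine Y.add_mem ?_ (hNY _)
    rw [hP, LinearMap.sum_apply]
    exact Y.sum_mem fun i _ => hNjY i v hv
  · rw [hu]; exact hTr
  · rw [SubmonoidClass.coe_pow, map_pow, hu, hTa, OneMemClass.coe_one, map_one]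
  · rw [hu, hpow, LinearMap.smul_apply, Module.End.mul_apply]
    refine smul_ne_zero (pow_ne_zero _ h2) ?_
    have hone : ∀ j, (N ^ (r - 1)) ((P ^ j) w) = (N ^ (r - 1)) w := by
      intro j
      induction j with
      | zero => rfl
      | succ j ih =>
        rw [pow_succ', Module.End.mul_apply, hP, LinearMap.sum_apply, map_sum,
          Finset.sum_eq_single 0, pow_zero, Module.End.one_apply, ih]
        · intro i _ hi
          rw [← Module.End.mul_apply, ← pow_add, show r - 1 + i = r + (i - 1) by omega, pow_add, hNr,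
            Module.End.mul_apply, LinearMap.zero_apply]
        · intro h; exact absurd (Finset.mem_range.2 (by omega)) h
    rw [hone]
    exact hNw

/-- On an even dimensional non-degenerate subspace a unipotent isometry is not regular. -/
theorem not_regular (C : Space Q B) (h2 : (2 : F) ≠ 0) {Y : Submodule F (ι → F)} (hYn : NDeg B Y) {T : Module.End F (ι → F)}
    (hB : ∀ a b, B (T a) (T b) = B a b) (hY : ∀ v ∈ Y, T v ∈ Y) {n : ℕ}
    (hnil : (T - 1) ^ n = 0) (hev : Even (finrank F Y)) (hd : finrank F Y ≠ 0) :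
    ∀ v ∈ Y, ((T - 1) ^ (finrank F Y - 1)) v = 0 := by
  set X := T - 1 with hX
  set d := finrank F Y
  have hXY : ∀ v ∈ Y, X v ∈ Y := fun v hv => Y.sub_mem (hY v hv) hv
  have hXd : ∀ v ∈ Y, (X ^ d) v = 0 := pow_finrank_apply hnil d hXY le_rfl
  have hpowY : ∀ j, ∀ v ∈ Y, (X ^ j) v ∈ Y := fun j => by
    induction j with
    | zero => exact fun v hv => by simpa using hv
    | succ j ih => exact fun v hv => by rw [pow_succ', Module.End.mul_apply]; exact hXY _ (ih v hv)
  -- the image has dimension at most one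
  have hdim : ∀ j, j ≤ d → finrank F (Y.map (X ^ j)) ≤ d - j := by
    intro j
    induction j with
    | zero => intro _; rw [pow_zero, Module.End.one_eq_id, Submodule.map_id]; omega
    | succ j ih =>
      intro hj
      have := ih (by omega)
      rw [pow_succ', Module.End.mul_eq_comp, Submodule.map_comp]
      by_cases h0 : Y.map (X ^ j) = ⊥
      · rw [h0, Submodule.map_bot, finrank_bot]; omega
      · have := finrank_map_lt hnil (Y := Y.map (X ^ j)) (by
          rintro _ ⟨v, hv, rfl⟩
          exact ⟨X v, hXY v hv, by rw [← Module.End.mul_apply, ← pow_succ, pow_succ', Module.End.mul_apply]⟩) h0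
        omega
  have hle : finrank F (Y.map (X ^ (d - 1))) ≤ 1 := (hdim (d - 1) (Nat.sub_le _ _)).trans (by omega)
  -- skewness
  have hskew : ∀ j, j < d → ∀ a ∈ Y, ∀ b ∈ Y, (X ^ (j + (d - j))) b = 0 →
      B ((X ^ j) a) ((X ^ (d - 1 - j)) b) = (-1) ^ j * B a ((X ^ (d - 1)) b) := by
    intro j
    induction j with
    | zero => intro _ a _ b _ _; simp
    | succ j ih =>
      intro hj a ha b hb hzero
      set y := (X ^ (d - 1 - (j + 1))) b with hy
      have hXy : X y = (X ^ (d - 1 - j)) b ∨ d ≤ j + 1 := by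
        by_cases h : d ≤ j + 1
        · exact Or.inr h
        · left
          rw [hy, ← Module.End.mul_apply, ← pow_succ', show d - 1 - (j + 1) + 1 = d - 1 - j by omega]
      rcases hXy with hXy | hXy
      · -- `B (X c) y = -B (T c) (X y)` and `T` is the identity on the image
        have e1 : ∀ c, B (X c) y = -B (T c) (X y) := fun c => by
          have h1 : T c = X c + c := by simp [hX]
          have h2' : T y = X y + y := by simp [hX]
          have h3 := hB c y
          rw [h2', map_add] at h3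
          have h4 : B (T c) y = B (X c) y + B c y := by rw [h1, map_add, LinearMap.add_apply]
          linear_combination h3 - h4
        rw [show (X ^ (j + 1)) a = X ((X ^ j) a) by rw [pow_succ', Module.End.mul_apply], e1,
          show T ((X ^ j) a) = (X ^ j) (T a) by
            rw [← Module.End.mul_apply, ← Module.End.mul_apply]
            exact LinearMap.congr_fun (((Commute.refl T).sub_right (Commute.one_right T)).pow_right j).eq a,
          hXy, ih (by omega) (T a) (hY a ha) b hb (hXd b hb ▸ by rw [Nat.add_sub_cancel' (by omega : j ≤ d)])]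
        have h5 : B (T a) ((X ^ (d - 1)) b) = B a ((X ^ (d - 1)) b) := by
          have h6 : T ((X ^ (d - 1)) b) = (X ^ (d - 1)) b := sub_eq_zero.1 (by
            show X ((X ^ (d - 1)) b) = 0
            rw [← Module.End.mul_apply, ← pow_succ', Nat.sub_add_cancel (Nat.one_le_iff_ne_zero.2 hd)]
            exact hXd b hb)
          conv_lhs => rw [← h6]
          exact hB _ _
        rw [h5, pow_succ]; ring
      · -- the last step
        omega
  have hanti : ∀ a ∈ Y, ∀ b ∈ Y, B ((X ^ (d - 1)) a) b = -B a ((X ^ (d - 1)) b) := fun a ha b hb => by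
    have h := hskew (d - 1) (by omega) a ha b hb (by rw [Nat.add_sub_cancel' (Nat.sub_le _ _)]; exact hXd b hb)
    rw [Nat.sub_self, pow_zero, Module.End.one_apply] at h
    rw [h, (show Odd (d - 1) by obtain ⟨c, hc⟩ := hev; exact ⟨c - 1, by omega⟩).neg_one_pow, neg_one_mul]
  intro v hv
  by_contra hne
  obtain ⟨w, hw, hBw⟩ : ∃ w ∈ Y, B ((X ^ (d - 1)) v) w ≠ 0 := by
    by_contra hall
    push Not at hall
    exact hne (hYn _ (hpowY _ v hv) hall)
  set c := (X ^ (d - 1)) v with hc
  have hspan : ∀ b ∈ Y, ∃ t : F, (X ^ (d - 1)) b = t • c := fun b hb => by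
    have h1 : Y.map (X ^ (d - 1)) = Submodule.span F {c} := by
      refine (Submodule.eq_of_le_of_finrank_le ?_ ?_).symm
      · rw [Submodule.span_singleton_le_iff_mem]; exact ⟨v, hv, rfl⟩
      · rw [finrank_span_singleton hne]; exact hle
    obtain ⟨t, ht⟩ := Submodule.mem_span_singleton.1 (h1 ▸ Submodule.mem_map_of_mem hb)
    exact ⟨t, ht.symm⟩
  have hdiag : ∀ b ∈ Y, B b ((X ^ (d - 1)) b) = 0 := fun b hb => by
    have := hanti b hb b hb
    rw [C.symm] at this
    exact (mul_eq_zero.1 (show (2 : F) * B b ((X ^ (d - 1)) b) = 0 by linear_combination this)).resolve_left h2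
  obtain ⟨t, ht⟩ := hspan w hw
  have h1 := hdiag w hw
  rw [ht, map_smul, smul_eq_mul, mul_eq_zero, C.symm w c] at h1
  have ht0 : t = 0 := h1.resolve_right hBw
  have hwv := hanti v hv w hw
  rw [ht, ht0, zero_smul, map_zero, neg_zero] at hwv
  exact hBw hwv

end Cfsg.Lib.Spec.NineEight
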